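import Cfsg.Agent.TO.T3.LS
import Cfsg.Agent.TO.X3N.Df

/-!
# S4817, `p = 3`, type `E₈`: the box `ALL` (helper19)
-/

set_option autoImplicit false
set_option linter.unusedSectionVars false

namespace Cfsg.Agent.TO.X3N

open Cfsg Subgroup Cfsg.Agent.TO.T3
open Cfsg.Agent.H665.NoPQ (HasDZ)

variable {Y : Type} [Group Y] {Φ : MulAut Y}

theorem lam_mul {Z : Subgroup Y} {g g' : Y} (h' : Φ g' * g'⁻¹ ∈ Z) (hc : g ∈ Ce Z) :
    Φ (g * g') * (g * g')⁻¹ = Φ g * g⁻¹ * (Φ g' * g'⁻¹) := by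
  rw [map_mul, mul_assoc (Φ g) g⁻¹, ← ce_comm (inv_mem hc) h']
  group

/-- the Lang map, when its values are central -/
def lam {V : Type} [Group V] (a : V →* Y) (Z : Subgroup Y) (h1 : ∀ v, Φ (a v) * (a v)⁻¹ ∈ Z) (h2 : ∀ v, a v ∈ Ce Z) :
    V →* Z :=
  MonoidHom.mk' (fun v => ⟨_, h1 v⟩) fun v w => Subtype.ext (by
    show Φ (a (v * w)) * (a (v * w))⁻¹ = _
    rw [map_mul a, lam_mul (h1 w) (h2 v)]
    rfl)

theorem mem_ker_lam {V : Type} [Group V] {a : V →* Y} {Z : Subgroup Y} {h1 : ∀ v, Φ (a v) * (a v)⁻¹ ∈ Z}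
    {h2 : ∀ v, a v ∈ Ce Z} {v : V} : v ∈ (lam a Z h1 h2).ker ↔ Φ (a v) = a v := by
  rw [MonoidHom.mem_ker, Subtype.ext_iff]
  exact mul_inv_eq_one

theorem ce_symm {S T : Subgroup Y} (h : S ≤ Ce T) : T ≤ Ce S := le_centralizer_iff.1 h

theorem not_mem_symm {u v : Y} (hu : u ≠ 1) (hv : v ^ 3 = 1) (h : v ∉ zpowers u) : u ∉ zpowers v := fun h1 => by
  rcases cases_of_mem hv h1 with e | e | e
  · exact hu e
  · exact h (e ▸ mem_zpowers u)
  · refine h ?_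
    rw [show v = u ^ 2 by rw [e, ← pow_mul, pow_succ, hv, one_mul]]
    exact pow_mem (mem_zpowers u) 2

variable {P : Pk Y Φ}

theorem conj_PP {z c s : Y} (h : P.Ty z) (hz : Φ z = z) (hc : Φ c = c) (h1 : c * z = z * c) (hs : s ∈ P.PP h hz) :
    c * s * c⁻¹ ∈ P.PP h hz := by
  refine ⟨P.conj_mem h h1 hs.1, ?_⟩
  obtain ⟨i, hi⟩ := hs.2
  refine ⟨i, ?_⟩
  show z ^ i = _
  rw [show Φ (c * s * c⁻¹) * (c * s * c⁻¹)⁻¹ = c * (Φ s * s⁻¹) * c⁻¹ by rw [map_mul, map_mul, map_inv, hc]; group, ← hi,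
    (Commute.zpow_right h1 i).eq, mul_inv_cancel_right]

variable {G : Type} [Group G] [Finite G] {ι : G →* Y}

/-- the group `PGL₃(q)` or `PGU₃(q)` -/
theorem exists_quot (hf : ∀ g, Φ g = g → g ∈ ι.range) (nd : P.ND) {z : Y} (h : P.Ty z) (hz : Φ z = z) :
    ∃ (N : Type) (_ : Group N) (_ : Finite N) (f : P.PP h hz →* N), Function.Surjective f ∧
      (∀ s, f s = 1 ↔ (s : Y) ∈ zpowers z) ∧ ¬ HasDZ 3 N := by
  have h1 : Finite (zpowers z) := finite_zpowers.2 (isOfFinOrder_iff_pow_eq_one.2 ⟨3, by decide, P.ty3 z h⟩)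
  have h2 : Finite ι.range := Finite.of_surjective _ ι.rangeRestrict_surjective
  let l := lam (Φ := Φ) (P.PP h hz).subtype (zpowers z) (fun v => v.2.2) fun v => ce_symm (P.zp_le h) v.2.1
  have h3 : Finite l.ker := Finite.of_injective (fun v => (⟨_, hf _ (mem_ker_lam.1 v.2)⟩ : ι.range)) fun v w e =>
    Subtype.ext (Subtype.ext (Subtype.mk.inj e))
  have h4 : Finite (P.PP h hz) := l.finite_iff_finite_ker_range.2 ⟨h3, inferInstance⟩
  have h5 : ((zpowers z).subgroupOf (P.PP h hz)).Normal := ⟨fun n hn g => by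
    show (g : Y) * n * (g : Y)⁻¹ ∈ zpowers z
    rw [ce_comm (P.zp_le h (mem_subgroupOf.1 hn)) g.2.1, mul_inv_cancel_right]
    exact hn⟩
  have h6 : ∀ s, QuotientGroup.mk' ((zpowers z).subgroupOf (P.PP h hz)) s = 1 ↔ (s : Y) ∈ zpowers z := fun s =>
    QuotientGroup.eq_one_iff s
  exact ⟨_, inferInstance, inferInstance, _, QuotientGroup.mk'_surjective _, h6,
    nd z h hz _ _ (QuotientGroup.mk'_surjective _) h6⟩

variable {A : Subgroup (MulAut G)} {Q : Subgroup G}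

theorem pl_of (s : Sit P ι A Q) {u v : G} (hu : u ∈ Q) (hv : v ∈ Q) (hc : v * u = u * v) (h1 : u ≠ 1)
    (h2 : v ∉ zpowers u) : Pl P.Ty (ι u) (ι v) := by
  refine ⟨by rw [← map_mul, ← map_mul, hc], s.tyQ hu h1, s.tyQ hv fun e => h2 (e ▸ one_mem _), ?_, ?_⟩
  · rw [← map_mul]
    exact s.tyQ (mul_mem hv hu) fun e => h2 (eq_inv_of_mul_eq_one_left e ▸ inv_mem (mem_zpowers u))
  · rw [← map_inv, ← map_mul]
    exact s.tyQ (mul_mem hv (inv_mem hu)) fun e => h2 (mul_inv_eq_one.1 e ▸ mem_zpowers u)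

theorem two_of (s : Sit P ι A Q) {u v : G} (hu : u ∈ Q) (hv : v ∈ Q) (hc : v * u = u * v) (h1 : u ≠ 1)
    (h2 : v ∉ zpowers u) (h3 : ι v ∈ Ce (P.S (ι u))) : P.S (ι v) ≤ Ce (P.S (ι u)) :=
  P.two _ _ (pl_of s hu hv hc h1 h2) h3

/-- three commuting components -/
theorem three_comp (hf : ∀ g, Φ g = g → g ∈ ι.range) (nd : P.ND) {B : Subgroup Y} (dz : DZy Φ B) {x y z : Y}
    (hx : P.Ty x) (hy : P.Ty y) (hz : P.Ty z) (fx : Φ x = x) (fy : Φ y = y) (fz : Φ z = z) (bx : x ∈ B) (by' : y ∈ B)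
    (e : z = y * x) (cx : B ≤ Ce (P.S x)) (cy : B ≤ Ce (P.S y)) (cz : B ≤ Ce (P.S z)) (xy : P.S y ≤ Ce (P.S x))
    (xz : P.S z ≤ Ce (P.S x)) (yz : P.S z ≤ Ce (P.S y)) : False := by
  obtain ⟨N1, _, _, f1, s1, k1, n1⟩ := exists_quot hf nd hx fx
  obtain ⟨N2, _, _, f2, s2, k2, n2⟩ := exists_quot hf nd hy fy
  obtain ⟨N3, _, _, f3, s3, k3, n3⟩ := exists_quot hf nd hz fz
  have bz : z ∈ B := e ▸ mul_mem by' bx
  let a2 := (P.PP hy fy).subtype.noncommCoprod (P.PP hz fz).subtype fun m n => ce_comm (yz n.2.1) m.2.1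
  let a := (P.PP hx fx).subtype.noncommCoprod a2 fun m n => ce_comm (mul_mem (xy n.1.2.1) (xz n.2.2.1)) m.2.1
  have ha : ∀ v, a v = v.1 * (v.2.1 * v.2.2) := fun _ => rfl
  let μ := (zpowers x).subtype.noncommCoprod (zpowers y).subtype fun m n =>
    ce_comm (zpowers_le.2 (cx by') n.2) (zpowers_le.2 (P.mem x hx) m.2)
  have z1 : zpowers x ≤ μ.range := fun u hu => ⟨(⟨u, hu⟩, 1), mul_one u⟩
  have z2 : zpowers y ≤ μ.range := fun u hu => ⟨(1, ⟨u, hu⟩), one_mul u⟩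
  have z3 : zpowers z ≤ μ.range := zpowers_le.2 (e ▸ mul_mem (z2 (mem_zpowers y)) (z1 (mem_zpowers x)))
  have zB : μ.range ≤ B := by
    rintro _ ⟨u, rfl⟩
    exact mul_mem (zpowers_le.2 bx u.1.2) (zpowers_le.2 by' u.2.2)
  have aB : ∀ v, a v ∈ Ce B := fun v =>
    mul_mem (ce_symm cx v.1.2.1) (mul_mem (ce_symm cy v.2.1.2.1) (ce_symm cz v.2.2.2.1))
  have h1 : ∀ v, Φ (a v) * (a v)⁻¹ ∈ μ.range := fun v => by
    have h2 := lam_mul (z3 v.2.2.2.2) (ce_symm (zB.trans cy) v.2.1.2.1)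
    have h3 := mul_mem (z2 v.2.1.2.2) (z3 v.2.2.2.2)
    rw [← h2] at h3
    rw [ha, lam_mul h3 (ce_symm (zB.trans cx) v.1.2.1)]
    exact mul_mem (z1 v.1.2.2) h3
  let l := lam a μ.range h1 fun v => centralizer_le zB (aB v)
  let b := f1.prodMap (f2.prodMap f3)
  have hb : Function.Surjective b := s1.prodMap (s2.prodMap s3)
  have hN : (l.ker.map b).Normal := Normal.map inferInstance b hb
  have h4 : (l.ker.map b).index ∣ 3 ^ 2 := by
    refine (index_map_dvd _ hb).trans ?_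
    rw [index_ker]
    refine (card_subgroup_dvd_card _).trans ((card_range_dvd μ).trans ?_)
    rw [Nat.card_prod, Nat.card_zpowers, Nat.card_zpowers, pow_two]
    exact mul_dvd_mul (orderOf_dvd_of_pow_eq_one (P.ty3 x hx)) (orderOf_dvd_of_pow_eq_one (P.ty3 y hy))
  refine nd3 n1 n2 n3 (l.ker.map b) ?_ (dz l.ker _ (a.comp l.ker.subtype) (b.subgroupMap l.ker)
    (b.subgroupMap_surjective _) (fun w => (mem_ker_lam (a := a)).1 w.2) (fun w d hd => ce_comm (aB w) hd) (fun c hc h5 w => ?_)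
    fun w => ?_)
  · obtain ⟨k, hk, h5⟩ := (Nat.dvd_prime_pow Nat.prime_three).1 h4
    rw [h5, Nat.prime_three.factorization_pow, Finsupp.single_eq_same]
    exact hk
  · have h6 : a (⟨_, conj_PP hx fx hc (h5 x bx).symm w.1.1.2⟩, ⟨_, conj_PP hy fy hc (h5 y by').symm w.1.2.1.2⟩,
        ⟨_, conj_PP hz fz hc (h5 z bz).symm w.1.2.2.2⟩) = c * a w * c⁻¹ := by
      rw [ha, ha]
      group
    refine ⟨⟨_, mem_ker_lam.2 ?_⟩, h6⟩
    rw [h6, map_mul, map_mul, map_inv, hc, mem_ker_lam.1 w.2]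
  · obtain ⟨⟨g1, g2, g3⟩, hw⟩ := w
    rw [Subtype.ext_iff]
    show (f1 g1, f2 g2, f3 g3) = 1 ↔ (g1 : Y) * (g2 * g3) ∈ B
    rw [Prod.mk_eq_one, Prod.mk_eq_one, k1, k2, k3]
    refine ⟨fun h => mul_mem (zpowers_le.2 bx h.1) (mul_mem (zpowers_le.2 by' h.2.1) (zpowers_le.2 bz h.2.2)),
      fun h => ⟨P.int x hx _ g1.2.1 ?_, P.int y hy _ g2.2.1 ?_, P.int z hz _ g3.2.1 ?_⟩⟩
    · exact (mul_mem_cancel_right (mul_mem (xy g2.2.1) (xz g3.2.1))).1 (cx h)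
    · exact (mul_mem_cancel_right (yz g3.2.1)).1 ((mul_mem_cancel_left (ce_symm xy g1.2.1)).1 (cy h))
    · exact (mul_mem_cancel_left (ce_symm yz g2.2.1)).1 ((mul_mem_cancel_left (ce_symm xz g1.2.1)).1 (cz h))

theorem dzy_of {M : Ideal AlgInt} {b : Set (IrrCharacter G)} (h : H8 P ι M b Q) : DZy Φ (Q.map ι) :=
  dzy_of_block h.hyp.hM h.hyp.hb h.hyp.hD h.sit.inj fun y => ⟨h.full.full y, by rintro ⟨x, rfl⟩; exact h.sit.fix x⟩

end Cfsg.Agent.TO.X3N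

namespace Cfsg.Agent.TO.T3

open Cfsg Subgroup Cfsg.Agent.TO.X3N

theorem boxALL : BoxALL := by
  intro Y _ Φ P G _ _ ι M b D h ⟨h1, h2⟩
  have s := h.sit
  obtain ⟨x, hx, x1⟩ : ∃ x ∈ D, x ≠ 1 := by
    by_contra h3
    push Not at h3
    exact s.pure.nc (by rw [(eq_bot_iff_forall D).2 h3]; infer_instance)
  obtain ⟨y, hy, yx⟩ : ∃ y ∈ D, y ∉ zpowers x := by
    by_contra h3
    push Not at h3
    exact s.pure.nc (by rw [le_antisymm h3 (zpowers_le.2 hx)]; infer_instance)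
  have y1 : y ≠ 1 := fun e => yx (e ▸ one_mem _)
  have zx : y * x ∉ zpowers x := fun h3 => yx ((mul_mem_cancel_right (mem_zpowers x)).1 h3)
  have zy : y * x ∉ zpowers y := fun h3 =>
    not_mem_symm x1 (s.cube hy) yx ((mul_mem_cancel_left (mem_zpowers y)).1 h3)
  have z1 : y * x ≠ 1 := fun e => zx (e ▸ one_mem _)
  have hz := mul_mem hy hx
  have h3 : ∀ u ∈ D, u ≠ 1 → D.map ι ≤ Ce (P.S (ι u)) := fun u hu u1 => map_le_iff_le_comap.2 fun d hd => (h2 u hu u1 hd).2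
  exact three_comp h.full.full h.eight.nd (dzy_of h) (s.tyQ hx x1) (s.tyQ hy y1) (s.tyQ hz z1) (s.fix _) (s.fix _)
    (s.fix _) (mem_map_of_mem ι hx) (mem_map_of_mem ι hy) (map_mul ι y x) (h3 x hx x1) (h3 y hy y1) (h3 _ hz z1)
    (two_of s hx hy (ce_comm (h1 hx) hy) x1 yx (h2 x hx x1 hy).2)
    (two_of s hx hz (ce_comm (h1 hx) hz) x1 zx (h2 x hx x1 hz).2)
    (two_of s hy hz (ce_comm (h1 hy) hz) y1 zy (h2 y hy y1 hz).2)

end Cfsg.Agent.TO.T3
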