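import Cfsg.Agent.TO.X.Plane
import Cfsg.Agent.TO.X7.Lat
import Cfsg.Agent.DS.Nt.Kac

/-!
# S4817, `p = 3`, types `E₇`, `E₈`: the type of the elements of order three of `K(Q)` (helper13)
-/

set_option autoImplicit false
set_option linter.unusedSectionVars false
set_option maxRecDepth 100000

namespace Cfsg.Agent.TO.T3.F0

open CoxeterSystem Cfsg Cfsg.Lie Cfsg.Lie.ChevalleyDatum Matrix
open Cfsg.Agent.ChevalleyStructure Cfsg.Agent.ChevalleyStructure.Elts Cfsg.Agent.ChevalleyStructure.CoxeterGeom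
  Cfsg.Agent.ChevalleyStructure.CoxeterGeomTypes
open Cfsg.Agent.Tits.Roots Cfsg.Agent.Nodes Cfsg.Agent.Nodes.RGDChev Cfsg.Agent.KFacts.RgdChevCoord
open Cfsg.Agent.DL Cfsg.Agent.DL.Ex Cfsg.Agent.KZ.DatX Cfsg.Agent.TO.X Cfsg.Agent.H129.TorusChar
open Cfsg.Agent.H931.KC (Kac exists_alcove)
open Cfsg.Agent.H469.Exc (KK locFin)
open Cfsg.Agent.DS.Nt (Om Std Om_chain chE7b hrE7 hrE8)

variable {C : ChevalleyDatum} {l : ℕ} {M : CoxeterMatrix (Fin l)}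

instance : Fact (Nat.Prime 3) := ⟨Nat.prime_three⟩

/-! ### lattices -/

/-- Kac coordinates -/
theorem exists_kac (hp : IsType C l M) {p : ℕ} [NeZero p] (u : Fin l → ZMod p) :
    ∃ W, WM C l W ∧ ∃ (c : Fin l → ℕ) (c0 : ℕ), Kac C l p c c0 ∧ mv W u = fun i => (c i : ZMod p) := by
  obtain ⟨w, c, c0, K, h⟩ := exists_alcove hp (Nat.pos_of_neZero p)
    ({ toFun := fun x => x ⬝ᵥ fun i => ((u i).val : ℤ), map_zero' := zero_dotProduct _,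
       map_add' := fun _ _ => add_dotProduct _ _ _ } : (Fin l → ℤ) →+ ℤ)
  refine ⟨KZ.Exc.wm hp w⁻¹, (Lat.wM_iff hp).2 ⟨_, rfl⟩, c, c0, K, funext fun i => ?_⟩
  have h1 := h (sr i)
  have h2 : rep M.toCoxeterSystem hp.isCartan w (sr i) = KZ.Exc.wm hp w⁻¹ i := by
    rw [← inv_inv w, ← KZ.Exc.vecMul_wm hp, inv_inv]
    exact single_one_vecMul i _
  have h3 : (∑ j, sr i j * (c j : ℤ)) = c i := Lat.sr_dot i _
  rw [h2, h3, ← ZMod.intCast_zmod_eq_zero_iff_dvd, Int.cast_sub, sub_eq_zero, Int.cast_natCast] at h1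
  rw [h1, mv_apply, ← Pl.cz_val u, Pl.vl_cz, Pl.cz_val]
  rfl

/-- an invariant form -/
def Inv (C : ChevalleyDatum) (l : ℕ) (G : Matrix (Fin l) (Fin l) ℤ) : Prop :=
  ∀ i, (sM C l i)ᵀ * G * sM C l i = G

/-- the quadratic form modulo three -/
def qq (G : Matrix (Fin l) (Fin l) ℤ) (v : Fin l → ZMod 3) : ZMod 3 := v ⬝ᵥ mv G v

theorem qq_wm {G : Matrix (Fin l) (Fin l) ℤ} (h : Inv C l G) {W : Matrix (Fin l) (Fin l) ℤ} (hW : WM C l W)
    (v : Fin l → ZMod 3) : qq G (mv W v) = qq G v := by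
  refine Pl.WM.ind (P := fun W => qq G (mv W v) = qq G v) (by rw [mv_one]) (fun i W _ h1 => ?_) hW
  rw [mv_mul, ← h1]
  generalize mv W v = y
  rw [← Pl.cz_val y, Pl.mv_cz]
  generalize (fun i => ((y i).val : ℤ)) = z
  have e : ∀ t : Fin l → ℤ, qq G (Pl.cz 3 t) = ((t ⬝ᵥ G *ᵥ t : ℤ) : ZMod 3) := fun t => Pl.qf_cz t t
  rw [e, e, mulVec_mulVec, ← vecMul_transpose, ← dotProduct_mulVec, mulVec_mulVec, ← Matrix.mul_assoc, h i]

theorem qq_smul (G : Matrix (Fin l) (Fin l) ℤ) {c : ZMod 3} (hc : c ≠ 0) (v : Fin l → ZMod 3) :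
    qq G (c • v) = qq G v := by
  have h : ∀ c : ZMod 3, c ≠ 0 → c * c = 1 := by decide
  rw [qq, mv_smul, smul_dotProduct, dotProduct_smul, smul_smul, h c hc, one_smul, qq]

theorem qq_cj {G : Matrix (Fin l) (Fin l) ℤ} (h : Inv C l G) {u v : Fin l → ZMod 3} (H : Cj C (AdmS 3 [1]) u v) :
    qq G v = qq G u := by
  obtain ⟨W, A, h1, ⟨c, hc, B, hB, rfl⟩, rfl⟩ := H
  rw [List.mem_singleton.1 hB, mv_mul, qq_wm h h1, smul_mv, mv_one,
    qq_smul G (by rwa [Ne, ZMod.intCast_zmod_eq_zero_iff_dvd])]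

/-- a pure plane is totally singular -/
theorem qq_eq_zero {G : Matrix (Fin l) (Fin l) ℤ} (h : Inv C l G) {u x : Fin l → ZMod 3}
    (H : PurePl C (AdmS 3 [1]) u x) : qq G u = 0 ∧ qq G x = 0 ∧ qq G (u + x) = 0 := by
  have k : ∀ i j : ZMod 3, j ≠ 0 → qq G (i • u + j • x) = qq G u := fun i j hj =>
    qq_cj h (H.cj i j fun h0 => hj (H.ind i j h0).2)
  have h1 := k 0 1 one_ne_zero
  have h2 := k 1 1 one_ne_zero
  have h3 := k 1 (-1) (by decide)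
  rw [zero_smul, zero_add, one_smul] at h1
  rw [one_smul, one_smul] at h2
  have h4 : qq G (u + x) + qq G ((1 : ZMod 3) • u + (-1 : ZMod 3) • x) = 2 * qq G u + 2 * qq G x := by
    simp only [qq, mv_add, mv_smul, add_dotProduct, dotProduct_add, smul_dotProduct, dotProduct_smul, smul_eq_mul]
    ring
  rw [h1, h2, h3] at h4
  have h5 : ∀ a : ZMod 3, a + a = 2 * a + 2 * a → a = 0 := by decide
  have h6 := h5 _ h4
  exact ⟨h6, h1.trans h6, h2.trans h6⟩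

/-- the form of `E₈` -/
def G8 : Matrix (Fin 8) (Fin 8) ℤ :=
  !![4, 5, 7, 10, 8, 6, 4, 2; 5, 8, 10, 15, 12, 9, 6, 3; 7, 10, 14, 20, 16, 12, 8, 4; 10, 15, 20, 30, 24, 18, 12, 6;
    8, 12, 16, 24, 20, 15, 10, 5; 6, 9, 12, 18, 15, 12, 8, 4; 4, 6, 8, 12, 10, 8, 6, 3; 2, 3, 4, 6, 5, 4, 3, 2]

/-- the form of `E₇` -/
def G7 : Matrix (Fin 7) (Fin 7) ℤ :=
  !![4, 4, 6, 8, 6, 4, 2; 4, 7, 8, 12, 9, 6, 3; 6, 8, 12, 16, 12, 8, 4; 8, 12, 16, 24, 18, 12, 6;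
    6, 9, 12, 18, 15, 10, 5; 4, 6, 8, 12, 10, 8, 4; 2, 3, 4, 6, 5, 4, 3]

theorem inv8 : Inv chevE8 8 G8 := by
  unfold Inv
  decide +kernel

theorem inv7 : Inv chevE7 7 G7 := by
  unfold Inv
  decide +kernel

theorem kac8 {c : Fin 8 → ℕ} {c0 : ℕ} (K : Kac chevE8 8 3 c c0) :
    c ∈ [![0, 0, 0, 0, 0, 0, 0, 0], ![1, 0, 0, 0, 0, 0, 0, 0], ![0, 1, 0, 0, 0, 0, 0, 0], ![0, 0, 0, 0, 0, 0, 0, 1],
      ![0, 0, 0, 0, 0, 0, 1, 0]] := by
  have h := K.sum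
  rw [hrE8] at h
  simp only [Fin.sum_univ_succ, Fin.sum_univ_zero, cons_val_zero, cons_val_succ] at h
  simp only [List.mem_cons, List.not_mem_nil, or_false, funext_iff, Fin.forall_fin_succ, cons_val_zero, cons_val_succ,
    IsEmpty.forall_iff, and_true]
  omega

theorem kac7 {c : Fin 7 → ℕ} {c0 : ℕ} (K : Kac chevE7 7 3 c c0) :
    c ∈ [![0, 0, 0, 0, 0, 0, 0], ![0, 0, 0, 0, 0, 0, 3], ![1, 0, 0, 0, 0, 0, 0], ![0, 1, 0, 0, 0, 0, 0],
      ![0, 0, 0, 0, 0, 1, 0], ![1, 0, 0, 0, 0, 0, 1], ![0, 1, 0, 0, 0, 0, 1], ![0, 0, 0, 0, 0, 1, 1],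
      ![0, 0, 0, 0, 0, 0, 1], ![0, 0, 0, 0, 0, 0, 2], ![0, 0, 1, 0, 0, 0, 0], ![0, 0, 0, 0, 1, 0, 0]] := by
  have h := K.sum
  rw [hrE7] at h
  simp only [Fin.sum_univ_succ, Fin.sum_univ_zero, cons_val_zero, cons_val_succ] at h
  simp only [List.mem_cons, List.not_mem_nil, or_false, funext_iff, Fin.forall_fin_succ, cons_val_zero, cons_val_succ,
    IsEmpty.forall_iff, and_true]
  omega

theorem PurePl.ne {Adm : Matrix (Fin l) (Fin l) ℤ → Prop} {u x : Fin l → ZMod 3} (H : PurePl C Adm u x) : u ≠ 0 :=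
  fun h => absurd (H.ind 1 0 (by rw [h, smul_zero, zero_smul, add_zero])).1 (by decide)

theorem two8 : ∀ i, cartanOf chevE8 8 i i = 2 := by decide +kernel

theorem two7 : ∀ i, cartanOf chevE7 7 i i = 2 := by decide +kernel

/-- the pure planes of `E₈` are of type `E₆ A₂` -/
theorem lat8 {u x : Fin 8 → ZMod 3} (H : PurePl chevE8 (AdmS 3 [1]) u x) :
    ∃ W, WM chevE8 8 W ∧ mv W u = Pi.single 6 1 := by
  obtain ⟨W, hW, c, c0, K, h⟩ := exists_kac hpE8 u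
  have H' := Pl.PurePl.mv two8 Pl.Nm.one H hW
  have h1 := (qq_eq_zero inv8 H').1
  have h2 := PurePl.ne H'
  rw [h] at h1 h2
  refine ⟨W, hW, h.trans ?_⟩
  have h3 := kac8 K
  simp only [List.mem_cons, List.not_mem_nil, or_false] at h3
  rcases h3 with rfl | rfl | rfl | rfl | rfl
  · exact absurd (by decide +kernel) h2
  · exact absurd h1 (by decide +kernel)
  · exact absurd h1 (by decide +kernel)
  · exact absurd h1 (by decide +kernel)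
  · decide +kernel

theorem noE6 : ∀ a b c d e f : ZMod 3, qq G7 ![a, b, c, d, e, f, 1] = 0 → qq G7 ![a, b, c, d, e, f, 0] = 0 →
    (![a, b, c, d, e, f, 0] : Fin 7 → ZMod 3) = 0 ∨ 72 < X7.nz chevE7 (![a, b, c, d, e, f, 0] : Fin 7 → ZMod 3) ∨
      X7.nz chevE7 (![a, b, c, d, e, f, 0] : Fin 7 → ZMod 3) < 72 ∨
      X7.nz chevE7 (![a, b, c, d, e, f, 1] : Fin 7 → ZMod 3) < 72 ∨
      X7.nz chevE7 (![a, b, c, d, e, f, -1] : Fin 7 → ZMod 3) < 72 := by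
  decide +kernel

theorem cj_symm (h2 : ∀ i, cartanOf C l i i = 2) {u v : Fin l → ZMod 3} (H : Cj C (AdmS 3 [1]) u v) :
    Cj C (AdmS 3 [1]) v u := by
  obtain ⟨W, A, h1, ⟨c, hc, B, hB, rfl⟩, rfl⟩ := H
  obtain ⟨W', a1, a2, -⟩ := Pl.WM.inv h2 h1
  refine ⟨W', _, a1, ⟨c, hc, B, hB, rfl⟩, ?_⟩
  have h : ∀ c : ZMod 3, c ≠ 0 → c * c = 1 := by decide
  rw [List.mem_singleton.1 hB, mv_mul, smul_mv, mv_one, mv_mul, smul_mv, mv_one, mv_smul, mv_smul, mv_smul, ← mv_mul, a2,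
    mv_one, smul_smul, h _ (by rwa [Ne, ZMod.intCast_zmod_eq_zero_iff_dvd]), one_smul]

theorem n0 : X7.nz chevE7 (![0, 0, 0, 0, 0, 0, 1] : Fin 7 → ZMod 3) = 72 := by decide +kernel

theorem not_E6 {x : Fin 7 → ZMod 3} : ¬ PurePl chevE7 (AdmS 3 [1]) (![0, 0, 0, 0, 0, 0, 1] : Fin 7 → ZMod 3) x := by
  intro H0
  have H := Pl.PurePl.add H0 (-x 6)
  have h6 : (x + (-x 6) • (![0, 0, 0, 0, 0, 0, 1] : Fin 7 → ZMod 3)) 6 = 0 := by
    show x 6 + (-x 6) * 1 = 0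
    ring
  generalize x + (-x 6) • (![0, 0, 0, 0, 0, 0, 1] : Fin 7 → ZMod 3) = y at H h6
  have e : y = ![y 0, y 1, y 2, y 3, y 4, y 5, 0] := by
    funext i
    fin_cases i <;> first | rfl | exact h6
  have k : ∀ i : ZMod 3, X7.nz chevE7 (![y 0, y 1, y 2, y 3, y 4, y 5, i] : Fin 7 → ZMod 3) = 72 := fun i => by
    have h1 := H.cj i 1 fun h0 => one_ne_zero (H.ind i 1 h0).2
    have h2 : i • (![0, 0, 0, 0, 0, 0, 1] : Fin 7 → ZMod 3) + (1 : ZMod 3) • y = ![y 0, y 1, y 2, y 3, y 4, y 5, i] := by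
      funext j
      fin_cases j <;> simp [h6]
    rw [h2] at h1
    exact le_antisymm (n0 ▸ X7.nz_cj hpE7 h1) (n0 ▸ X7.nz_cj hpE7 (cj_symm two7 h1))
  obtain ⟨-, h1, h2⟩ := qq_eq_zero inv7 H
  have h3 : (![0, 0, 0, 0, 0, 0, 1] : Fin 7 → ZMod 3) + y = ![y 0, y 1, y 2, y 3, y 4, y 5, 1] := by
    funext j
    fin_cases j <;> simp [h6]
  rw [h3] at h2
  rw [e] at h1
  rcases noE6 _ _ _ _ _ _ h2 h1 with h | h | h | h | h
  · exact one_ne_zero (H.ind 0 1 (by rw [zero_smul, zero_add, one_smul, e, h])).2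
  all_goals
    rw [k] at h
    exact lt_irrefl _ h

/-- the pure planes of `E₇` are of type `A₅ A₂` -/
theorem lat7 {u x : Fin 7 → ZMod 3} (H : PurePl chevE7 (AdmS 3 [1]) u x) :
    ∃ W, WM chevE7 7 W ∧ (mv W u = Pi.single 2 1 ∨ mv W u = Pi.single 4 1) := by
  obtain ⟨W, hW, c, c0, K, h⟩ := exists_kac hpE7 u
  have H' := Pl.PurePl.mv two7 Pl.Nm.one H hW
  have h1 := (qq_eq_zero inv7 H').1
  have h2 := PurePl.ne H'
  refine ⟨W, hW, ?_⟩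
  rw [h] at h1 h2 H' ⊢
  have h3 := kac7 K
  simp only [List.mem_cons, List.not_mem_nil, or_false] at h3
  rcases h3 with rfl | rfl | rfl | rfl | rfl | rfl | rfl | rfl | rfl | rfl | rfl | rfl
  · exact absurd (by decide +kernel) h2
  · exact absurd (by decide +kernel) h2
  · exact absurd h1 (by decide +kernel)
  · exact absurd h1 (by decide +kernel)
  · exact absurd h1 (by decide +kernel)
  · exact absurd h1 (by decide +kernel)
  · exact absurd h1 (by decide +kernel)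
  · exact absurd h1 (by decide +kernel)
  · refine absurd ?_ (not_E6 (x := mv W x))
    convert H' using 1
    decide +kernel
  · refine absurd ⟨fun i j h0 => ?_, fun i j h0 => ?_⟩ (not_E6 (x := mv W x))
    all_goals
      have e : (fun i => (((![0, 0, 0, 0, 0, 0, 2] : Fin 7 → ℕ) i : ℕ) : ZMod 3)) =
          (2 : ZMod 3) • (![0, 0, 0, 0, 0, 0, 1] : Fin 7 → ZMod 3) := by decide +kernel
      have e2 : ∀ i : ZMod 3, i = 2 * i * 2 := by decide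
      rw [e] at H'
      rw [e2 i, mul_smul] at h0
    · obtain ⟨a1, a2⟩ := H'.ind _ j h0
      exact ⟨by rw [e2 i, a1, zero_mul], a2⟩
    · obtain ⟨W', A, a1, ⟨c, hc, B, hB, rfl⟩, a2⟩ := H'.cj _ j h0
      refine ⟨W', (c * 2) • B, a1, ⟨c * 2, by omega, B, hB, rfl⟩, ?_⟩
      rw [e2 i, mul_smul, a2, mv_mul, mv_mul, smul_mv, smul_mv]
      simp only [mv_smul, smul_smul, Int.cast_mul, Int.cast_ofNat]
  · exact Or.inl (by decide +kernel)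
  · exact Or.inr (by decide +kernel)

/-! ### groups -/

variable {hp : IsType C l M} {r : ℕ} [Fact r.Prime] {Mx : Matrix (Fin l) (Fin l) ℤ} {X : XF hp r (KK r) Mx}

theorem cop3 : ∀ c : ZMod 3, c ≠ 0 → c.val.Coprime 3 := by decide

/-- a multiple of a fundamental coweight -/
theorem e_mem_Om (E : Tor X) {ζ : (KK r)ˣ} (hζ : IsPrimitiveRoot ζ 3) {W : Matrix (Fin l) (Fin l) ℤ} (hW : WM C l W)
    {v : Fin l → ZMod 3} {i : Fin l} {c : ZMod 3} (hc : c ≠ 0) (h : mv W v = c • Pi.single i 1) :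
    E.e ζ v ∈ Om hp r 3 i := by
  obtain ⟨E', -, h2⟩ := E.exists_move_e hζ hW
  have h3 : E'.y⁻¹ * E'.e ζ (mv W v) * E'.y⁻¹⁻¹ = tau hp (coch (fun j => ((mv W v j).val : ℤ)) ζ) := by
    rw [Tor.e, E'.τ_eq]
    show _ = τ0 X _
    group
  refine ⟨E'.y⁻¹, ((ζ ^ c.val : (KK r)ˣ) : KK r),
    IsPrimitiveRoot.coe_units_iff.2 (hζ.pow_of_coprime _ (cop3 c hc)), ?_⟩
  rw [← h2, h3]
  refine ⟨tau_mem hp _, fun x => ?_⟩
  rw [cX_tau, DL.chr_coch, ← Units.val_zpow_eq_zpow_val, ← zpow_natCast, ← _root_.zpow_mul]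
  congr 1
  refine (Tor.zpow_eq hζ).2 ?_
  simp [h, Pi.single_apply, mul_comm]

variable {d : ℕ} {S : Type} [Group S] [Finite S] (s : XS X (AdmF r) d S) {Γ : Subgroup (MulAut S)} {Q : Subgroup S}

theorem om_of {f : ℕ} (hf : Cn.PM C l f) (h3 : (3 : ℕ).Coprime f) (hr : r ≠ 3)
    (P : Pure 3 S Γ Q) {I : Set (Fin l)}
    (hL : ∀ u x : Fin l → ZMod 3, PurePl C (AdmS 3 [1]) u x → ∃ W, WM C l W ∧ ∃ i ∈ I, mv W u = Pi.single i 1)
    {a : S} (ha : a ∈ BHZ.Nil.KK 3 Q) (h : a ^ 3 = 1) (h1 : a ≠ 1) : ∃ i ∈ I, s.ι a ∈ Om hp r 3 i := by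
  obtain ⟨ζ, hζ⟩ := exists_prim (r := r) (KK r) (n := 3)
    fun h0 => hr ((Nat.prime_dvd_prime_iff_eq Fact.out Nat.prime_three).1 h0)
  have hm : ∀ A : Matrix (Fin l) (Fin l) ℤ, AdmF r A → AdmS 3 [1] A := fun A =>
    admS_of_admF Nat.prime_three Fact.out hr.symm
  obtain ⟨E, b, -, u, x, hb, -, -, hu, -, H⟩ := exists_plane s hζ P (conn_of_pm X hf h3) hr.symm
  obtain ⟨W, hW, i, hi, e⟩ := hL u x (H.mono hm)
  have h4 : s.ι a ^ 3 = 1 := by rw [← map_pow, h, map_one]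
  obtain ⟨E', hE'⟩ := exists_tor X (F_ι s a) (not_dvd_of_pow hr.symm (n := 1) (by rwa [pow_one]))
  obtain ⟨v, hv⟩ := E'.exists_e hζ hE' h4
  have v0 : v ≠ 0 := fun h0 => h1 (ι_inj s (by rw [← hv, h0, E'.e_zero hζ, map_one]))
  obtain ⟨W', A, a1, ⟨c, hc, B, hB, rfl⟩, a2⟩ :=
    (cj_of_pure s hζ P E' E ha (le_KK hb) hv.symm hu v0 (PurePl.ne H)).mono hm
  have hc' : (c : ZMod 3) ≠ 0 := by rwa [Ne, ZMod.intCast_zmod_eq_zero_iff_dvd]
  have k : ∀ c : ZMod 3, c ≠ 0 → c * c = 1 := by decide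
  refine ⟨i, hi, hv ▸ e_mem_Om E' hζ (hW.mul a1) hc' ?_⟩
  rw [← e, a2, List.mem_singleton.1 hB, mv_mul, mv_mul, smul_mv, mv_one, mv_smul, mv_smul, smul_smul, k _ hc', one_smul]

/-- **`E₈`** -/
theorem om8 {Mx : Matrix (Fin 8) (Fin 8) ℤ} {X : XF hpE8 r (KK r) Mx} (s : XS X (AdmF r) d S) (hr : r ≠ 3)
    (P : Pure 3 S Γ Q) {a : S} (ha : a ∈ BHZ.Nil.KK 3 Q) (h : a ^ 3 = 1) (h1 : a ≠ 1) : s.ι a ∈ Om hpE8 r 3 6 := by
  obtain ⟨i, rfl, h2⟩ := om_of s Cn.pm_E8 (by norm_num) hr P (I := {6})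
    (fun _ _ H => let ⟨W, a1, a2⟩ := lat8 H; ⟨W, a1, 6, rfl, a2⟩) ha h h1
  exact h2

/-- **`E₇`** -/
theorem om7 {Mx : Matrix (Fin 7) (Fin 7) ℤ} {X : XF hpE7 r (KK r) Mx} (s : XS X (AdmF r) d S) (hr : r ≠ 3)
    (P : Pure 3 S Γ Q) {a : S} (ha : a ∈ BHZ.Nil.KK 3 Q) (h : a ^ 3 = 1) (h1 : a ≠ 1) : s.ι a ∈ Om hpE7 r 3 2 := by
  obtain ⟨i, rfl | rfl, h2⟩ := om_of s Cn.pm_E7 (by norm_num) hr P (I := {2, 4})
    (fun _ _ H => let ⟨W, a1, a2⟩ := lat7 H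
      ⟨W, a1, a2.elim (fun h => ⟨2, Or.inl rfl, h⟩) fun h => ⟨4, Or.inr rfl, h⟩⟩) ha h h1
  · exact h2
  · exact Om_chain (by norm_num) chE7b h2

/-! ### the situations over `KK r` -/

section Inst

variable {F : Type} [Field F] [Fintype F] [CharP F r] {e : ℕ} (f : F →+* KK r) (hF : Fintype.card F = r ^ e)

/-- `E₈(q)` -/
noncomputable def xs8 : XS (xfS hpE8 r (locFin r) (pos_of_card hF)) (AdmF r) 1 ↥(chevE8.group F) :=
  (xsS f (locFin r) (pos_of_card hF) hF (over_E8 f hF hpE8) (Nat.coprime_one_left _) (fun _ => idx_of_one _ rfl)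
    List.mem_cons_self (grL_E8 r _ F)).mono fun _ => AdmL.admF

/-- `E₇(q)` -/
noncomputable def xs7 :
    XS (xfS hpE7 r (locFin r) (pos_of_card hF)) (AdmF r) (Nat.gcd 2 (r ^ e - 1)) ↥(chevE7.group F) :=
  (xsS f (locFin r) (pos_of_card hF) hF (over_E7 f hF hpE7) (cop_sub (Fact.out : r.Prime).pos (pos_of_card hF) 2)
    (fun _ => index_dvd_E7 f hF hpE7) List.mem_cons_self (grL_E7 r _ F)).mono fun _ => AdmL.admF

theorem xs8_ι : (xs8 f hF).ι = GpExc.Field.emb hpE8.inList f := rfl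

theorem xs7_ι : (xs7 f hF).ι = GpExc.Field.emb hpE7.inList f := rfl

end Inst

end Cfsg.Agent.TO.T3.F0
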