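import Cfsg.Agent.TO.T3.LI
import Cfsg.Agent.DS.Nt.JThree
import Cfsg.Agent.DS.Nt.Cnt

/-!
# S4817, `p = 3`: four commuting subgroups `SL₃` (helper3)

* `Pk.pair` : in a plane of type II the four subgroups `S` commute pairwise;
* `Bl` : the coordinates of a block `A₂`; `le_of_bl`, `dec_T` : four commuting blocks need rank eight and fill the torus;
* `four`, `no2` : the properties `Pk.Four` (rank at most eight) and `Pk.No2` (rank at most seven).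
-/

set_option autoImplicit false
set_option linter.unusedSectionVars false

namespace Cfsg.Agent.TO.T3.Fo

open CoxeterSystem Cfsg Cfsg.Lie Cfsg.Lie.ChevalleyDatum Subgroup
open Cfsg.Agent.ChevalleyStructure Cfsg.Agent.ChevalleyStructure.CoxeterGeom
  Cfsg.Agent.ChevalleyStructure.CoxeterGeomTypes
open Cfsg.Agent.Tits.Roots Cfsg.Agent.Nodes.RGDChev Cfsg.Agent.Nodes.Coroot
open Cfsg.Agent.KFacts.RgdField Cfsg.Agent.KFacts.RgdChevCoord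
open Cfsg.Agent.H469.Exc Cfsg.Agent.H129.TorusChar Cfsg.Agent.DS.Ex Cfsg.Agent.DS.Nt
open Cfsg.Agent.H81.TorOrth Cfsg.Agent.H605.MX
open Cfsg.Agent.Nodes.RGDFoldSL (hS)
open Cfsg.Agent.BpExc.TorChev (TT_comm)

section Abs

variable {Y : Type} [Group Y] {Φ : MulAut Y} (P : Pk Y Φ) {z y : Y}

theorem ty_inv (h : P.Ty z) : P.Ty z⁻¹ := by
  obtain ⟨g, hg⟩ := P.tp1 z (P.ty3 z h)
  obtain ⟨n, hn⟩ := P.neg_conj g
  have h1 := P.tyc z h n⁻¹
  rwa [inv_inv, hn z hg] at h1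

theorem sq_eq (h : z ^ 3 = 1) : z * z = z⁻¹ := eq_inv_of_mul_eq_one_left (by rw [← h, pow_three'])

theorem pl_swap (h : Pl P.Ty z y) : Pl P.Ty y z :=
  ⟨h.comm.symm, h.t2, h.t1, h.comm ▸ h.t3, by simpa using ty_inv P h.t4⟩

theorem pl_mul (h : Pl P.Ty z y) : Pl P.Ty z (y * z) :=
  ⟨by rw [← mul_assoc, h.comm], h.t1, h.t3, by rw [mul_assoc, sq_eq (P.ty3 z h.t1)]; exact h.t4,
    by rw [mul_inv_cancel_right]; exact h.t2⟩

theorem step (h : Pl P.Ty z y) (hy : y ∈ Ce (P.S z)) :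
    P.S y ≤ Ce (P.S z) ∧ P.S (y * z) ≤ Ce (P.S z) ∧ P.S (y * z⁻¹) ≤ Ce (P.S z) := by
  have h1 := mul_mem hy (P.cen z h.t1)
  have h2 := P.two _ _ (pl_mul P (pl_mul P h)) (mul_mem h1 (P.cen z h.t1))
  rw [mul_assoc, sq_eq (P.ty3 z h.t1)] at h2
  exact ⟨P.two _ _ h hy, P.two _ _ (pl_mul P h) h1, h2⟩

/-- the four points of the plane -/
def pt (z y : Y) : Fin 4 → Y := ![z, y, y * z, y * z⁻¹]

theorem ty_pt (h : Pl P.Ty z y) (i : Fin 4) : P.Ty (pt z y i) := by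
  fin_cases i
  exacts [h.t1, h.t2, h.t3, h.t4]

/-- **The four subgroups commute pairwise.** -/
theorem pair (h : Pl P.Ty z y) (hy : y ∈ Ce (P.S z)) (i j : Fin 4) (hij : i ≠ j) :
    P.S (pt z y i) ≤ Ce (P.S (pt z y j)) := by
  obtain ⟨a1, a2, a3⟩ := step P h hy
  obtain ⟨-, b2, b3⟩ := step P (pl_swap P h) (le_centralizer_iff.1 a1 (P.mem z h.t1))
  obtain ⟨-, c3, -⟩ := step P (pl_swap P (pl_mul P h)) (le_centralizer_iff.1 a2 (P.mem z h.t1))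
  rw [← h.comm] at b2
  rw [show z * y⁻¹ = (y * z⁻¹)⁻¹ by simp, P.Si _ h.t4] at b3
  rw [← mul_assoc, ← h.comm, mul_assoc, sq_eq (P.ty3 z h.t1)] at c3
  fin_cases i <;> fin_cases j
  exacts [absurd rfl hij, le_centralizer_iff.1 a1, le_centralizer_iff.1 a2, le_centralizer_iff.1 a3,
    a1, absurd rfl hij, le_centralizer_iff.1 b2, le_centralizer_iff.1 b3,
    a2, b2, absurd rfl hij, le_centralizer_iff.1 c3, a3, b3, c3, absurd rfl hij]

theorem ce_conj (h : P.Ty z) {x : Y} (hx : x ∈ Ce (P.S z)) (g : Y) : g * x * g⁻¹ ∈ Ce (P.S (g * z * g⁻¹)) := by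
  refine mem_centralizer_iff.2 fun s hs => ?_
  have h1 := P.Sc _ (P.tyc z h g) s hs g⁻¹
  rw [show g⁻¹ * (g * z * g⁻¹) * g⁻¹⁻¹ = z by group] at h1
  have h2 := ce_comm hx h1
  calc s * (g * x * g⁻¹) = g * (g⁻¹ * s * g⁻¹⁻¹ * x) * g⁻¹ := by group
    _ = _ := by rw [h2]; group

theorem pl_conj (h : Pl P.Ty z y) (g : Y) : Pl P.Ty (g * z * g⁻¹) (g * y * g⁻¹) :=
  ⟨by rw [conj_mul, conj_mul, h.comm], P.tyc _ h.t1 g, P.tyc _ h.t2 g, by rw [conj_mul]; exact P.tyc _ h.t3 g,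
    by rw [conj_inv, conj_mul]; exact P.tyc _ h.t4 g⟩

theorem pl_tor (h : Pl P.Ty z y) : ∃ g : Y, g * z * g⁻¹ ∈ P.T ∧ g * y * g⁻¹ ∈ P.T := by
  obtain ⟨g, hg⟩ := P.tp1 z (P.ty3 z h.t1)
  have h1 := pl_conj P h g⁻¹
  rw [inv_inv] at h1
  obtain ⟨u, h2, h3⟩ := P.tp2 _ hg (P.ty3 _ h1.t1) _ (P.ty3 _ h1.t2) h1.comm
  refine ⟨u⁻¹ * g⁻¹, ?_, ?_⟩
  · rw [show u⁻¹ * g⁻¹ * z * (u⁻¹ * g⁻¹)⁻¹ = u⁻¹ * (g⁻¹ * z * g * u) by group, ← h2, inv_mul_cancel_left]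
    exact hg
  · rwa [show u⁻¹ * g⁻¹ * y * (u⁻¹ * g⁻¹)⁻¹ = u⁻¹ * (g⁻¹ * y * g) * u by group]

/-- the plane -/
def plane (hc : y * z = z * y) (hz : z ^ 3 = 1) (hy : y ^ 3 = 1) : Subgroup Y where
  carrier := {x | ∃ i j : ℕ, x = z ^ i * y ^ j}
  one_mem' := ⟨0, 0, by simp⟩
  mul_mem' := by
    rintro _ _ ⟨i, j, rfl⟩ ⟨i', j', rfl⟩
    refine ⟨i + i', j + j', ?_⟩
    rw [pow_add, pow_add, mul_assoc, mul_assoc, ← mul_assoc (y ^ j), (Commute.pow_pow hc j i').eq, mul_assoc]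
  inv_mem' := by
    rintro _ ⟨i, j, rfl⟩
    refine ⟨2 * i, 2 * j, ?_⟩
    rw [pow_mul, pow_mul, sq, sq, sq_eq hz, sq_eq hy, inv_pow, inv_pow, ← mul_inv_rev, (Commute.pow_pow hc j i).eq]

/-- the end of the proof of `Four` -/
theorem four_of (h : Pl P.Ty z y) (hy : y ∈ Ce (P.S z)) {x : Y} (hx : ∀ i, x ∈ Ce (P.S (pt z y i))) {s : Fin 4 → Y}
    (hs : ∀ i, s i ∈ P.S (pt z y i)) (e : x = s 0 * s 1 * s 2 * s 3) : ∃ i j : ℕ, x = z ^ i * y ^ j := by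
  have h1 := fun i j hij => pair P h hy i j hij (hs i)
  have h2 : ∀ i, s i ∈ Ce (P.S (pt z y i)) := by
    intro i
    fin_cases i
    · show s 0 ∈ Ce (P.S (pt z y 0))
      rw [show s 0 = x * (s 3)⁻¹ * (s 2)⁻¹ * (s 1)⁻¹ by rw [e]; group]
      exact mul_mem (mul_mem (mul_mem (hx 0) (inv_mem (h1 3 0 (by decide)))) (inv_mem (h1 2 0 (by decide))))
        (inv_mem (h1 1 0 (by decide)))
    · show s 1 ∈ Ce (P.S (pt z y 1))
      rw [show s 1 = (s 0)⁻¹ * x * (s 3)⁻¹ * (s 2)⁻¹ by rw [e]; group]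
      exact mul_mem (mul_mem (mul_mem (inv_mem (h1 0 1 (by decide))) (hx 1)) (inv_mem (h1 3 1 (by decide))))
        (inv_mem (h1 2 1 (by decide)))
    · show s 2 ∈ Ce (P.S (pt z y 2))
      rw [show s 2 = (s 1)⁻¹ * (s 0)⁻¹ * x * (s 3)⁻¹ by rw [e]; group]
      exact mul_mem (mul_mem (mul_mem (inv_mem (h1 1 2 (by decide))) (inv_mem (h1 0 2 (by decide)))) (hx 2))
        (inv_mem (h1 3 2 (by decide)))
    · show s 3 ∈ Ce (P.S (pt z y 3))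
      rw [show s 3 = (s 2)⁻¹ * (s 1)⁻¹ * (s 0)⁻¹ * x by rw [e]; group]
      exact mul_mem (mul_mem (mul_mem (inv_mem (h1 2 3 (by decide))) (inv_mem (h1 1 3 (by decide))))
        (inv_mem (h1 0 3 (by decide)))) (hx 3)
  have hz' : z ∈ plane h.comm (P.ty3 z h.t1) (P.ty3 y h.t2) := ⟨1, 0, by simp⟩
  have hy' : y ∈ plane h.comm (P.ty3 z h.t1) (P.ty3 y h.t2) := ⟨0, 1, by simp⟩
  have h3 : ∀ i, s i ∈ plane h.comm (P.ty3 z h.t1) (P.ty3 y h.t2) := fun i =>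
    zpowers_le.2 (by
      fin_cases i
      exacts [hz', hy', mul_mem hy' hz', mul_mem hy' (inv_mem hz')]) (P.int _ (ty_pt P h i) _ (hs i) (h2 i))
  exact e ▸ mul_mem (mul_mem (mul_mem (h3 0) (h3 1)) (h3 2)) (h3 3)

end Abs

variable {D : ChevalleyDatum} {l : ℕ} {M : CoxeterMatrix (Fin l)} (hp : IsType D l M) (p : ℕ) [Fact p.Prime]

include hp in
/-- **the torus is self-centralizing** -/
theorem mem_T (hD : Typ D) {x : YY D p} (hx : ∀ t ∈ TT D (KK p), x * t = t * x) : x ∈ TT D (KK p) := by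
  have := finW hp
  obtain ⟨s, hs, h7, hsp⟩ := exists_Lp p
  obtain ⟨ζ, hζ⟩ := exists_prim (p := p) hs hsp
  have h0 := hζ.ne_zero hs.ne_zero
  have hZ : Set.range (fun q : Fin D.nroots => ps hp q.2 (hS ζ)) ⊆ TT D (KK p) := by
    rintro _ ⟨q, rfl⟩
    exact ps_hS_mem hp q.2 h0
  have h1 : Mz hp p (Set.range fun q : Fin D.nroots => ps hp q.2 (hS ζ)) ≤ TT D (KK p) := Mz_le fun a ha => by
    obtain ⟨h2, h3⟩ := (mem_Ps hZ).1 ha
    obtain ⟨q, hq, rfl⟩ := (isRoot_iff hp _ _).1 h2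
    have h4 := h3 _ ⟨⟨q, hq⟩, rfl⟩
    rw [cX_hS hp M.toCoxeterSystem (locFin p) p hq h0, cpr_self _ _ h2, hζ.zpow_eq_one_iff_dvd] at h4
    have h5 := Int.le_of_dvd (by norm_num) h4
    omega
  obtain ⟨n, hn⟩ := exists_pow_mem_DZ (hp := hp) (Set.finite_range _) hZ hs (by
    rintro _ ⟨q, rfl⟩
    refine ⟨1, pow_eq_one_of_cX (hp := hp) (ps_hS_mem hp q.2 h0) fun v => ?_⟩
    rw [cX_hS hp M.toCoxeterSystem (locFin p) p q.2 h0, pow_one, ← zpow_natCast, ← zpow_mul, mul_comm, zpow_mul,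
      zpow_natCast, hζ.pow_eq_one, one_zpow]) fun t ht => hx t (hZ ht)
  exact sup_le h1 le_rfl (mem_of_pow_coprime hn (pow_card_mem_DZ (hp := hp) (Set.finite_range _) hZ fun t ht => hx t (hZ ht))
    (((Nat.Prime.coprime_iff_not_dvd hs).2 (not_dvd_W hp hD hs h7)).pow_left n))

theorem eq_zero_of_zpow {n : ℤ} (h : ∀ c : KK p, c ≠ 0 → c ^ n = 1) : n = 0 := by
  obtain ⟨s, h1, hs⟩ := Nat.exists_infinite_primes (n.natAbs + p + 1)
  obtain ⟨ζ, hζ⟩ := exists_prim (p := p) hs (by omega)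
  exact Int.eq_zero_of_dvd_of_natAbs_lt_natAbs ((hζ.zpow_eq_one_iff_dvd n).1 (h ζ (hζ.ne_zero hs.ne_zero)))
    (by rw [Int.natAbs_natCast]; omega)

/-- the coordinates of a block of type `A₂` -/
structure Bl (S : Subgroup (YY D p)) (a b : Fin l → ℤ) (f g : (Fin l → ℤ) →+ ℤ) : Prop where
  fa : f a = 2
  fb : f b = -1
  ga : g a = -1
  gb : g b = 2
  hf : ∀ c : KK p, c ≠ 0 → ∃ h ∈ TT D (KK p), h ∈ S ∧ ∀ v, cX hp h v = c ^ f v
  hg : ∀ c : KK p, c ≠ 0 → ∃ h ∈ TT D (KK p), h ∈ S ∧ ∀ v, cX hp h v = c ^ g v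
  cen : ∀ t ∈ TT D (KK p), t ∈ Ce S → cX hp t a = 1 ∧ cX hp t b = 1

variable {hp p}

theorem Bl.orth {S S' : Subgroup (YY D p)} {a b a' b' : Fin l → ℤ} {f g f' g' : (Fin l → ℤ) →+ ℤ}
    (B : Bl hp p S a b f g) (B' : Bl hp p S' a' b' f' g') (h : S ≤ Ce S') :
    (f a' = 0 ∧ f b' = 0) ∧ g a' = 0 ∧ g b' = 0 := by
  refine ⟨⟨eq_zero_of_zpow p fun c hc => ?_, eq_zero_of_zpow p fun c hc => ?_⟩, eq_zero_of_zpow p fun c hc => ?_,
    eq_zero_of_zpow p fun c hc => ?_⟩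
  · obtain ⟨u, h1, h2, h3⟩ := B.hf c hc
    exact (h3 _).symm.trans (B'.cen u h1 (h h2)).1
  · obtain ⟨u, h1, h2, h3⟩ := B.hf c hc
    exact (h3 _).symm.trans (B'.cen u h1 (h h2)).2
  · obtain ⟨u, h1, h2, h3⟩ := B.hg c hc
    exact (h3 _).symm.trans (B'.cen u h1 (h h2)).1
  · obtain ⟨u, h1, h2, h3⟩ := B.hg c hc
    exact (h3 _).symm.trans (B'.cen u h1 (h h2)).2

theorem Bl.solve {S : Subgroup (YY D p)} {a b : Fin l → ℤ} {f g : (Fin l → ℤ) →+ ℤ} (B : Bl hp p S a b f g)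
    {c d : KK p} (hc : c ≠ 0) (hd : d ≠ 0) : ∃ h ∈ TT D (KK p), h ∈ S ∧ cX hp h a = c ^ 3 ∧ cX hp h b = d ^ 3 := by
  obtain ⟨u, h1, h2, h3⟩ := B.hf (c ^ 2 * d) (mul_ne_zero (pow_ne_zero _ hc) hd)
  obtain ⟨v, h4, h5, h6⟩ := B.hg (c * d ^ 2) (mul_ne_zero hc (pow_ne_zero _ hd))
  refine ⟨u * v, mul_mem h1 h4, mul_mem h2 h5, ?_, ?_⟩
  · rw [cX_mul hp h1 h4, h3, h6, B.fa, B.ga, zpow_neg, zpow_one, zpow_ofNat]
    field_simp
  · rw [cX_mul hp h1 h4, h3, h6, B.fb, B.gb, zpow_neg, zpow_one, zpow_ofNat]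
    field_simp

section Four

variable {S : Fin 4 → Subgroup (YY D p)} {a b : Fin 4 → Fin l → ℤ} {f g : Fin 4 → (Fin l → ℤ) →+ ℤ}
  (B : ∀ i, Bl hp p (S i) (a i) (b i) (f i) (g i)) (h : ∀ i j, i ≠ j → S i ≤ Ce (S j))

include B h

theorem indep : LinearIndependent ℤ (Sum.elim a b) := by
  rw [Fintype.linearIndependent_iff]
  intro c hc
  rw [Fintype.sum_sum_type, ← Finset.sum_add_distrib] at hc
  have h1 : ∀ j, c (.inl j) = 0 ∧ c (.inr j) = 0 := by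
    intro j
    have h2 := congrArg (f j) hc
    have h3 := congrArg (g j) hc
    rw [map_sum, map_zero, Finset.sum_eq_single j (fun i _ hi => by
      obtain ⟨⟨e1, e2⟩, -⟩ := (B j).orth (B i) (h j i hi.symm)
      rw [map_add, map_zsmul, map_zsmul, Sum.elim_inl, Sum.elim_inr, e1, e2, smul_zero, smul_zero, add_zero]) (by simp)] at h2
    rw [map_sum, map_zero, Finset.sum_eq_single j (fun i _ hi => by
      obtain ⟨-, e1, e2⟩ := (B j).orth (B i) (h j i hi.symm)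
      rw [map_add, map_zsmul, map_zsmul, Sum.elim_inl, Sum.elim_inr, e1, e2, smul_zero, smul_zero, add_zero]) (by simp)] at h3
    simp only [Sum.elim_inl, Sum.elim_inr, map_add, map_zsmul, (B j).fa, (B j).fb, (B j).ga, (B j).gb, smul_eq_mul] at h2 h3
    omega
  rintro (j | j)
  exacts [(h1 j).1, (h1 j).2]

theorem le_of_bl : 8 ≤ l := by
  simpa using (indep B h).fintype_card_le_finrank

theorem exists_mul (hl : l ≤ 8) :
    ∃ N : ℕ, 0 < N ∧ ∀ j : Fin l, ∃ c : Fin 4 ⊕ Fin 4 → ℤ, N • (sr j : Fin l → ℤ) = ∑ i, c i • Sum.elim a b i := by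
  have h1 : ∀ v : Fin l → ℤ, ∃ n : ℤ, n ≠ 0 ∧ ∃ c : Fin 4 ⊕ Fin 4 → ℤ, n • v = ∑ i, c i • Sum.elim a b i := by
    intro v
    have h2 : ¬ LinearIndependent ℤ fun o : Option (Fin 4 ⊕ Fin 4) => o.elim v (Sum.elim a b) := fun e => by
      have h3 := e.fintype_card_le_finrank
      simp at h3
      omega
    obtain ⟨c, h3, o, h4⟩ := Fintype.not_linearIndependent_iff.1 h2
    rw [Fintype.sum_option] at h3
    refine ⟨-c none, fun e => h4 ?_, fun i => c (some i), by rw [neg_smul]; exact neg_eq_of_add_eq_zero_right h3⟩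
    rw [neg_eq_zero] at e
    rw [e, zero_smul, zero_add] at h3
    cases o with
    | none => exact e
    | some i => exact Fintype.linearIndependent_iff.1 (indep B h) (fun i => c (some i)) h3 i
  choose n h2 c h3 using h1
  refine ⟨(∏ j : Fin l, n (sr j)).natAbs, Int.natAbs_pos.2 (Finset.prod_ne_zero_iff.2 fun j _ => h2 _), fun j => ?_⟩
  obtain ⟨m, hm⟩ := Int.dvd_natAbs.2 (Finset.dvd_prod_of_mem (fun j : Fin l => n (sr j)) (Finset.mem_univ j))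
  refine ⟨fun i => m * c (sr j) i, ?_⟩
  rw [← natCast_zsmul, hm, mul_comm, mul_smul, h3, Finset.smul_sum]
  simp only [mul_smul]

/-- **Four commuting blocks fill the torus.** -/
theorem dec_T (hD : Typ D) (hl : l ≤ 8) {t : YY D p} (ht : t ∈ TT D (KK p)) :
    ∃ s : Fin 4 → YY D p, (∀ i, s i ∈ S i) ∧ t = s 0 * s 1 * s 2 * s 3 := by
  obtain ⟨N, hN, h1⟩ := exists_mul B h hl
  obtain ⟨u, hu, rfl⟩ := exists_root_T hp hD ht (n := 3 * N) (by omega)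
  choose s h2 h3 h4 h5 using fun i =>
    (B i).solve ((isMC_cX hp hu).ne_zero (a i)) ((isMC_cX hp hu).ne_zero (b i))
  have h6 := mul_mem (h2 0) (h2 1)
  have h7 := mul_mem h6 (h2 2)
  have h8 := mul_mem h7 (h2 3)
  have h9 : ∀ v, cX hp (s 0 * s 1 * s 2 * s 3) v = ∏ i, cX hp (s i) v := fun v => by
    rw [cX_mul hp h7 (h2 3), cX_mul hp h6 (h2 2), cX_mul hp (h2 0) (h2 1), Fin.prod_univ_four]
  have h10 : ∀ i, cX hp (u ^ 3) (Sum.elim a b i) = cX hp (s 0 * s 1 * s 2 * s 3) (Sum.elim a b i) := by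
    rintro (j | j)
    · rw [h9, cX_pow hp hu, Sum.elim_inl,
        Finset.prod_eq_single j (fun i _ hi => ((B j).cen _ (h2 i) (h i j hi (h3 i))).1) (by simp), h4]
    · rw [h9, cX_pow hp hu, Sum.elim_inr,
        Finset.prod_eq_single j (fun i _ hi => ((B j).cen _ (h2 i) (h i j hi (h3 i))).2) (by simp), h5]
  refine ⟨fun i => s i ^ N, fun i => pow_mem (h3 i) N, ?_⟩
  have h11 : (u ^ 3) ^ N = (s 0 * s 1 * s 2 * s 3) ^ N := by
    refine cX_inj hp (pow_mem (pow_mem hu 3) N) (pow_mem h8 N) fun j => ?_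
    obtain ⟨c, hc⟩ := h1 j
    rw [cX_pow hp (pow_mem hu 3), cX_pow hp h8, ← (isMC_cX hp (pow_mem hu 3)).nsmul, ← (isMC_cX hp h8).nsmul, hc,
      (isMC_cX hp (pow_mem hu 3)).sum_smul, (isMC_cX hp h8).sum_smul]
    exact Finset.prod_congr rfl fun i _ => by rw [h10]
  rw [pow_mul, h11, Commute.mul_pow (TT_comm hp _ h7 _ (h2 3)), Commute.mul_pow (TT_comm hp _ h6 _ (h2 2)),
    Commute.mul_pow (TT_comm hp _ (h2 0) _ (h2 1))]

end Four

variable {i : Fin l} {ρ : Fin 3 → Fin 3 → ℕ} {cf : List (ℕ × ℤ)}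
  {ψ : Matrix.SpecialLinearGroup (Fin 3) (KK p) →* YY D p} (J : JD hp p 3 i ρ cf ψ)
  (hc : RootCombGood.car D (ρ 0 1) (ρ 1 2) = -1 ∧ RootCombGood.car D (ρ 1 2) (ρ 0 1) = -1)

include J hc

theorem exists_bl {u : YY D p} (hu : u ∈ TT D (KK p)) (h : u ∈ Om hp p 3 i) :
    ∃ a b f g, Bl hp p (JJ hp p i ψ u) a b f g := by
  have := finW hp
  obtain ⟨g, ζ, hζ, hs⟩ := h
  obtain ⟨m, -, w, k, hk, hks, -⟩ := form₂ hp (ι := Unit) (s := fun _ => u) (t := fun _ => g * u * g⁻¹)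
    (fun _ => hu) (fun _ => hs.1) (c := g) (fun _ => by group)
  have h1 : Std hp p ζ i (k * u * k⁻¹) := by rwa [hks (), mul_inv_cancel_right]
  have l1 := J.tab.lt (a := 0) (b := 1) (by decide)
  have l2 := J.tab.lt (a := 1) (b := 2) (by decide)
  have r1 := isRoot_vec hp M.toCoxeterSystem l1
  have r2 := isRoot_vec hp M.toCoxeterSystem l2
  have h2 : ∀ x y (hxy : x ≠ y) (c : KK p), c ≠ 0 → ∃ h ∈ TT D (KK p), h ∈ JJ hp p i ψ u ∧ ∀ v, cX hp h v =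
      c ^ cpr M.toCoxeterSystem hp.isCartan (rep M.toCoxeterSystem hp.isCartan w v) (vec D l (ρ x y)) := by
    intro x y hxy c h0
    have h3 := hk.inv.conj_mem (ps_hS_mem hp (J.tab.lt hxy) h0)
    have e : k * (k⁻¹ * ps hp (J.tab.lt hxy) (hS c) * k⁻¹⁻¹) * k⁻¹ = ps hp (J.tab.lt hxy) (hS c) := by group
    refine ⟨_, h3, (J.mem_JJ hζ h1).2 (by rw [e]; exact J.ps_mem hxy _), fun v => ?_⟩
    rw [← hk.cX h3, e, cX_hS hp M.toCoxeterSystem (locFin p) p (J.tab.lt hxy) h0]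
  refine ⟨rep M.toCoxeterSystem hp.isCartan w⁻¹ (vec D l (ρ 0 1)), rep M.toCoxeterSystem hp.isCartan w⁻¹ (vec D l (ρ 1 2)),
    AddMonoidHom.mk' (fun v => cpr M.toCoxeterSystem hp.isCartan (rep M.toCoxeterSystem hp.isCartan w v) (vec D l (ρ 0 1)))
      fun x y => by rw [map_add, cpr_add _ _ _ _ r1],
    AddMonoidHom.mk' (fun v => cpr M.toCoxeterSystem hp.isCartan (rep M.toCoxeterSystem hp.isCartan w v) (vec D l (ρ 1 2)))
      fun x y => by rw [map_add, cpr_add _ _ _ _ r2], ?_, ?_, ?_, ?_, h2 0 1 (by decide), h2 1 2 (by decide),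
    fun t ht h3 => ?_⟩
  · rw [AddMonoidHom.mk'_apply, rep_apply_inv, cpr_self _ _ r1]
  · rw [AddMonoidHom.mk'_apply, rep_apply_inv, KFacts.ChevTwoInst.cpr_vec hp _ l1 _ l2, hc.1]
  · rw [AddMonoidHom.mk'_apply, rep_apply_inv, KFacts.ChevTwoInst.cpr_vec hp _ l2 _ l1, hc.2]
  · rw [AddMonoidHom.mk'_apply, rep_apply_inv, cpr_self _ _ r2]
  · have h4 := (J.T_cen_iff (hk.conj_mem ht)).1 ((J.cen_JJ hζ h1).1 h3)
    rw [← hk.cX ht, ← hk.cX ht (rep _ _ w⁻¹ (vec D l (ρ 1 2))), rep_apply_inv, rep_apply_inv]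
    exact ⟨h4 _ ⟨0, 1, by decide, rfl⟩, h4 _ ⟨1, 2, by decide, rfl⟩⟩

variable {Φ : MulAut (YY D p)} (P : Pk (YY D p) Φ) (hT : P.T = TT D (KK p)) (hTy : ∀ z, P.Ty z → z ∈ Om hp p 3 i)
  (hS' : ∀ z, P.Ty z → P.S z = JJ hp p i ψ z)

include hT hTy hS'

theorem exists_bls {z y : YY D p} (h : Pl P.Ty z y) (hz : z ∈ P.T) (hy : y ∈ P.T) :
    ∃ (a b : Fin 4 → Fin l → ℤ) (f g : Fin 4 → (Fin l → ℤ) →+ ℤ),
      ∀ j, Bl hp p (P.S (pt z y j)) (a j) (b j) (f j) (g j) := by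
  have h1 : ∀ j, ∃ a b f g, Bl hp p (P.S (pt z y j)) a b f g := fun j => by
    rw [hS' _ (ty_pt P h j)]
    refine exists_bl J hc ?_ (hTy _ (ty_pt P h j))
    rw [← hT]
    fin_cases j
    exacts [hz, hy, mul_mem hy hz, mul_mem hy (inv_mem hz)]
  choose a b f g h2 using h1
  exact ⟨a, b, f, g, h2⟩

/-- **[No2]** rank at most seven -/
theorem no2 (hl : l < 8) : P.No2 := fun z y h hy => by
  obtain ⟨g, h1, h2⟩ := pl_tor P h
  obtain ⟨a, b, f, g', B⟩ := exists_bls J hc P hT hTy hS' (pl_conj P h g) h1 h2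
  exact absurd (le_of_bl B (pair P (pl_conj P h g) (ce_conj P h.t1 hy g))) (not_le.2 hl)

/-- **[Four]** -/
theorem four (hD : Typ D) (hl : l ≤ 8) : P.Four := fun z y h hy x x1 x2 x3 x4 => by
  obtain ⟨g, h1, h2⟩ := pl_tor P h
  have h3 := pl_conj P h g
  have h4 := ce_conj P h.t1 hy g
  obtain ⟨a, b, f, g', B⟩ := exists_bls J hc P hT hTy hS' h3 h1 h2
  have h5 : ∀ j, g * x * g⁻¹ ∈ Ce (P.S (pt (g * z * g⁻¹) (g * y * g⁻¹) j)) := by
    intro j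
    fin_cases j
    · exact ce_conj P h.t1 x1 g
    · exact ce_conj P h.t2 x2 g
    · show _ ∈ Ce (P.S (g * y * g⁻¹ * (g * z * g⁻¹)))
      rw [conj_mul]
      exact ce_conj P h.t3 x3 g
    · show _ ∈ Ce (P.S (g * y * g⁻¹ * (g * z * g⁻¹)⁻¹))
      rw [conj_inv, conj_mul]
      exact ce_conj P h.t4 x4 g
  have h6 : g * x * g⁻¹ ∈ TT D (KK p) := mem_T hp p hD fun t ht => by
    obtain ⟨s, hs, rfl⟩ := dec_T B (pair P h3 h4) hD hl ht
    have h7 : ∀ j, s j ∈ Cu (g * x * g⁻¹) := fun j => mem_cu.2 (ce_comm (h5 j) (hs j))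
    exact (mem_cu.1 (mul_mem (mul_mem (mul_mem (h7 0) (h7 1)) (h7 2)) (h7 3))).symm
  obtain ⟨s, hs, e⟩ := dec_T B (pair P h3 h4) hD hl h6
  obtain ⟨m, n, e'⟩ := four_of P h3 h4 h5 hs e
  rw [conj_pow, conj_pow, conj_mul] at e'
  exact ⟨m, n, mul_left_cancel (mul_right_cancel e')⟩

omit J hc hT hTy hS' in
theorem car_E8 : RootCombGood.car chevE8 (rho3 chevE8 120 238 0 1) (rho3 chevE8 120 238 1 2) = -1 ∧
    RootCombGood.car chevE8 (rho3 chevE8 120 238 1 2) (rho3 chevE8 120 238 0 1) = -1 := by decide +kernel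

omit J hc hT hTy hS' in
theorem car_E7 : RootCombGood.car chevE7 (rho3 chevE7 93 124 0 1) (rho3 chevE7 93 124 1 2) = -1 ∧
    RootCombGood.car chevE7 (rho3 chevE7 93 124 1 2) (rho3 chevE7 93 124 0 1) = -1 := by decide +kernel

end Cfsg.Agent.TO.T3.Fo
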