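import Cfsg.Agent.TO.T3.Iface

/-!
# S4817, `p = 3`: a fixed point free local automorphism on an abelian normal subgroup of `C(D)` (helper39)
-/

set_option autoImplicit false

namespace Cfsg.Agent.TO.T3

open Cfsg Subgroup
open Cfsg.Agent.TO.Cn Cfsg.Agent.Characters.Core Cfsg.Agent.Characters

namespace KF

variable {H : Type} [Group H] [Finite H] {N : Subgroup H} [N.Normal]

/-- the conjugation action on the functions on a normal subgroup -/
@[reducible] def act (N : Subgroup H) [N.Normal] : MulAction H (N → ℂ) where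
  smul g f := fun n => f (MulAut.conjNormal g⁻¹ n)
  one_smul f := funext fun n => by
    show f (MulAut.conjNormal (1 : H)⁻¹ n) = f n
    rw [inv_one, map_one, MulAut.one_apply]
  mul_smul g h f := funext fun n => by
    show f (MulAut.conjNormal (g * h)⁻¹ n) = f (MulAut.conjNormal h⁻¹ (MulAut.conjNormal g⁻¹ n))
    rw [mul_inv_rev, map_mul, MulAut.mul_apply]

omit [N.Normal] [Finite H] in
/-- a map which preserves the character permutes the constituents -/
theorem comp_mem [Fintype N] {χ : H → ℂ} (γ : N →* N) (hs : Function.Bijective γ) (hγ : ∀ n : N, χ (γ n) = χ n) {f : N → ℂ}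
    (h1 : IsIrrCharacter N f) (h2 : classInner (fun n : N => χ n) f ≠ 0) :
    IsIrrCharacter N (f ∘ γ) ∧ classInner (fun n : N => χ n) (f ∘ γ) ≠ 0 := by
  refine ⟨isIrr_comp γ hs.2 h1, fun h => h2 (Eq.trans ?_ h)⟩
  rw [classInner_def, classInner_def, ← Equiv.sum_comp (Equiv.ofBijective γ hs)]
  exact congrArg _ (Finset.sum_congr rfl fun n _ => congrArg (· * _) (hγ n))

/-- the number of the constituents is prime to `l` -/
theorem card_con [Fintype N] {χ : H → ℂ} (hχ : IsIrrCharacter H χ) {l : ℕ} (hl : l.Prime)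
    (hc : ∀ c : H, ∃ m : ℕ, ¬ l ∣ m ∧ c ^ m ∈ centralizer (N : Set H)) :
    ¬ l ∣ Nat.card {f : N → ℂ | IsIrrCharacter N f ∧ classInner (fun n : N => χ n) f ≠ 0} := by
  classical
  have := Fintype.ofFinite H
  have := Fact.mk hl
  let _ := act N
  obtain ⟨f0, h0⟩ := Blocks.Fong.exists_constituent N ⟨χ, hχ⟩
  have h1 : {f : N → ℂ | IsIrrCharacter N f ∧ classInner (fun n : N => χ n) f ≠ 0} = MulAction.orbit H f0.1 := by
    ext f
    constructor
    · rintro ⟨h2, h3⟩
      obtain ⟨g, hg⟩ := Clifford.exists_conj_of_constituents N hχ f0.2 h2 h0 h3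
      refine ⟨g⁻¹, funext fun n => ?_⟩
      show f0.1 (MulAut.conjNormal g⁻¹⁻¹ n) = f n
      rw [inv_inv, hg]
      rfl
    · rintro ⟨g, rfl⟩
      exact comp_mem ((MulAut.conjNormal g⁻¹ : MulAut N) : N →* N) (MulAut.conjNormal g⁻¹ : MulAut N).bijective
        (fun n => isIrr_isClassFunction hχ n g⁻¹) f0.2 h0
  rw [h1, Nat.card_coe_set_eq, ← MulAction.index_stabilizer]
  intro h2
  have h3 : centralizer (N : Set H) ≤ MulAction.stabilizer H f0.1 := fun g hg => funext fun n => by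
    show f0.1 (MulAut.conjNormal g⁻¹ n) = f0.1 n
    refine congrArg f0.1 (Subtype.ext ?_)
    show g⁻¹ * n * g⁻¹⁻¹ = n
    rw [inv_inv, mul_assoc, mem_centralizer_iff.1 hg n n.2, inv_mul_cancel_left]
  obtain ⟨q, hq⟩ := exists_prime_orderOf_dvd_card' (G := H ⧸ centralizer (N : Set H)) l (h2.trans (index_dvd_of_le h3))
  obtain ⟨c, rfl⟩ := QuotientGroup.mk_surjective q
  obtain ⟨m, m1, m2⟩ := hc c
  exact m1 (hq ▸ orderOf_dvd_of_pow_eq_one ((QuotientGroup.mk_pow _ c m).symm.trans ((QuotientGroup.eq_one_iff _).2 m2)))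

/-- the abstract form -/
theorem ker_of_fpf (hab : ∀ x y : N, x * y = y * x) {χ : H → ℂ} (hχ : IsIrrCharacter H χ) (γ : N →* N)
    (hγ : ∀ n : N, χ (γ n) = χ n) (hf : ∀ n, γ n = n → n = 1) {l j : ℕ} (hl : l.Prime) (hj : ∀ n, γ^[l ^ j] n = n)
    (hc : ∀ c : H, ∃ m : ℕ, ¬ l ∣ m ∧ c ^ m ∈ centralizer (N : Set H)) : ∀ n ∈ N, χ n = χ 1 := by
  classical
  have := Fintype.ofFinite H
  have := Fact.mk hl
  have hs : Function.Bijective γ := Finite.surjective_iff_bijective.1 fun n => by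
    obtain ⟨k, hk⟩ := Nat.exists_eq_succ_of_ne_zero (pow_ne_zero j hl.ne_zero)
    exact ⟨γ^[k] n, by rw [← Function.iterate_succ_apply' γ, ← hk, hj]⟩
  have h1 := card_con (N := N) hχ hl hc
  set Ω := {f : N → ℂ | IsIrrCharacter N f ∧ classInner (fun n : N => χ n) f ≠ 0} with hΩ
  have h2 : Finite Ω := Nat.finite_of_card_ne_zero fun h => h1 (h ▸ dvd_zero l)
  have := Fintype.ofFinite Ω
  let F : Function.End Ω := fun f => ⟨f.1 ∘ γ, comp_mem γ hs hγ f.2.1 f.2.2⟩
  have h3 : ∀ (k : ℕ) (f : Ω), ((F ^ k) f).1 = f.1 ∘ γ^[k] := fun k => by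
    induction k with
    | zero => exact fun f => rfl
    | succ k ih =>
      intro f
      rw [pow_succ', Function.iterate_succ]
      show ((F ^ k) f).1 ∘ γ = _
      rw [ih]
      rfl
  have h4 := Equiv.Perm.card_fixedPoints_modEq (f := F) (p := l) (n := j)
    (funext fun f => Subtype.ext ((h3 _ f).trans (funext fun n => congrArg f.1 (hj n))))
  have h5 : Nonempty F.fixedPoints := by
    by_contra h6
    rw [not_nonempty_iff, ← Fintype.card_eq_zero_iff] at h6
    rw [h6, ← Nat.card_eq_fintype_card] at h4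
    exact h1 (Nat.modEq_zero_iff_dvd.1 h4)
  obtain ⟨⟨f, f1, f2⟩, h6⟩ := h5
  have h7 : ∀ n, f (γ n) = f n := congrFun (congrArg Subtype.val h6)
  have h8 : Function.Injective (fun y : N => γ y * y⁻¹) := fun x y e => by
    have e' : γ x * x⁻¹ = γ y * y⁻¹ := e
    refine inv_mul_eq_one.1 (hf _ ?_)
    rw [map_mul, map_inv, inv_mul_eq_iff_eq_mul, ← mul_assoc, e', inv_mul_cancel_right]
  have h9 : ∀ n, f n = f 1 := fun n => by
    obtain ⟨y, rfl⟩ := Finite.injective_iff_surjective.1 h8 n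
    obtain ⟨c, c1, -⟩ := Cfsg.Agent.ODD.Red.exists_central f1 (z := γ y) (mem_center_iff.2 fun g => hab _ _)
    obtain ⟨d, d1, -⟩ := Cfsg.Agent.ODD.Red.exists_central f1 (z := y) (mem_center_iff.2 fun g => hab _ _)
    have e : c = d := mul_right_cancel₀ (isIrr_apply_one_ne_zero f1) (by rw [← c1, ← d1, mul_one, mul_one, h7])
    show f (γ y * y⁻¹) = f 1
    rw [c1, e, ← d1, mul_inv_cancel]
  have h10 := CharDeep.CliffordCorr.restrict_eq_smul_of_invariant N hχ f1 (fun g => funext fun n => (h9 _).trans (h9 n).symm) f2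
  intro n hn
  refine (congrFun h10 ⟨n, hn⟩).trans (Eq.trans ?_ (congrFun h10 1).symm)
  rw [Pi.smul_apply, Pi.smul_apply, h9]

end KF

/-- **[KF]** -/
theorem boxKF : BoxKF := by
  intro G _ _ p _ M b D θ h A h1 h2 h3 α hα h4 h5 l hl ⟨j, hj⟩ hc a ha
  have : (A.subgroupOf (Ce D)).Normal := ⟨fun n hn c => h3 c c.2 n hn⟩
  let γ : A.subgroupOf (Ce D) →* A.subgroupOf (Ce D) :=
    { toFun := fun n => ⟨⟨α n.1.1, (la_Ce hα _).2 n.1.2⟩, h4 _ n.2⟩
      map_one' := Subtype.ext (Subtype.ext (map_one α))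
      map_mul' := fun x y => Subtype.ext (Subtype.ext (map_mul α _ _)) }
  have h6 : ∀ (k : ℕ) (n : A.subgroupOf (Ce D)), (γ^[k] n).1.1 = (α ^ k) n.1.1 := fun k => by
    induction k with
    | zero => exact fun n => rfl
    | succ k ih =>
      intro n
      rw [Function.iterate_succ_apply', pow_succ', MulAut.mul_apply, ← ih]
      rfl
  refine h.mem_kr.2 ⟨h1 ha, KF.ker_of_fpf (N := A.subgroupOf (Ce D)) (fun x y => Subtype.ext (Subtype.ext
    (mem_centralizer_iff.1 (h2 y.2) _ x.2))) h.irr γ (fun n => hα.2 _)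
    (fun n e => Subtype.ext (Subtype.ext (h5 _ n.2 (congrArg (fun x => x.1.1) e)))) (j := j) hl
    (fun n => Subtype.ext (Subtype.ext ((h6 _ n).trans (hj _ n.2)))) (fun c => ?_) ⟨a, h1 ha⟩ ha⟩
  obtain ⟨m, m1, m2⟩ := hc c c.2
  exact ⟨m, m1, mem_centralizer_iff.2 fun n hn => Subtype.ext (mem_centralizer_iff.1 m2 n hn)⟩

end Cfsg.Agent.TO.T3
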