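import Cfsg.Agent.TO.T3.ALL

/-!
# S4817, `p = 3`, type `E₈`: the box `NA` (helper19)
-/

set_option autoImplicit false
set_option linter.unusedSectionVars false

namespace Cfsg.Agent.TO.X3N

open Cfsg Subgroup Cfsg.Agent.TO.T3
open Cfsg.Agent.BHZ.Nil (KK mem_KK_iff self_le_KK)

variable {Y : Type} [Group Y] {Φ : MulAut Y}

/-- the diagonal map -/
def dl (x g : Y) : Y := g * (x * g * x⁻¹) * (x⁻¹ * g * x)

example := @dl.eq_def

/-- three conjugates of `S` which commute -/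
structure Tr (S : Subgroup Y) (x : Y) : Prop where
  c2 : ∀ g ∈ S, x * g * x⁻¹ ∈ Ce S
  x3 : x ^ 3 = 1

theorem dl_conj {x c : Y} (h : c * x = x * c) (g : Y) : c * dl x g * c⁻¹ = dl x (c * g * c⁻¹) := by
  have h1 : c * x * c⁻¹ = x := by rw [h, mul_inv_cancel_right]
  conv_rhs => rw [← h1]
  unfold dl
  group

theorem dl_map {x : Y} (h : Φ x = x) (g : Y) : Φ (dl x g) = dl x (Φ g) := by
  simp only [dl, map_mul, map_inv, h]

theorem dl_comm {x g a : Y} (h1 : a * g = g * a) (h2 : x⁻¹ * a * x * g = g * (x⁻¹ * a * x))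
    (h3 : x * a * x⁻¹ * g = g * (x * a * x⁻¹)) : a * dl x g = dl x g * a := by
  have h4 : Commute a (x * g * x⁻¹) := by
    show _ = _
    rw [show a * (x * g * x⁻¹) = x * (x⁻¹ * a * x * g) * x⁻¹ by group, h2]
    group
  have h5 : Commute a (x⁻¹ * g * x) := by
    show _ = _
    rw [show a * (x⁻¹ * g * x) = x⁻¹ * (x * a * x⁻¹ * g) * x by group, h3]
    group
  exact ((Commute.mul_right h1 h4).mul_right h5 :)

namespace Tr

variable {S : Subgroup Y} {x g g' : Y} (t : Tr S x)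
include t

theorem c3 (hg : g ∈ S) : x⁻¹ * g * x ∈ Ce S := mem_centralizer_iff.2 fun u hu => by
  rw [show u * (x⁻¹ * g * x) = x⁻¹ * (x * u * x⁻¹ * g) * x by group, ← ce_comm (t.c2 u hu) hg]
  group

theorem sq : x * x = x⁻¹ := eq_inv_of_mul_eq_one_left (by rw [← t.x3, pow_succ, pow_two])

theorem c23 (hg : g ∈ S) (hg' : g' ∈ S) : x * g * x⁻¹ * (x⁻¹ * g' * x) = x⁻¹ * g' * x * (x * g * x⁻¹) := by
  have h1 := ce_comm (t.c2 g' hg') hg
  have h2 : x⁻¹ * g' * x = x * (x * g' * x⁻¹) * x⁻¹ := by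
    rw [show x * (x * g' * x⁻¹) * x⁻¹ = x * x * g' * (x * x)⁻¹ by group, t.sq, inv_inv]
  rw [h2, show x * g * x⁻¹ * (x * (x * g' * x⁻¹) * x⁻¹) = x * (g * (x * g' * x⁻¹)) * x⁻¹ by group, h1]
  group

theorem mul (hg : g ∈ S) (hg' : g' ∈ S) : dl x (g * g') = dl x g * dl x g' := by
  have h1 := ce_comm (t.c2 g hg) hg'
  have h2 := ce_comm (t.c3 hg) hg'
  have h3 := t.c23 hg' hg
  unfold dl
  rw [show x * (g * g') * x⁻¹ = x * g * x⁻¹ * (x * g' * x⁻¹) by group,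
    show x⁻¹ * (g * g') * x = x⁻¹ * g * x * (x⁻¹ * g' * x) by group]
  generalize x * g * x⁻¹ = a at *
  generalize x * g' * x⁻¹ = a' at *
  generalize x⁻¹ * g * x = b at *
  generalize x⁻¹ * g' * x = b' at *
  calc g * g' * (a * a') * (b * b') = g * (g' * a) * (a' * b) * b' := by group
    _ = g * a * (g' * b) * a' * b' := by rw [h1, h3]; group
    _ = _ := by rw [h2]; group

theorem cx (hg : g ∈ S) : x * dl x g = dl x g * x := by
  have h1 := ce_comm (mul_mem (t.c2 g hg) (t.c3 hg)) hg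
  unfold dl
  rw [show x * (g * (x * g * x⁻¹) * (x⁻¹ * g * x)) = x * g * x⁻¹ * (x * x * g * (x * x)⁻¹) * g * x by group, t.sq, inv_inv,
    mul_assoc g, h1]

theorem ce (hg : g ∈ S) (h : dl x g ∈ Ce S) : g ∈ Ce S :=
  (mul_mem_cancel_right (t.c2 g hg)).1 ((mul_mem_cancel_right (t.c3 hg)).1 h)

theorem eq_of {y : Y} (hy : y ∈ S) (y3 : y ^ 3 = 1) (h : dl x y = 1) (hg : g ∈ S) (e : g' * g⁻¹ ∈ zpowers y) :
    dl x g' = dl x g := by
  have h1 : dl x (g' * g⁻¹) = 1 := by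
    rcases cases_of_mem y3 e with e | e | e <;> rw [e]
    · simp [dl]
    · exact h
    · rw [pow_two, t.mul hy hy, h, mul_one]
  rw [← inv_mul_cancel_right g' g, t.mul (zpowers_le.2 hy e) hg, h1, one_mul]

end Tr

variable {P : Pk Y Φ} {G : Type} [Group G] [Finite G] {ι : G →* Y} {A : Subgroup (MulAut G)} {Q : Subgroup G}

/-- the components of two elements commute -/
theorem comp (s : Sit P ι A Q) {u a a' : G} (hu : u ∈ Q) (u1 : u ≠ 1) (ha : a ∈ Q) (hc : a * u = u * a) (ha' : a' ∈ Q)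
    (hc' : a' * u = u * a') {e g e' g' : Y} (he : e ∈ Ce (P.S (ι u))) (hg : g ∈ P.S (ι u)) (h : ι a = e * g)
    (he' : e' ∈ Ce (P.S (ι u))) (hg' : g' ∈ P.S (ι u)) (h' : ι a' = e' * g') : g * g' = g' * g := by
  rcases s.mem_H_or hu u1 ha hc ha' hc' with h1 | ⟨j, h1⟩
  · have h2 : ι a ∈ Ce (P.S (ι u)) := h1.2
    rw [h, mul_mem_cancel_left he] at h2
    exact (ce_comm h2 hg').symm
  · have h2 : ι (a' * a ^ j) ∈ Ce (P.S (ι u)) := h1.2
    rw [map_mul, map_pow, h, h', Commute.mul_pow (ce_comm he hg).symm, mul_assoc, ← mul_assoc g',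
      ce_comm (pow_mem he j) hg', mul_assoc, mul_mem_cancel_left he', mul_mem_cancel_left (pow_mem he j)] at h2
    have h3 := ce_comm h2 hg
    rwa [mul_assoc, ← pow_succ, pow_succ', ← mul_assoc, ← mul_assoc, mul_left_inj] at h3

theorem step (s : Sit P ι A Q) {u a a' : G} (hu : u ∈ Q) (u1 : u ≠ 1) (cu : u ∈ Ce Q) (ha : a ∈ Q) (ha' : a' ∈ Q)
    {e t e' t' : Y} (h : ι a = e * t) (h' : ι a' = e' * t') (ht : t ∈ Ce (P.S (ι u))) (ht' : t' ∈ Ce (P.S (ι u))) :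
    ∃ f ∈ Ce (P.S (ι u)), ∃ f' ∈ Ce (P.S (ι u)), ∃ g ∈ P.S (ι u), ∃ g' ∈ P.S (ι u), e = f * g ∧ e' = f' * g' ∧
      (f * f' = f' * f → e * e' = e' * e) := by
  have hT := s.tyQ hu u1
  have h1 : ∀ {a : G} {e t : Y}, a ∈ Q → ι a = e * t → t ∈ Ce (P.S (ι u)) → e * ι u = ι u * e := fun ha h ht => by
    rw [eq_mul_inv_of_mul_eq h.symm, mul_assoc, ← ce_comm (inv_mem ht) (P.mem _ hT), ← mul_assoc, ← mul_assoc, ← map_mul,
      ← map_mul, ce_comm cu ha]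
  obtain ⟨f, hf, g, hg, rfl⟩ := P.dec _ hT e (h1 ha h ht)
  obtain ⟨f', hf', g', hg', rfl⟩ := P.dec _ hT e' (h1 ha' h' ht')
  have h2 := comp s hu u1 ha (ce_comm cu ha) ha' (ce_comm cu ha') (mul_mem hf ht) hg
    (by rw [h, mul_assoc, mul_assoc, ce_comm ht hg]) (mul_mem hf' ht') hg' (by rw [h', mul_assoc, mul_assoc, ce_comm ht' hg'])
  refine ⟨f, hf, f', hf', g, hg, g', hg', rfl, rfl, fun h3 => ?_⟩
  rw [mul_assoc, ← mul_assoc g, ce_comm hf' hg, mul_assoc, h2, ← mul_assoc, h3, mul_assoc, ← mul_assoc f,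
    ← ce_comm hf hg']
  simp only [mul_assoc]

/-- the four components of a plane -/
structure Six (P : Pk Y Φ) (ι : G →* Y) (u v : G) : Prop where
  n1 : v ≠ 1
  n2 : v * u ≠ 1
  n3 : v * u⁻¹ ≠ 1
  h01 : P.S (ι v) ≤ Ce (P.S (ι u))
  h02 : P.S (ι (v * u)) ≤ Ce (P.S (ι u))
  h03 : P.S (ι (v * u⁻¹)) ≤ Ce (P.S (ι u))
  h12 : P.S (ι (v * u)) ≤ Ce (P.S (ι v))
  h13 : P.S (ι (v * u⁻¹)) ≤ Ce (P.S (ι v))
  h23 : P.S (ι (v * u⁻¹)) ≤ Ce (P.S (ι (v * u)))

theorem six (s : Sit P ι A Q) {u v : G} (hu : u ∈ Q) (hv : v ∈ Q) (hc : v * u = u * v) (u1 : u ≠ 1)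
    (h2 : v ∉ zpowers u) (h3 : ι v ∈ Ce (P.S (ι u))) : Six P ι u v := by
  have hc' : Commute v u := hc
  have m2 := mul_mem hv hu
  have m3 := mul_mem hv (inv_mem hu)
  have v1 : v ≠ 1 := fun e => h2 (e ▸ one_mem _)
  have a2 : v * u ∉ zpowers u := fun h => h2 ((mul_mem_cancel_right (mem_zpowers u)).1 h)
  have a3 : v * u⁻¹ ∉ zpowers u := fun h => h2 ((mul_mem_cancel_right (inv_mem (mem_zpowers u))).1 h)
  have b0 := not_mem_symm u1 (s.cube hv) h2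
  have b2 : v * u ∉ zpowers v := fun h => b0 ((mul_mem_cancel_left (mem_zpowers v)).1 h)
  have b3 : v * u⁻¹ ∉ zpowers v := fun h => b0 (inv_mem_iff.1 ((mul_mem_cancel_left (mem_zpowers v)).1 h))
  have c3 : v * u⁻¹ ∉ zpowers (v * u) := fun h => not_mem_symm v1 (s.cube m2) b2 (by
    have h4 := pow_mem (mul_mem h (mem_zpowers _)) 2
    rwa [hc, mul_assoc, inv_mul_cancel_left, ← pow_two, ← pow_mul, pow_succ, s.cube hv, one_mul, ← hc] at h4)
  have n2 : v * u ≠ 1 := fun e => a2 (e ▸ one_mem _)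
  have tu := s.tyQ hu u1
  have tv := s.tyQ hv v1
  have h01 := two_of s hu hv hc u1 h2 h3
  have h02 := two_of s hu m2 (hc'.mul_left (Commute.refl u)) u1 a2 (by rw [map_mul]; exact mul_mem h3 (P.cen _ tu))
  have h4 := ce_symm h01 (P.mem _ tu)
  have h12 := two_of s hv m2 ((Commute.refl v).mul_left hc'.symm) v1 b2 (by rw [map_mul]; exact mul_mem (P.cen _ tv) h4)
  exact ⟨v1, n2, fun e => a3 (e ▸ one_mem _), h01, h02,
    two_of s hu m3 (hc'.mul_left (Commute.refl u).inv_left) u1 a3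
      (by rw [map_mul, map_inv]; exact mul_mem h3 (inv_mem (P.cen _ tu))), h12,
    two_of s hv m3 ((Commute.refl v).mul_left hc'.symm.inv_left) v1 b3
      (by rw [map_mul, map_inv]; exact mul_mem (P.cen _ tv) (inv_mem h4)),
    two_of s m2 m3 (((Commute.refl v).mul_right hc').mul_left (hc'.symm.mul_right (Commute.refl u)).inv_left) n2 c3 (by
      rw [map_mul ι v u⁻¹, map_inv]
      exact mul_mem (ce_symm h12 (P.mem _ tv)) (inv_mem (ce_symm h02 (P.mem _ tu))))⟩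

/-- no central plane of the second kind -/
theorem cen_le (s : Sit P ι A Q) (four : P.Four) (na : ¬ Q ≤ Ce Q) {z w : G} (hz : z ∈ Q) (z1 : z ≠ 1) (cz : z ∈ Ce Q)
    (hw : w ∈ Q) (cw : w ∈ Ce Q) (h : ι w ∈ Ce (P.S (ι z))) : w ∈ zpowers z := by
  by_contra h1
  have hc := ce_comm cz hw
  have x := six s hz hw hc z1 h1 h
  refine na fun a' ha' => mem_centralizer_iff.2 fun a ha => s.inj ?_
  obtain ⟨e1, a1, e1', a1', g0, b0, g0', b0', r0, r0', k0⟩ :=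
    step s hz z1 cz ha ha' (mul_one _).symm (mul_one _).symm (one_mem _) (one_mem _)
  obtain ⟨e2, a2, e2', a2', g1, b1, g1', b1', rfl, rfl, k1⟩ :=
    step s hw x.n1 cw ha ha' r0 r0' (ce_symm x.h01 b0) (ce_symm x.h01 b0')
  obtain ⟨e3, a3, e3', a3', g2, b2, g2', b2', rfl, rfl, k2⟩ :=
    step s (mul_mem hw hz) x.n2 (mul_mem cw cz) ha ha' (r0.trans (mul_assoc _ _ _)) (r0'.trans (mul_assoc _ _ _))
      (mul_mem (ce_symm x.h12 b1) (ce_symm x.h02 b0)) (mul_mem (ce_symm x.h12 b1') (ce_symm x.h02 b0'))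
  obtain ⟨e4, a4, e4', a4', g3, b3, g3', b3', rfl, rfl, k3⟩ :=
    step s (mul_mem hw (inv_mem hz)) x.n3 (mul_mem cw (inv_mem cz)) ha ha'
      (r0.trans ((mul_assoc _ _ _).trans (mul_assoc _ _ _))) (r0'.trans ((mul_assoc _ _ _).trans (mul_assoc _ _ _)))
      (mul_mem (ce_symm x.h23 b2) (mul_mem (ce_symm x.h13 b1) (ce_symm x.h03 b0)))
      (mul_mem (ce_symm x.h23 b2') (mul_mem (ce_symm x.h13 b1') (ce_symm x.h03 b0')))
  have h2 := four _ _ (pl_of s hz hw hc z1 h1) h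
  rw [← map_inv, ← map_mul, ← map_mul] at h2
  rw [mul_mem_cancel_right (x.h01 b1), mul_mem_cancel_right (x.h02 b2), mul_mem_cancel_right (x.h03 b3)] at a1
  rw [mul_mem_cancel_right (x.h01 b1'), mul_mem_cancel_right (x.h02 b2'), mul_mem_cancel_right (x.h03 b3')] at a1'
  rw [mul_mem_cancel_right (x.h12 b2), mul_mem_cancel_right (x.h13 b3)] at a2
  rw [mul_mem_cancel_right (x.h12 b2'), mul_mem_cancel_right (x.h13 b3')] at a2'
  rw [mul_mem_cancel_right (x.h23 b3)] at a3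
  rw [mul_mem_cancel_right (x.h23 b3')] at a3'
  obtain ⟨i, j, rfl⟩ := h2 _ a1 a2 a3 a4
  obtain ⟨i', j', rfl⟩ := h2 _ a1' a2' a3' a4'
  have h3 : Commute (ι z) (ι w) := (Commute.map hc ι).symm
  rw [map_mul, map_mul]
  exact k0 (k1 (k2 (k3 ((((Commute.refl _).pow_pow i i').mul_right (h3.pow_pow i j')).mul_left
    ((h3.symm.pow_pow j i').mul_right ((Commute.refl _).pow_pow j j'))))))

/-- the extraspecial configuration -/
theorem heis (s : Sit P ι A Q) (hf : ∀ g, Φ g = g → g ∈ ι.range) (nd : P.ND) (dz : DZy Φ (Q.map ι)) {x y z : G}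
    (hx : x ∈ Q) (hy : y ∈ Q) (hz : z ∈ Q) (z1 : z ≠ 1) (cz : z ∈ Ce Q)
    (Z1 : ∀ w ∈ Q, w ∈ Ce Q → ι w ∈ Ce (P.S (ι z)) → w ∈ zpowers z) (yz : y ∉ zpowers z) (yE : ι y ∈ Ce (P.S (ι z)))
    (hq : ∀ q ∈ Q, q * y * q⁻¹ * y⁻¹ ∈ zpowers z) (e : x * y * x⁻¹ = y * z) : False := by
  have := Fact.mk Nat.prime_three
  have hc := ce_comm cz hy
  have X := six s hz hy hc z1 yz yE
  have hT := s.tyQ hy X.n1
  have e' : x⁻¹ * y * x = y * z⁻¹ := by
    rw [eq_mul_inv_iff_mul_eq, mul_assoc, ce_comm cz hx, ← mul_assoc, mul_assoc x⁻¹, ← e]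
    group
  have m2 : ∀ g ∈ P.S (ι y), ι x * g * (ι x)⁻¹ ∈ P.S (ι (y * z)) := fun g hg => by
    have h1 := P.Sc _ hT g hg (ι x)
    rwa [← map_inv ι x, ← map_mul, ← map_mul, e, map_inv] at h1
  have m3 : ∀ g ∈ P.S (ι y), (ι x)⁻¹ * g * ι x ∈ P.S (ι (y * z⁻¹)) := fun g hg => by
    have h1 := P.Sc _ hT g hg (ι x)⁻¹
    rwa [inv_inv, ← map_inv ι x, ← map_mul, ← map_mul, e', map_inv] at h1
  have t : Tr (P.S (ι y)) (ι x) := ⟨fun g hg => X.h12 (m2 g hg), by rw [← map_pow, s.cube hx, map_one]⟩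
  have d1 : dl (ι x) (ι y) = 1 := by
    rw [dl, ← map_inv, ← map_mul, ← map_mul, ← map_mul, ← map_mul, ← map_mul, ← map_mul, e, e', hc, ← map_one ι,
      ← s.cube hy, ← mul_assoc, ← mul_assoc, hc, mul_assoc z, mul_assoc z, mul_assoc z,
      ce_comm (inv_mem cz) (mul_mem (mul_mem hy hy) hy), mul_inv_cancel_left, pow_three']
  have deq : ∀ {g g' : Y}, g ∈ P.S (ι y) → g' * g⁻¹ ∈ zpowers (ι y) → dl (ι x) g' = dl (ι x) g :=
    t.eq_of (P.mem _ hT) (P.ty3 _ hT) d1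
  have nA : ∀ a ∈ Q, a * y = y * a → ∀ q ∈ Q, q * a * q⁻¹ * y = y * (q * a * q⁻¹) := fun a ha h q hq' => by
    have h1 := ce_comm (zpowers_le.2 cz (hq _ (inv_mem hq'))) ha
    have h2 : Commute a (q⁻¹ * y * q⁻¹⁻¹ * y⁻¹ * y) := Commute.mul_right h1 h
    rw [show q * a * q⁻¹ * y = q * (a * (q⁻¹ * y * q⁻¹⁻¹ * y⁻¹ * y)) * q⁻¹ by group, h2.eq]
    group
  have xi : ∀ i : ℕ, x ^ i * y * (x ^ i)⁻¹ = z ^ i * y := fun i => by
    induction i with
    | zero => simp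
    | succ i ih =>
      rw [show x ^ (i + 1) * y * (x ^ (i + 1))⁻¹ = x * (x ^ i * y * (x ^ i)⁻¹) * x⁻¹ by group, ih, ← mul_assoc,
        ce_comm (pow_mem cz i) hx, mul_assoc, mul_assoc, ← mul_assoc x, e, hc, pow_succ, mul_assoc]
  have cen : ∀ g ∈ P.S (ι y), (∀ a ∈ Q, a * y = y * a → ι a * g = g * ι a) → ∀ q ∈ Q,
      ι q * dl (ι x) g = dl (ι x) g * ι q := fun g hg h q hq' => by
    obtain ⟨i, hi⟩ : ∃ i : ℕ, q * y * q⁻¹ * y⁻¹ = z ^ i := by
      rcases cases_of_mem (s.cube hz) (hq q hq') with h1 | h1 | h1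
      exacts [⟨0, by rw [h1, pow_zero]⟩, ⟨1, by rw [h1, pow_one]⟩, ⟨2, h1⟩]
    have ha := mul_mem (inv_mem (pow_mem hx i)) hq'
    have h1 : (x ^ i)⁻¹ * q * y = y * ((x ^ i)⁻¹ * q) := by
      rw [show (x ^ i)⁻¹ * q * y = (x ^ i)⁻¹ * (q * y * q⁻¹ * y⁻¹ * y) * q by group, hi, ← xi]
      group
    have h2 := h _ (mul_mem (mul_mem (inv_mem hx) ha) (inv_mem (inv_mem hx))) (nA _ ha h1 _ (inv_mem hx))
    have h3 := h _ (mul_mem (mul_mem hx ha) (inv_mem hx)) (nA _ ha h1 _ hx)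
    rw [inv_inv, map_mul, map_mul, map_inv] at h2
    rw [map_mul, map_mul, map_inv] at h3
    have h4 := Commute.mul_left (Commute.pow_left (t.cx hg) i) (dl_comm (h _ ha h1) h2 h3)
    rw [← map_pow, ← map_mul, mul_inv_cancel_left] at h4
    exact h4
  have fix : ∀ g ∈ P.PP hT (s.fix y), Φ (dl (ι x) g) = dl (ι x) g := fun g hg => by
    rw [dl_map (s.fix x), deq hg.1 hg.2]
  have hA : ∀ a ∈ Q, a * y = y * a → ι a ∈ Ce (P.S (ι y)) := fun a ha h => by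
    obtain ⟨f, h1, g, hg, h2⟩ := P.dec _ hT (ι a) (by rw [← map_mul, ← map_mul, h])
    obtain ⟨c, h3⟩ := hf _ (fix g ⟨hg, s.lam_mem hy X.n1 h1 hg h2⟩)
    have h4 : c ∈ Ce Q := mem_centralizer_iff.2 fun q hq' => s.inj (by
      rw [map_mul, map_mul, h3]
      refine cen g hg (fun a' ha' h' => ?_) q hq'
      obtain ⟨f', h1', g', hg', h2'⟩ := P.dec _ hT (ι a') (by rw [← map_mul, ← map_mul, h'])
      rw [h2', mul_assoc, ← comp s hy X.n1 ha h ha' h' h1 hg h2 h1' hg' h2', ← mul_assoc, ← ce_comm h1' hg, mul_assoc])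
    have h5 : f ^ 3 * g ^ 3 = 1 := by
      rw [← Commute.mul_pow (ce_comm h1 hg).symm, ← h2, ← map_pow, s.cube ha, map_one]
    have h6 : g ^ 3 * 1⁻¹ ∈ zpowers (ι y) := by
      rw [inv_one, mul_one]
      exact P.int _ hT _ (pow_mem hg 3) (eq_inv_of_mul_eq_one_right h5 ▸ inv_mem (pow_mem h1 3))
    have h7 : c ^ 3 = 1 := s.inj (by
      rw [map_pow, h3, pow_three', ← t.mul hg hg, ← t.mul (mul_mem hg hg) hg, ← pow_three', deq (one_mem _) h6, map_one]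
      simp [dl])
    have h8 : c ∈ KK 3 Q := mem_KK_iff.2 fun r hr _ => s.inj (by
      have h9 := split_mem (MulAut.conj (ι r)) (P.conj_iff hT (by rw [← map_mul, ← map_mul, ce_comm hr hy])) h1 hg (by
        rw [← h2, MulAut.conj_apply, ← map_mul, ← ce_comm hr ha, map_mul, mul_inv_cancel_right])
      rw [map_mul, map_mul, h3, ← mul_inv_eq_iff_eq_mul, dl_conj (by rw [← map_mul, ← map_mul, ce_comm hr hx])]
      exact deq hg (P.int _ hT _ h9.1 h9.2))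
    have h10 : c ∈ Q := by
      rw [← s.pure.syl (Q ⊔ zpowers c) (s.pure.pg.to_sup_of_normal_right'
        (fun u => ⟨1, Subtype.ext (cube_of_mem h7 u.2)⟩) ((ce_symm (zpowers_le.2 h4)).trans (centralizer_le_normalizer _)))
        le_sup_left (sup_le (self_le_KK Q) (zpowers_le.2 h8))]
      exact mem_sup_right (mem_zpowers c)
    obtain ⟨i, hi⟩ := Z1 c h10 h4 (h3 ▸ mul_mem (mul_mem (X.h01 hg) (X.h02 (m2 g hg))) (X.h03 (m3 g hg)))
    rw [h2]
    refine mul_mem h1 (t.ce hg ?_)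
    rw [← h3, ← hi, map_zpow]
    exact zpow_mem (ce_symm X.h01 (P.mem _ (s.tyQ hz z1))) i
  obtain ⟨N, _, _, f, s1, k1, n1⟩ := exists_quot hf nd hT (s.fix y)
  have cen' : ∀ g ∈ P.S (ι y), ∀ q ∈ Q, ι q * dl (ι x) g = dl (ι x) g * ι q := fun g hg =>
    cen g hg fun a ha h => (ce_comm (hA a ha h) hg).symm
  refine n1 (dz _ _ (MonoidHom.mk' (fun g : P.PP hT (s.fix y) => dl (ι x) g) fun g g' => t.mul g.2.1 g'.2.1) f s1 (fun g => fix g g.2) ?_
    (fun c h1 h2 g => ⟨⟨_, conj_PP hT (s.fix y) h1 (h2 _ (mem_map_of_mem ι hy)).symm g.2⟩,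
      (dl_conj (h2 _ (mem_map_of_mem ι hx)).symm _).symm⟩) fun g => (k1 g).trans ⟨fun h => ?_, ?_⟩)
  · rintro g _ ⟨q, hq', rfl⟩
    exact cen' g g.2.1 q hq'
  · show dl (ι x) g ∈ _
    rw [deq (one_mem _) (by simpa using h)]
    simp [dl]
  · rintro ⟨q, hq', h⟩
    have h1 : ι q = dl (ι x) g := h
    refine P.int _ hT _ g.2.1 (t.ce g.2.1 (h1 ▸ hA q hq' (s.inj ?_)))
    rw [map_mul, map_mul, h1, cen' g g.2.1 y hy]

end Cfsg.Agent.TO.X3N

namespace Cfsg.Agent.TO.T3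

open Cfsg Subgroup Cfsg.Agent.TO.X3N

theorem boxNA : BoxNA := by
  intro Y _ Φ P G _ _ ι M b D h na
  have := Fact.mk Nat.prime_three
  have s := h.sit
  have h1 : Nontrivial D := (nontrivial_iff_ne_bot D).2 fun e => na (e ▸ bot_le)
  obtain ⟨⟨⟨z, hz⟩, h2⟩, h3⟩ := @exists_ne _ s.pure.pg.center_nontrivial 1
  have z1 : z ≠ 1 := fun e => h3 (Subtype.ext (Subtype.ext e))
  have cz : z ∈ Ce D := mem_centralizer_iff.2 fun q hq => congrArg Subtype.val (mem_center_iff.1 h2 ⟨q, hq⟩)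
  have hT := s.tyQ hz z1
  have Z1 := fun w => cen_le s h.eight.four na (w := w) hz z1 cz
  obtain ⟨y, hy, yz, hq⟩ : ∃ y ∈ P.H ι D z, y ∉ zpowers z ∧ ∀ q ∈ D, q * y * q⁻¹ * y⁻¹ ∈ zpowers z := by
    by_contra h4
    push Not at h4
    have h5 : ∀ n, ∀ y ∈ Subgroup.upperCentralSeries D n, (y : G) ∈ P.H ι D z → (y : G) ∈ zpowers z := fun n => by
      induction n with
      | zero =>
        intro y hy _
        rw [mem_bot.1 hy]
        exact one_mem _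
      | succ n ih =>
        intro y hy h6
        by_contra h7
        obtain ⟨q, hq, h8⟩ := h4 y h6 h7
        refine h8 ?_
        have h9 := ih _ (inv_mem (Subgroup.mem_upperCentralSeries_succ_iff.1 hy ⟨q, hq⟩))
        rw [commutatorElement_inv, commutatorElement_def] at h9
        refine h9 (mul_mem ⟨D.mul_mem (D.mul_mem hq h6.1) (D.inv_mem hq), mem_centralizer_iff.2 fun u hu => ?_⟩ (inv_mem h6))
        have h10 := ce_comm h6.2 (P.conj_mem hT (x := (ι q)⁻¹) (Commute.map (ce_comm cz hq) ι).inv_left hu)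
        show u * ι (q * y * q⁻¹) = ι (q * y * q⁻¹) * u
        rw [map_mul, map_mul, map_inv, show u * (ι q * ι y * (ι q)⁻¹) = ι q * ((ι q)⁻¹ * u * (ι q)⁻¹⁻¹ * ι y) * (ι q)⁻¹ by group,
          h10]
        group
    obtain ⟨n, hn⟩ := s.pure.pg.isNilpotent.nilpotent
    have h6 : ∀ y ∈ P.H ι D z, y ∈ Ce D := fun y hy => zpowers_le.2 cz (h5 n ⟨y, hy.1⟩ (hn ▸ mem_top _) hy)
    refine na fun a ha => mem_centralizer_iff.2 fun a' ha' => ?_
    rcases s.mem_H_or hz z1 ha (ce_comm cz ha) ha' (ce_comm cz ha') with h7 | ⟨j, h7⟩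
    · exact ce_comm (h6 a h7) ha'
    · have h8 := ce_comm (h6 _ h7) ha
      rw [mul_assoc, ← pow_succ, pow_succ', ← mul_assoc, ← mul_assoc, mul_left_inj] at h8
      exact h8.symm
  obtain ⟨q, hq', h4⟩ : ∃ q ∈ D, q * y ≠ y * q := by
    by_contra h4
    push Not at h4
    exact yz (Z1 y hy.1 (mem_centralizer_iff.2 h4) hy.2)
  have h5 := fun x hx => heis s h.full.full h.eight.nd (dzy_of h) (x := x) hx hy.1 hz z1 cz Z1 yz hy.2 hq
  have h6 := ce_comm cz hy.1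
  rcases cases_of_mem (s.cube hz) (hq q hq') with e | e | e
  · exact h4 (mul_inv_eq_iff_eq_mul.1 (mul_inv_eq_one.1 e))
  · exact h5 q hq' (by rw [h6, ← e, inv_mul_cancel_right])
  · refine h5 _ (mul_mem hq' hq') ?_
    rw [mul_inv_eq_iff_eq_mul] at e
    rw [show q * q * y * (q * q)⁻¹ = q * (q * y * q⁻¹) * q⁻¹ by group, e, ← mul_assoc, ce_comm (pow_mem cz 2) hq',
      mul_assoc, mul_assoc, ← mul_assoc q, e, ← mul_assoc, ← pow_add, pow_succ, s.cube hz, one_mul, h6]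

end Cfsg.Agent.TO.T3
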