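import Cfsg.Agent.TO.T3.Iface
import Cfsg.Agent.BHZ.Exc.ND4
import Cfsg.Agent.BHZ.Exc.AL
import Cfsg.Agent.BHZ.Exc.TAG2
import Cfsg.Agent.DS.Nt.JThree

/-!
# S4817, `p = 3`: the field `ND` of the package (helper4)

* `nd_of` : `P.ND` if every `S z` with `Φ z = z` is `SL₃(k)` with a standard Frobenius map;
* `exists_stm` : this holds for the subgroups `JJ` of `DS.Nt`;
* `nd_JJ` : the two together; `pos_E7`, `pos_E8` : the tables.
-/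

set_option autoImplicit false
set_option linter.unusedSectionVars false
set_option maxRecDepth 100000

namespace Cfsg.Agent.TO.T3.ND

open CoxeterSystem Cfsg Cfsg.Lie Cfsg.Lie.ChevalleyDatum Subgroup
open Cfsg.Agent.ChevalleyStructure Cfsg.Agent.ChevalleyStructure.Elts Cfsg.Agent.ChevalleyStructure.CoxeterGeom
  Cfsg.Agent.ChevalleyStructure.CoxeterGeomTypes Cfsg.Agent.ChevalleyStructure.RootVec
open Cfsg.Agent.Tits.Roots Cfsg.Agent.Tits.Core Cfsg.Agent.Nodes Cfsg.Agent.Nodes.Reps Cfsg.Agent.Nodes.BNOf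
  Cfsg.Agent.Nodes.RGDChev Cfsg.Agent.Nodes.Bruhat Cfsg.Agent.Nodes.Coroot
open Cfsg.Agent.KFacts.RgdField Cfsg.Agent.KFacts.RgdChevCoord
open Cfsg.Agent.BpExc Cfsg.Agent.BpExc.TorCent Cfsg.Agent.BpExc.TorChev Cfsg.Agent.BpExc.Tow
  Cfsg.Agent.BpExc.TowChev Cfsg.Agent.BpExc.Fr Cfsg.Agent.BpExc.LangFr
open Cfsg.Agent.H469.Exc Cfsg.Agent.H469.Exc.SigFr Cfsg.Agent.H795.SetCent Cfsg.Agent.H129.TorusChar Cfsg.Agent.DS.Ex
open Cfsg.Agent.H185.EE Cfsg.Agent.H81.TorOrth Cfsg.Agent.H605.MX Cfsg.Agent.DS.Nt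
open Cfsg.Agent.H321.Ker (stG stm sc toGL_inj' toGL_stm sc_comm sc_mul sc_one sc_inv sc_pow sc_mem mem_scalars_iff_sc
  exists_lin exists_uni mono)
open Cfsg.Agent.BHZ.Exc (boxND frame_change)
open Cfsg.Agent.BHZ.Exc.AA (S3 center_iff exists_decomp stG_sc)
open Matrix.SpecialLinearGroup (toGL transvection)
open scoped MatrixGroups

section Abs

variable {Y : Type} [Group Y] {Φ : MulAut Y} {r : ℕ} [Fact r.Prime]

theorem cen_iff (P : Pk Y Φ) {z : Y} (h : P.Ty z) {φ : S3 r →* Y} (hi : Function.Injective φ) (hr : φ.range = P.S z)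
    (c : S3 r) : φ c ∈ zpowers z ↔ c ∈ center (S3 r) := by
  constructor
  · intro hc
    refine mem_center_iff.2 fun m => hi ?_
    rw [map_mul, map_mul]
    exact mem_centralizer_iff.1 (zpowers_le.2 (P.cen z h) hc) _ (by rw [← hr]; exact ⟨m, rfl⟩)
  · intro hc
    refine P.int z h _ (by rw [← hr]; exact ⟨c, rfl⟩) (mem_centralizer_iff.2 fun s hs => ?_)
    rw [← hr] at hs
    obtain ⟨m, rfl⟩ := hs
    rw [← map_mul, ← map_mul, mem_center_iff.1 hc]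

/-- **[nd] from standard Frobenius maps.** -/
theorem nd_of (P : Pk Y Φ) (h3 : r ≠ 3) {e : ℕ} (he : 0 < e)
    (hS : ∀ z, P.Ty z → Φ z = z → ∃ (φ : S3 r →* Y) (Dm : GL (Fin 3) (KK r)) (uni : Bool),
      Function.Injective φ ∧ φ.range = P.S z ∧ ∀ m, Φ (φ m) = φ (stm r e Dm uni m)) : P.ND := by
  intro z h hz N _ _ f hf hk
  obtain ⟨φ, Dm, uni, hi, hr, hΦ⟩ := hS z h hz
  have hc := cen_iff P h hi hr
  have hP : ∀ g, φ g ∈ P.PP h hz ↔ stm r e Dm uni g * g⁻¹ ∈ center (S3 r) := fun g => by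
    rw [← hc, map_mul, map_inv, ← hΦ]
    exact ⟨fun h1 => h1.2, fun h1 => ⟨by rw [← hr]; exact ⟨g, rfl⟩, h1⟩⟩
  have key : ∀ (g g' : S3 r) (s s' : (KK r)ˣ) (h1 : φ g ∈ P.PP h hz) (h2 : φ g' ∈ P.PP h hz),
      toGL g * sc 3 s = toGL g' * sc 3 s' → f ⟨_, h1⟩ = f ⟨_, h2⟩ := fun g g' s s' h1 h2 h4 => by
    rw [← inv_mul_eq_one, ← map_inv, ← map_mul, hk]
    show (φ g)⁻¹ * φ g' ∈ zpowers z
    rw [← map_inv, ← map_mul, hc, center_iff, map_mul, map_inv, ← mul_inv_eq_iff_eq_mul.2 h4, mul_assoc,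
      inv_mul_cancel_left]
    exact mul_mem (sc_mem _) (inv_mem (sc_mem _))
  choose n s hn using exists_decomp (r := r)
  have hm : ∀ x : (stG r e Dm uni).eqLocus (MonoidHom.id _), φ (n x) ∈ P.PP h hz := fun x => by
    have h1 : stG r e Dm uni x = x := x.2
    obtain ⟨w, hw⟩ := stG_sc e Dm uni (s x)
    rw [hn x, map_mul, hw, ← toGL_stm] at h1
    rw [hP, center_iff, map_mul, map_inv, eq_mul_inv_of_mul_eq h1, mul_assoc (toGL _), ← sc_inv, ← sc_mul,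
      ← sc_comm, mul_inv_cancel_right]
    exact sc_mem _
  have hmul : ∀ x y : GL (Fin 3) (KK r), toGL (n (x * y)) * sc 3 (s (x * y)) = toGL (n x * n y) * sc 3 (s x * s y) :=
    fun x y => by
      rw [← hn]
      conv_lhs => rw [hn x, hn y]
      rw [map_mul, sc_mul, mul_assoc, mul_assoc, ← mul_assoc (sc 3 (s x)), sc_comm (s x), mul_assoc]
  let f' : (stG r e Dm uni).eqLocus (MonoidHom.id _) →* N := MonoidHom.mk' (fun x => f ⟨_, hm x⟩) fun x y => by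
    rw [← map_mul]
    have h1 : φ (n x * n y) ∈ P.PP h hz := by rw [map_mul]; exact mul_mem (hm x) (hm y)
    exact (key _ _ _ _ (hm (x * y)) h1 (hmul x y)).trans (congrArg f (Subtype.ext (map_mul φ _ _)))
  refine boxND r h3 e 1 he (Or.inl rfl) Dm uni ?_ N f' (fun y => ?_) (fun x => ?_) N (MonoidHom.id N)
    Function.surjective_id (by rw [MonoidHom.ker_id]; exact bot_le) (by rw [MonoidHom.ker_id, card_bot])
  · obtain ⟨c, rfl⟩ : z ∈ φ.range := by rw [hr]; exact P.mem z h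
    obtain ⟨ω, hω⟩ := mem_scalars_iff_sc.1 (center_iff.1 ((hc c).1 (mem_zpowers _)))
    refine ⟨ω, fun h1 => P.ty1 ?_, BHZ.Exc.ND.sc_inj ?_, ?_⟩
    · rw [h1, sc_one, ← map_one toGL] at hω
      rwa [toGL_inj' hω, map_one] at h
    · have h1 : c ^ 3 = 1 := hi (by rw [map_pow, P.ty3 _ h, map_one])
      rw [sc_pow, ← hω, ← map_pow, h1, map_one, sc_one]
    · rw [← hω, ← toGL_stm, hi ((hΦ c).symm.trans hz)]
  · obtain ⟨⟨y, hy⟩, rfl⟩ := hf y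
    obtain ⟨g, rfl⟩ : y ∈ φ.range := by rw [hr]; exact hy.1
    obtain ⟨c, h1⟩ := mem_scalars_iff_sc.1 (center_iff.1 ((hP g).1 hy))
    rw [map_mul, map_inv, toGL_stm, mul_inv_eq_iff_eq_mul] at h1
    obtain ⟨w, hw⟩ := BHZ.Exc.TAG.exists_scale he h1
    exact ⟨⟨_, hw⟩, key _ _ _ _ _ hy (hn _).symm⟩
  · show f ⟨_, hm x⟩ = 1 ↔ _
    rw [hk]
    show φ (n x) ∈ zpowers z ↔ _
    rw [hc, center_iff]
    conv_rhs => rw [hn x]
    exact (mul_mem_cancel_right (sc_mem _)).symm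

end Abs

section Frame

variable {D : ChevalleyDatum} {l : ℕ} {M : CoxeterMatrix (Fin l)} {hp : IsType D l M} {r : ℕ} [Fact r.Prime]
  {i : Fin l} {ρ : Fin 3 → Fin 3 → ℕ} {cf : List (ℕ × ℤ)}

/-- `ρ 0 1`, `ρ 1 2` are positive with the sum `ρ 0 2` -/
def Pos (D : ChevalleyDatum) (ρ : Fin 3 → Fin 3 → ℕ) : Prop :=
  (∀ j < D.rank, 0 ≤ rt D (ρ 0 1) j ∧ 0 ≤ rt D (ρ 1 2) j ∧ rt D (ρ 0 2) j = rt D (ρ 0 1) j + rt D (ρ 1 2) j) ∧
    ρ 0 1 ≠ ρ 1 2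

theorem pos_E7 : Pos chevE7 (rho3 chevE7 93 124) := ⟨by decide +kernel, by decide +kernel⟩

theorem pos_E8 : Pos chevE8 (rho3 chevE8 120 238) := ⟨by decide +kernel, by decide +kernel⟩

include hp in
theorem perm (T : Tab D 3 i ρ cf) (h : Pos D ρ) (g : (Fin l → ℤ) ≃+ (Fin l → ℤ))
    (hg : ∀ x ∈ SR D l ρ, g x ∈ SR D l ρ) (hpos : ∀ x ∈ SR D l ρ, 0 ≤ x → 0 ≤ g x) :
    (∀ a b, a ≠ b → g (vec D l (ρ a b)) = vec D l (ρ a b)) ∨
      ∀ a b, a ≠ b → g (vec D l (ρ a b)) = vec D l (ρ (Fin.revPerm b) (Fin.revPerm a)) := by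
  have h1 : 0 ≤ vec D l (ρ 0 1) := fun j => (h.1 j (lt_rank hp j)).1
  have h2 : 0 ≤ vec D l (ρ 1 2) := fun j => (h.1 j (lt_rank hp j)).2.1
  have h3 : vec D l (ρ 0 2) = vec D l (ρ 0 1) + vec D l (ρ 1 2) := funext fun j => (h.1 j (lt_rank hp j)).2.2
  have h4 := (pos_three hp T h1 h2 h3 h.2 g hg hpos).1
  have n : ∀ a b, a ≠ b → vec D l (ρ b a) = -vec D l (ρ a b) := fun a b hab => by
    rw [T.neg hab, vec_neg hp (T.lt hab)]
  have rt : ∀ a b, a ≠ b → IsRoot M.toCoxeterSystem hp.isCartan (vec D l (ρ a b)) := fun a b hab =>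
    T.root hp ⟨a, b, hab, rfl⟩
  have h6 : ∀ a b : Fin 3, a ≠ b → (a = 0 ∧ b = 1) ∨ (a = 1 ∧ b = 2) ∨ (a = 0 ∧ b = 2) ∨ (a = 1 ∧ b = 0) ∨
    (a = 2 ∧ b = 1) ∨ (a = 2 ∧ b = 0) := by decide
  have h7 : g (vec D l (ρ 0 1)) + g (vec D l (ρ 1 2)) = vec D l (ρ 0 1) + vec D l (ρ 1 2) := by
    rw [← map_add, ← h3, h4]
  have h8 := hpos _ ⟨0, 1, by decide, rfl⟩ h1
  obtain ⟨a, b, hab, e⟩ := hg _ ⟨0, 1, by decide, rfl⟩
  rcases h6 a b hab with ⟨rfl, rfl⟩ | ⟨rfl, rfl⟩ | ⟨rfl, rfl⟩ | ⟨rfl, rfl⟩ | ⟨rfl, rfl⟩ | ⟨rfl, rfl⟩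
  · rw [e, add_right_inj] at h7
    refine Or.inl fun a b hab => ?_
    rcases h6 a b hab with ⟨rfl, rfl⟩ | ⟨rfl, rfl⟩ | ⟨rfl, rfl⟩ | ⟨rfl, rfl⟩ | ⟨rfl, rfl⟩ | ⟨rfl, rfl⟩
    · exact e
    · exact h7
    · exact h4
    · rw [n 0 1 (by decide), map_neg, e]
    · rw [n 1 2 (by decide), map_neg, h7]
    · rw [n 0 2 (by decide), map_neg, h4]
  · rw [e, add_comm, add_left_inj] at h7
    refine Or.inr fun a b hab => ?_
    rcases h6 a b hab with ⟨rfl, rfl⟩ | ⟨rfl, rfl⟩ | ⟨rfl, rfl⟩ | ⟨rfl, rfl⟩ | ⟨rfl, rfl⟩ | ⟨rfl, rfl⟩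
    · exact e
    · exact h7
    · exact h4
    · rw [n 0 1 (by decide), map_neg, e]
      exact (n 1 2 (by decide)).symm
    · rw [n 1 2 (by decide), map_neg, h7]
      exact (n 0 1 (by decide)).symm
    · rw [n 0 2 (by decide), map_neg, h4]
      exact (n 0 2 (by decide)).symm
  · have h9 := g.injective (e.trans h4.symm)
    rw [h3, left_eq_add] at h9
    have h10 := rt 1 2 (by decide)
    exact (h10.not_pos_neg h2 h9.le).elim
  · rw [e, n 0 1 (by decide)] at h8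
    exact ((rt 0 1 (by decide)).not_pos_neg h1 (neg_nonneg.1 h8)).elim
  · rw [e, n 1 2 (by decide)] at h8
    exact ((rt 1 2 (by decide)).not_pos_neg h2 (neg_nonneg.1 h8)).elim
  · rw [e, n 0 2 (by decide)] at h8
    exact ((rt 0 2 (by decide)).not_pos_neg (h3 ▸ add_nonneg h1 h2) (neg_nonneg.1 h8)).elim

variable {ψ : S3 r →* YY D r} (J : JD hp r 3 i ρ cf ψ) (h : Pos D ρ) {σ : MulAut (YY D r)} {e : ℕ}
  {g : (Fin l → ℤ) ≃+ (Fin l → ℤ)}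

include J h

/-- the standard position -/
theorem stm_std (hσ : IsFrob r e σ) (F : Fr M.toCoxeterSystem hp.isCartan (TT D (KK r)) (XX D l (KK r)) σ g)
    (hg : ∀ x ∈ SR D l ρ, g x ∈ SR D l ρ) (hpos : ∀ x ∈ SR D l ρ, 0 ≤ x → 0 ≤ g x) :
    ∃ (Dm : GL (Fin 3) (KK r)) (uni : Bool), ∀ m, σ (ψ m) = ψ (stm r e Dm uni m) := by
  have h1 : ∀ a b : Fin 3, ∃ c : KK r, ∀ hab : a ≠ b, c ≠ 0 ∧ ∀ a' b' (hab' : a' ≠ b'),
      g (vec D l (ρ a b)) = vec D l (ρ a' b') →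
        ∀ t, σ (ψ (transvection hab t)) = ψ (transvection hab' (c * t ^ r ^ e)) := fun a b => by
    by_cases hab : a = b
    · exact ⟨1, fun h => absurd hab h⟩
    obtain ⟨s', hs', e', d, hd, h6, -⟩ := act_fr hp M.toCoxeterSystem (locFin r) (r := r) hσ F (J.tab.lt hab)
    refine ⟨d, fun _ => ⟨hd, fun a' b' hab' h2 t => ?_⟩⟩
    obtain rfl : s' = ρ a' b' := vec_inj hp hs' (J.tab.lt hab') (e'.trans h2)
    rw [J.tv, J.tv, h6]
  choose c hc using h1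
  have hinj : ∀ (a b : Fin 3) (hab : a ≠ b), Function.Injective fun t : KK r => ψ (transvection hab t) :=
    fun a b hab _ _ e => J.tv_inj hab e
  rcases perm (hp := hp) J.tab h g hg hpos with h2 | h2
  · obtain ⟨d, -, hd⟩ := exists_lin (r := r) (e := e) (φ := σ.toMonoidHom) (π := 1) (c := c) le_rfl hinj
      (fun a b hab => (hc a b hab).1) fun a b hab t => (hc a b hab).2 a b hab (h2 a b hab) t
    exact ⟨_, _, hd⟩
  · obtain ⟨d, -, hd⟩ := exists_uni (r := r) (e := e) (φ := σ.toMonoidHom) (π := Fin.revPerm) (c := c) le_rfl hinj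
      (fun a b hab => (hc a b hab).1) fun a b hab t => (hc a b hab).2 _ _ _ (h2 a b hab) t
    exact ⟨_, _, hd⟩

/-- **The Frobenius map on `J z`.** -/
theorem exists_stm (he : 0 < e) (hσ : IsFrob r e σ)
    (F : Fr M.toCoxeterSystem hp.isCartan (TT D (KK r)) (XX D l (KK r)) σ g) {z : YY D r} (hz : z ∈ Om hp r 3 i)
    (hσz : σ z = z) : ∃ (φ : S3 r →* YY D r) (Dm : GL (Fin 3) (KK r)) (uni : Bool),
      Function.Injective φ ∧ φ.range = JJ hp r i ψ z ∧ ∀ m, σ (φ m) = φ (stm r e Dm uni m) := by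
  obtain ⟨y, ζ, hζ, ht⟩ := hz
  obtain ⟨y', g', h1, h2, F', h3⟩ := frame_change (hp := hp) he hσ F hσz ht.1
  have h4 : (MulAut.conj y' * σ * MulAut.conj y'⁻¹) (y * z * y⁻¹) = y * z * y⁻¹ := by
    rw [← h1]
    show y' * σ (y'⁻¹ * (y' * z * y'⁻¹) * y'⁻¹⁻¹) * y'⁻¹ = _
    rw [show y'⁻¹ * (y' * z * y'⁻¹) * y'⁻¹⁻¹ = z by group, hσz]
  obtain ⟨Dm, uni, h5⟩ := stm_std J h h2 F' (fun x hx => J.frame_S F' hζ hζ ht (by rw [h4]; exact ht) hx)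
    fun x hx => h3 x ((ht.mem_Ps hζ).2 ⟨J.tab.root hp hx, J.tab.dvd hx⟩)
  rw [← h1] at ht
  refine ⟨(MulAut.conj y'⁻¹).toMonoidHom.comp ψ, Dm, uni, (J.sd_conj hζ ht).inj, (J.JJ_eq hζ ht).symm, fun m => ?_⟩
  have h6 : y' * σ (y'⁻¹ * ψ m * y'⁻¹⁻¹) * y'⁻¹ = _ := h5 m
  show σ (y'⁻¹ * ψ m * y'⁻¹⁻¹) = y'⁻¹ * ψ _ * y'⁻¹⁻¹
  rw [← h6]
  group

/-- **[nd] for the frame.** -/
theorem nd_JJ (he : 0 < e) (hσ : IsFrob r e σ)
    (F : Fr M.toCoxeterSystem hp.isCartan (TT D (KK r)) (XX D l (KK r)) σ g) (P : Pk (YY D r) σ)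
    (hT : ∀ z, P.Ty z → z ∈ Om hp r 3 i) (hS : ∀ z, P.Ty z → P.S z = JJ hp r i ψ z) : P.ND :=
  nd_of P J.ne.symm he fun z h1 h2 => by
    rw [hS z h1]
    exact exists_stm J h he hσ F (hT z h1) h2

end Frame

end Cfsg.Agent.TO.T3.ND
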