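import Cfsg.Agent.TO.T3.LI
import Cfsg.Agent.TO.RedA

/-!
# S4817, `p = 3`: Lemma I for the covers, and the types `F₄`, `E₇` (helper54)

* `false_of_AA` : the odd order lifts of the elements of `AA` do not all lie in the kernel of `θ`;
* `boxNEGI`, `row_of_no2`.
-/

set_option autoImplicit false
set_option linter.unusedSectionVars false

namespace Cfsg.Agent.TO.T3

open Cfsg Subgroup

variable {Y : Type} [Group Y] {Φ : MulAut Y} {P : Pk Y Φ} {X : Type} [Group X] {ι : X →* Y} {G : Type} [Group G] [Finite G]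
  {σ : G →* X} {M : Ideal AlgInt} {b : Set (IrrCharacter G)} {D : Subgroup G} {θ : G → ℂ}

/-- a central extension by a group of exponent two -/
structure Cov2 (σ : G →* X) : Prop where
  cen : ∀ z, σ z = 1 → ∀ g, g * z = z * g
  two : ∀ z, σ z = 1 → z ^ 2 = 1

theorem cov2_of (H : Hyp 3 M b D σ) (h : Nat.card (center G) ∣ 2) : Cov2 σ := by
  have h1 : ∀ z, σ z = 1 → z ∈ center G := fun z hz => H.ker ▸ hz
  refine ⟨fun z hz => mem_center_iff.1 (h1 z hz), fun z hz => ?_⟩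
  exact orderOf_dvd_iff_pow_eq_one.1 (((center G).orderOf_dvd_natCard (h1 z hz)).trans h)

theorem eq_one_of_odd {z : G} {n : ℤ} (hn : Odd n) (h1 : z ^ n = 1) (h2 : z ^ 2 = 1) : z = 1 := by
  obtain ⟨k, rfl⟩ := hn
  rwa [zpow_add, zpow_mul, zpow_ofNat, h2, one_zpow, one_mul, zpow_one] at h1

/-- lifts of odd order are unique -/
theorem Cov2.uniq (c : Cov2 σ) {g h : G} {n : ℤ} (hn : Odd n) (e : σ g = σ h) (h1 : g ^ n = 1) (h2 : h ^ n = 1) :
    g = h := by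
  have h3 : σ (g * h⁻¹) = 1 := by rw [map_mul, map_inv, e, mul_inv_cancel]
  have h4 := Commute.mul_zpow (c.cen _ h3 h).symm n
  rw [inv_mul_cancel_right, h1, h2, mul_one] at h4
  exact mul_inv_eq_one.1 (eq_one_of_odd hn h4.symm (c.two _ h3))

/-- lifts of odd order exist -/
theorem Cov2.lift (c : Cov2 σ) {n : ℤ} (hn : Odd n) {g : G} (h : σ g ^ n = 1) : ∃ g', σ g' = σ g ∧ g' ^ n = 1 := by
  obtain ⟨k, hk⟩ := hn.add_one
  refine ⟨g ^ (n + 1), by rw [map_zpow, zpow_add, h, one_mul, zpow_one], ?_⟩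
  rw [← zpow_mul, mul_comm, zpow_mul, hk, ← two_mul, zpow_mul, zpow_ofNat, c.two _ (by rw [map_zpow, h]), one_zpow]

theorem conj_zpow_eq_one {g x : G} {n : ℤ} (h : g ^ n = 1) : (x * g * x⁻¹) ^ n = 1 := by
  rw [conj_zpow, h, mul_one, mul_inv_cancel]

/-- the lifts of odd order of the elements of an abelian subgroup -/
def Cov2.hat (c : Cov2 σ) {A : Subgroup X} (hA : A ≤ Ce A) {n : ℤ} (hn : Odd n) : Subgroup G where
  carrier := {g | σ g ∈ A ∧ g ^ n = 1}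
  one_mem' := ⟨by simp, one_zpow n⟩
  mul_mem' := by
    rintro g h ⟨h1, h2⟩ ⟨h3, h4⟩
    refine ⟨by rw [map_mul]; exact mul_mem h1 h3, ?_⟩
    have h5 : h * g * h⁻¹ = g := c.uniq hn (by rw [map_mul, map_mul, map_inv, ce_comm (hA h1) h3, mul_inv_cancel_right])
      (conj_zpow_eq_one h2) h2
    rw [Commute.mul_zpow (mul_inv_eq_iff_eq_mul.1 h5).symm, h2, h4, one_mul]
  inv_mem' := by
    rintro g ⟨h1, h2⟩
    exact ⟨by rw [map_inv]; exact inv_mem h1, by rw [inv_zpow, h2, inv_one]⟩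

theorem map_Ce {c : G} (hc : c ∈ Ce D) : σ c ∈ Ce (D.map σ) := mem_centralizer_iff.2 (by
  rintro _ ⟨d, hd, rfl⟩
  rw [← map_mul, ← map_mul, ce_comm hc hd])

theorem map_ab (h : D ≤ Ce D) : D.map σ ≤ Ce (D.map σ) := by
  rintro _ ⟨d, hd, rfl⟩
  exact map_Ce (h hd)

/-- the end of the argument -/
theorem false_of_AA (H : Hyp 3 M b D σ) (h2 : Nat.card (center G) ∣ 2) (h : Can 3 M b D θ)
    (s : Sit P ι (Ind σ b) (D.map σ)) {z : X} (hz : z ∈ D.map σ) (h1 : z ≠ 1) (hn : ¬ D.map σ ≤ P.H ι (D.map σ) z)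
    (hk : ∀ g, σ g ∈ P.AA ι (D.map σ) z → g ^ (P.q ^ 2 + P.q + 1) = 1 → g ∈ h.kr) : False := by
  have := Fact.mk Nat.prime_three
  have : Finite X := Finite.of_surjective σ H.surj
  have C := cov2_of H h2
  obtain ⟨a1, a2, -, -, c, c1, c2, c3, c4, c5⟩ := boxLI Y Φ P X ι _ _ s (map_ab h.ab) z hz h1 hn
  have hN := odd_N P.q
  have hN3 : Odd (3 * (P.q ^ 2 + P.q + 1)) := Odd.mul (by decide) hN
  obtain ⟨g₀, rfl⟩ := H.surj c
  obtain ⟨c, e, h3⟩ := C.lift hN3 (g := g₀) (by rw [zpow_mul, zpow_ofNat, a1 _ c3])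
  rw [← e] at c1 c2 c3 c4 c5
  rw [zpow_mul, zpow_ofNat] at h3
  have h4 : c ^ 3 ∈ C.hat a2 hN := ⟨by rwa [map_pow], h3⟩
  have h5 : ∀ a ∈ C.hat a2 hN, c * a * c⁻¹ ∈ C.hat a2 hN := fun a ha =>
    ⟨by rw [map_mul, map_mul, map_inv]; exact c4 _ ha.1, conj_zpow_eq_one ha.2⟩
  have h6 : c ∈ normalizer (D : Set G) := mem_normalizer_fintype fun d hd => by
    obtain ⟨d', h7, h8⟩ := (mem_normalizer_iff.1 c1 _).1 (mem_map_of_mem σ hd)
    obtain ⟨i, hi⟩ := h.pg ⟨d, hd⟩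
    obtain ⟨j, hj⟩ := h.pg ⟨d', h7⟩
    rw [C.uniq (g := c * d * c⁻¹) (h := d') (n := (3 ^ (i + j) : ℕ)) (by exact_mod_cast Odd.pow (by decide : Odd 3))
      (by rw [h8, map_mul, map_mul, map_inv]) (conj_zpow_eq_one (by
        rw [zpow_natCast, pow_add, pow_mul, show d ^ 3 ^ i = 1 from congrArg Subtype.val hi, one_pow]))
      (by rw [zpow_natCast, pow_add, mul_comm, pow_mul, show d' ^ 3 ^ j = 1 from congrArg Subtype.val hj, one_pow])]
    exact h7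
  have h7 : c ∈ In D θ := by
    refine ⟨fun y => (mem_normalizer_iff.1 h6 y).symm, fun g => ?_⟩
    show θ (c * g * c⁻¹) = θ g
    by_cases hg : g ∈ Ce D
    · have h8 := c5 _ (map_Ce (σ := σ) hg)
      rw [← map_inv, ← map_inv, ← map_mul, ← map_mul, ← map_mul] at h8
      obtain ⟨a, e1, e2⟩ := C.lift hN (a1 _ h8)
      have h9 : a ∈ C.hat a2 hN := ⟨e1 ▸ h8, e2⟩
      have h10 : (a⁻¹ * c) ^ 3 ∈ C.hat a2 hN := by
        rw [show (a⁻¹ * c) ^ 3 = a⁻¹ * (c * a⁻¹ * c⁻¹) * (c * (c * a⁻¹ * c⁻¹) * c⁻¹) * c ^ 3 by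
          simp only [pow_succ, pow_zero, one_mul, mul_assoc, inv_mul_cancel_left]]
        exact mul_mem (mul_mem (mul_mem (inv_mem h9) (h5 _ (inv_mem h9))) (h5 _ (h5 _ (inv_mem h9)))) h4
      have h11 : g * c * g⁻¹ = a⁻¹ * c := C.uniq hN3 (by
        rw [map_mul σ a⁻¹, map_inv σ a, e1]
        simp only [map_mul, map_inv, mul_inv_rev, inv_inv, mul_assoc, inv_mul_cancel, mul_one])
        (conj_zpow_eq_one (by rw [zpow_mul, zpow_ofNat, h3])) (by rw [zpow_mul, zpow_ofNat, h10.2])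
      rw [← h.kr_mul (hk a h9.1 h9.2) g]
      congr 1
      calc c * g * c⁻¹ = c * (g * c * g⁻¹)⁻¹ * g := by group
        _ = c * c⁻¹ * a * g := by rw [h11]; group
        _ = _ := by group
    · rw [h.zero g hg, h.zero _ fun h3 => hg ?_]
      have h4 := conj_mem_Ce (inv_mem h6) h3
      rwa [show c⁻¹ * (c * g * c⁻¹) * c⁻¹⁻¹ = g by group] at h4
  exact c2 (map_Ce (h.mem_Ce_of_pow h7 (k := 1) (h.kr_le (hk _ h4.1 h4.2))))

theorem boxNEGI : BoxNEGI := by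
  intro Y _ Φ P X _ ι G _ _ σ M b D θ H h2 h s z hz h1 hn t ht hi
  have := Fact.mk Nat.prime_three
  have : Finite X := Finite.of_surjective σ H.surj
  have C := cov2_of H h2
  obtain ⟨a1, a2, a3, a4, -⟩ := boxLI Y Φ P X ι _ _ s (map_ab h.ab) z hz h1 hn
  have hN := odd_N P.q
  refine false_of_AA H h2 h s hz h1 hn fun g g1 g2 => h.kr_of_real (S := C.hat a2 hN) (fun a ha => ?_) (fun c hc a ha => ?_) ?_
    (fun c hc => ⟨3, by decide, 1, one_mem _, fun a ha => ?_⟩) (fun a ha => ?_) ⟨g1, g2⟩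
  · refine mem_centralizer_iff.2 fun d hd => mul_inv_eq_iff_eq_mul.1 (C.uniq hN ?_ (conj_zpow_eq_one ha.2) ha.2)
    rw [map_mul, map_mul, map_inv, ce_comm ha.1.2 (mem_map_of_mem σ hd), mul_inv_cancel_right]
  · exact ⟨by rw [map_mul, map_mul, map_inv]; exact (a3 _ (map_Ce hc)).1 _ ha.1, conj_zpow_eq_one ha.2⟩
  · by_contra h3
    have := Fact.mk Nat.prime_two
    obtain ⟨a, ha⟩ := exists_prime_orderOf_dvd_card' 2 (even_iff_two_dvd.1 (Nat.not_odd_iff_even.1 h3))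
    have h4 : a = 1 := Subtype.ext (eq_one_of_odd hN a.2.2 (congrArg Subtype.val (ha ▸ pow_orderOf_eq_one a)))
    rw [h4, orderOf_one] at ha
    exact absurd ha (by decide)
  · rw [one_mul, inv_one, mul_one]
    refine C.uniq hN ?_ (conj_zpow_eq_one ha.2) ha.2
    rw [map_mul, map_mul, map_inv, map_pow, ← ce_comm (a3 _ (map_Ce hc)).2 ha.1, mul_inv_cancel_right]
  · rw [← (pow_mem ht 3).2 a]
    congr 1
    refine C.uniq hN ?_ (inv_mem ha).2 (conj_zpow_eq_one ha.2)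
    rw [MulAut.conj_apply, map_mul, map_mul, map_inv, map_inv, map_pow, a4 (σ t) ?_ _ ha.1]
    rintro _ ⟨d, hd, rfl⟩
    rw [← map_inv, ← map_inv, ← map_mul, ← map_mul, hi d hd]

omit [Finite G] in
/-- without a plane in the centralizer of `S z` -/
theorem Sit.H_le {A : Subgroup (MulAut X)} {Q : Subgroup X} (s : Sit P ι A Q) (hP : P.No2) {z : X} (hz : z ∈ Q)
    (h1 : z ≠ 1) : P.H ι Q z ≤ zpowers z := fun y hy => by
  by_contra h2
  refine hP _ _ (s.pl hz h1 hy.1 (s.inj ?_) h2) hy.2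
  rw [map_mul, map_mul, ce_comm hy.2 (P.mem _ (s.tyQ hz h1))]

omit [Finite G] in
theorem Sit.not_le_H {A : Subgroup (MulAut X)} {Q : Subgroup X} (s : Sit P ι A Q) (hP : P.No2) {z : X} (hz : z ∈ Q)
    (h1 : z ≠ 1) : ¬ Q ≤ P.H ι Q z := fun h => s.pure.nc (by
  rw [le_antisymm (h.trans (s.H_le hP hz h1)) (zpowers_le.2 hz)]
  infer_instance)

omit [Finite G] in
theorem Sit.nine [Finite X] {A : Subgroup (MulAut X)} {Q : Subgroup X} (s : Sit P ι A Q) (hP : P.No2) :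
    Q ≤ Ce Q ∧ Nat.card Q = 9 := by
  have := Fact.mk Nat.prime_three
  have : Nontrivial Q := by
    by_contra h
    have := not_nontrivial_iff_subsingleton.1 h
    exact s.pure.nc inferInstance
  have := s.pure.pg.center_nontrivial
  obtain ⟨⟨⟨z, hz⟩, h0⟩, h1⟩ := exists_ne (1 : center Q)
  have h2 : z ≠ 1 := fun e => h1 (Subtype.ext (Subtype.ext e))
  have h3 : ∀ a ∈ Q, a * z = z * a := fun a ha => congrArg Subtype.val (mem_center_iff.1 h0 ⟨a, ha⟩)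
  obtain ⟨y, hy, h4⟩ := SetLike.not_le_iff_exists.1 (s.not_le_H hP hz h2)
  have h5 : ∀ a ∈ Q, ∃ u ∈ zpowers z, ∃ v ∈ zpowers y, a = u * v := fun a ha => by
    obtain ⟨j, hj⟩ := (s.mem_H_or hz h2 hy (h3 y hy) ha (h3 a ha)).resolve_left h4
    exact ⟨_, s.H_le hP hz h2 hj, _, inv_mem (pow_mem (Subgroup.mem_zpowers y) j), (mul_inv_cancel_right _ _).symm⟩
  refine ⟨fun a ha => mem_centralizer_iff.2 fun c hc => ?_, ?_⟩
  · obtain ⟨_, ⟨i, rfl⟩, _, ⟨j, rfl⟩, rfl⟩ := h5 a ha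
    obtain ⟨_, ⟨k, rfl⟩, _, ⟨l, rfl⟩, rfl⟩ := h5 c hc
    have h6 : Commute y z := h3 y hy
    exact (((Commute.refl z).zpow_zpow k i).mul_right (h6.symm.zpow_zpow k j)).mul_left
      ((h6.zpow_zpow l i).mul_right ((Commute.refl y).zpow_zpow l j))
  · have h6 : ∀ u ∈ Q, Nat.card (zpowers u) ≤ 3 := fun u hu => by
      rw [Nat.card_zpowers]
      exact Nat.le_of_dvd (by decide) (orderOf_dvd_of_pow_eq_one (s.cube hu))
    have h7 : Nat.card Q ≤ 9 := by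
      refine (Nat.card_le_card_of_surjective (fun x : zpowers z × zpowers y =>
        (⟨x.1 * x.2, mul_mem (zpowers_le.2 hz x.1.2) (zpowers_le.2 hy x.2.2)⟩ : Q)) fun a => ?_).trans ?_
      · obtain ⟨u, hu, v, hv, e⟩ := h5 a a.2
        exact ⟨(⟨u, hu⟩, ⟨v, hv⟩), Subtype.ext e.symm⟩
      · rw [Nat.card_prod]
        exact Nat.mul_le_mul (h6 z hz) (h6 y hy)
    obtain ⟨n, hn⟩ := IsPGroup.iff_card.1 s.pure.pg
    have h8 : n ≤ 2 := (Nat.pow_le_pow_iff_right (by decide : 1 < 3)).1 (hn ▸ h7)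
    interval_cases n
    · exact absurd (Nat.card_eq_one_iff_unique.1 hn).1 (not_subsingleton Q)
    · exact absurd (isCyclic_of_prime_card (p := 3) hn) s.pure.nc
    · exact hn

/-- **Types `F₄` and `E₇`.** -/
theorem row_of_no2 (B : Blk) (hP : P.No2) (H : Hyp 3 M b D σ) (h2 : Nat.card (center G) ∣ 2)
    (s : Sit P ι (Ind σ b) (D.map σ)) : False := by
  have := Fact.mk Nat.prime_three
  have : Finite X := Finite.of_surjective σ H.surj
  obtain ⟨h3, h4⟩ := s.nine hP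
  have h5 : D ≤ Ce D := fun a ha => mem_centralizer_iff.2 fun c hc => congrArg Subtype.val
    (H.injD (a₁ := ⟨c, hc⟩ * ⟨a, ha⟩) (a₂ := ⟨a, ha⟩ * ⟨c, hc⟩) (Subtype.ext (by
      show σ (c * a) = σ (a * c)
      rw [map_mul, map_mul, ce_comm (h3 (mem_map_of_mem σ ha)) (mem_map_of_mem σ hc)])))
  have h6 : Nat.card D = 9 := (Nat.card_eq_of_bijective _ ⟨H.injD, σ.subgroupMap_surjective D⟩).trans h4
  obtain ⟨θ, h⟩ := B.can0 G 3 M b D H.hM H.hb H.hD h5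
  obtain ⟨t, ht, hi⟩ := B.neg G 3 M b D θ H.toTwo h (.inr h6)
  have : Nontrivial (D.map σ) := Finite.one_lt_card_iff_nontrivial.1 (by rw [h4]; decide)
  obtain ⟨⟨z, hz⟩, h1⟩ := exists_ne (1 : D.map σ)
  have h7 : z ≠ 1 := fun e => h1 (Subtype.ext e)
  exact boxNEGI Y Φ P X ι G σ M b D θ H h2 h s z hz h7 (s.not_le_H hP hz h7) t ht hi

end Cfsg.Agent.TO.T3
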