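import Cfsg.Agent.TO.T3.NoneB

/-!
# S4817, `p = 3`, `E₈`: the box NONE (helper15)
-/

set_option autoImplicit false
set_option linter.unusedSectionVars false

namespace Cfsg.Agent.TO.T3

open Cfsg Subgroup
open Cfsg.Agent.BHZ.Nil (KK self_le_KK mem_KK_iff)

namespace No

variable {G : Type} [Group G] [Finite G] {M : Ideal AlgInt} {b : Set (IrrCharacter G)} {D : Subgroup G} {θ : G → ℂ}

/-- an element of prime power order prime to `6` of the inertia group -/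
theorem exists_lelt [Fact (Nat.Prime 3)] (h : Can 3 M b D θ) (h2 : ¬ ∀ t ∈ In D θ, ∃ k : ℕ, t ^ 2 ^ k ∈ Ce D) :
    ∃ s ∈ In D θ, s ∉ Ce D ∧ ∃ l a : ℕ, l.Prime ∧ 5 ≤ l ∧ s ^ l ^ a = 1 := by
  have := Cn.normal_Ce (D := D) (θ := θ)
  by_contra h3
  have h1 : IsPGroup 2 (In D θ ⧸ (Ce D).subgroupOf (In D θ)) :=
    IsPGroup.of_card (Nat.eq_prime_pow_of_unique_prime_dvd Nat.card_pos.ne' fun {r} hr hd => by_contra fun h4 => by
      have := Fact.mk hr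
      obtain ⟨q, hq⟩ := exists_prime_orderOf_dvd_card' r hd
      obtain ⟨t, rfl⟩ := QuotientGroup.mk_surjective q
      obtain ⟨a, m, h5, h6⟩ := Nat.exists_eq_pow_mul_and_not_dvd (orderOf_pos t).ne' r hr.ne_one
      refine h3 ⟨_, (t ^ m).2, fun h7 => h5 ?_, r, a, hr,
        hr.five_le_of_ne_two_of_ne_three h4 fun e => h.idx (e ▸ hd), ?_⟩
      · rw [← hq, orderOf_dvd_iff_pow_eq_one, ← QuotientGroup.mk_pow, QuotientGroup.eq_one_iff]
        exact h7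
      · rw [← coe_pow, ← pow_mul, mul_comm, ← h6, pow_orderOf_eq_one, coe_one])
  refine h2 fun t ht => ?_
  obtain ⟨k, hk⟩ := h1 (⟨t, ht⟩ : In D θ)
  rw [← QuotientGroup.mk_pow, QuotientGroup.eq_one_iff] at hk
  exact ⟨k, hk⟩

variable {Y : Type} [Group Y] {Φ : MulAut Y} {P : Pk Y Φ} {ι : G →* Y} {A : Subgroup (MulAut G)}

theorem p3 (S : Sit P ι A D) {d : G} (hd : d ∈ D) : d ^ 3 = 1 :=
  haveI := Fact.mk Nat.prime_three
  S.pure.expo d (self_le_KK D hd) (Cn.pElt S.pure.pg hd)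

theorem map_Ce {x : G} (hx : x ∈ Ce D) : ι x ∈ Ce (D.map ι) := by
  rintro _ ⟨d, hd, rfl⟩
  rw [← map_mul, ← map_mul, hx d hd]

/-- the order of the defect group and the torus -/
theorem tor_of (hLS : BoxLS) (h8 : P.Eight) (S : Sit P ι A D) (hab : D ≤ Ce D) (hno : ∀ z ∈ D, z ≠ 1 → ¬ D ≤ P.H ι D z)
    (h9 : Nat.card D ≠ 9) {z : D} (hz : z ≠ 1) : Nat.card D = 81 ∧
      (∀ z : D, z ≠ 1 → ((Ce (P.S (ι z))).comap (ι.comp D.subtype)).index = 3) ∧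
      ∃ T, Tor P T ∧ D.map ι ≤ T ∧ (∀ u ∈ Ce (D.map ι), ¬ 3 ∣ orderOf u → u ∈ T) ∧ P.S (ι z) ⊓ Ce (D.map ι) ≤ T := by
  let : CommGroup D := { (inferInstance : Group D) with mul_comm := fun x y => Subtype.ext (hab y.2 x x.2) }
  have ne : ∀ {v : D}, v ≠ 1 → (v : G) ≠ 1 := fun h e => h (Subtype.ext e)
  have C : Cfg P (ι.comp D.subtype) :=
    { inj := S.inj.comp Subtype.val_injective
      fix := fun v => S.fix v
      p3 := fun v => Subtype.ext (p3 S v.2)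
      ty := fun v hv => S.ty v (self_le_KK D v.2) (p3 S v.2) (ne hv)
      ls1 := fun z hz a a₁ h1 a₂ h2 e =>
        ((hLS Y Φ P G ι A D S z z.2 (ne hz) a a.2 (hab z.2 a a.2)).1 a₁ h1 a₂ h2 e).imp_right fun h3 h4 => (h3 h4).2
      ls2 := fun z hz a a' => ((hLS Y Φ P G ι A D S z z.2 (ne hz) a a.2 (hab z.2 a a.2)).2 a' a'.2
        (hab z.2 a' a'.2)).imp (fun h => h.2) fun ⟨j, h⟩ => ⟨j, h.2⟩
      non := fun z hz => by_contra fun h => hno z z.2 (ne hz) fun a ha => ⟨ha, by_contra fun h1 => h ⟨⟨a, ha⟩, h1⟩⟩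
      four := h8.four }
  obtain ⟨y, y1, y2⟩ := SetLike.not_le_iff_exists.1 fun h : HH P (ι.comp D.subtype) z ≤ zpowers z => h9 (by
    rw [← (HH P (ι.comp D.subtype) z).card_mul_index, C.index hz, le_antisymm h (C.zp_le hz), Nat.card_zpowers, C.ord hz])
  have h1 := C.exists_tor hz y2 y1 (tor_T h8)
  rw [MonoidHom.range_comp, range_subtype] at h1
  exact ⟨C.card hz y2 y1, fun z hz => C.index hz, h1⟩

theorem five (q : ℤ) : ¬ 5 ∣ q ^ 2 + q + 1 := fun h => by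
  have h1 := (ZMod.intCast_zmod_eq_zero_iff_dvd _ 5).2 h
  push_cast at h1
  generalize (q : ZMod 5) = x at h1
  revert x
  decide

end No

open No

/-- **[NONE]** -/
theorem boxNONE (B : Blk) (hLS : BoxLS) (hLI : BoxLI) (hN : BoxNEGI) (hKF : BoxKF) : BoxNONE := by
  rintro Y _ Φ P G _ _ ι M b D H ⟨hab, hno⟩
  have := Fact.mk Nat.prime_three
  have S := H.sit
  obtain ⟨θ, h⟩ := B.can0 G 3 M b D H.hyp.hM H.hyp.hb H.hyp.hD hab
  obtain ⟨z, hz⟩ := ne_bot_iff_exists_ne_one.1 fun e : D = ⊥ => S.pure.nc (e ▸ inferInstance)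
  have z1 : (z : G) ≠ 1 := fun e => hz (Subtype.ext e)
  by_cases h2 : (∀ t ∈ In D θ, ∃ k : ℕ, t ^ 2 ^ k ∈ Ce D) ∨ Nat.card D = 9
  · obtain ⟨t, t1, t2⟩ := B.neg G 3 M b D θ H.hyp.toTwo h h2
    exact hN Y Φ P G ι G (MonoidHom.id G) M b D θ H.hyp (by
      rw [← H.hyp.ker, (MonoidHom.ker_eq_bot_iff _).2 Function.injective_id, card_bot]
      exact one_dvd 2) h (by rwa [map_id]) z (by rw [map_id]; exact z.2) z1 (by rw [map_id]; exact hno z z.2 z1) t t1 t2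
  obtain ⟨h81, hi, T, t1, t2, t3, t4⟩ := tor_of hLS H.eight S hab hno (not_or.1 h2).2 hz
  obtain ⟨s, s1, s2, l, a, l1, l2, s3⟩ := exists_lelt h (not_or.1 h2).1
  have ty : ∀ v : D, v ≠ 1 → P.Ty (ι v) := fun v hv => S.ty v (self_le_KK D v.2) (p3 S v.2) fun e => hv (Subtype.ext e)
  obtain ⟨rfl, s4⟩ := fpf h81 _ hi (fun z hz => P.cen _ (ty z hz)) (φ := D.normalizerMonoidHom ⟨s, In_le_norm s1⟩) (a := a)
    l1 l2 (by rw [← map_pow, ← map_one D.normalizerMonoidHom]; exact congrArg _ (Subtype.ext s3))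
    (fun e => s2 fun d hd => (mul_inv_eq_iff_eq_mul.1
      (show s * d * s⁻¹ = d from congrArg Subtype.val (DFunLike.congr_fun e (⟨d, hd⟩ : D)))).symm)
    fun z hz e x hx => by
      have h3 := Ce_conj (ty z hz) (ι s) (y := ι x) hx
      rw [← map_inv, ← map_mul, ← map_mul, ← map_mul, ← map_mul, show s * z * s⁻¹ = z from congrArg Subtype.val e] at h3
      exact h3
  have nT : ∀ x ∈ normalizer (D : Set G), ∀ t ∈ T, ι x * t * (ι x)⁻¹ ∈ T := fun x hx => t1.tn _ t2 t3 _ (by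
    rintro _ ⟨d, hd, rfl⟩
    exact ⟨x⁻¹ * d * x, (mem_normalizer_iff''.1 hx d).1 hd, by rw [map_mul, map_mul, map_inv]⟩)
  have cm : ∀ x y, ι x ∈ T → ι y ∈ T → x * y = y * x := fun x y h3 h4 =>
    S.inj (by rw [map_mul, map_mul, t1.comm _ h3 _ h4])
  have rg : ∀ x ∈ Ce D, ¬ 3 ∣ orderOf x → ι x ∈ T := fun x hx h3 => t3 _ (map_Ce hx) (by rwa [orderOf_injective ι S.inj])
  have cD : ∀ x, ι x ∈ T → x ∈ Ce D := fun x hx d hd => cm _ _ (t2 ⟨d, hd, rfl⟩) hx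
  have lat := t1.lat (ι s) (nT s (In_le_norm s1)) (5 ^ a) (by rw [← map_pow, s3, map_one]) fun v hv v3 h4 => by_contra fun v1 => by
    obtain ⟨u, u1, u2, u3, u4, u5⟩ := t1.exists_fix H.eight.fin t2 t3 (by
      rintro _ ⟨d, hd, rfl⟩
      exact ⟨S.fix d, by rw [← map_pow, p3 S hd, map_one]⟩) (S.fix s) hv v3 h4 v1
    obtain ⟨w, rfl⟩ := H.full.full u u5
    rw [← map_pow, map_eq_one_iff _ S.inj] at u2
    rw [← map_mul, ← map_mul, S.inj.eq_iff] at u3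
    have w1 : w ≠ 1 := fun e => u4 (by rw [e, map_one])
    have w2 := S.pure.syl (zpowers w ⊔ D) (IsPGroup.to_sup_of_normal_right'
      (IsPGroup.of_card (n := 1) (by rw [Nat.card_zpowers, orderOf_eq_prime u2 w1, pow_one])) S.pure.pg
      (zpowers_le.2 (centralizer_le_normalizer _ (cD w u1)))) le_sup_right
      (sup_le (zpowers_le.2 (mem_KK_iff.2 fun y hy h3 => cm _ _ (rg y hy h3) u1)) (self_le_KK D))
    exact w1 (congrArg Subtype.val (s4 ⟨w, w2.le (mem_sup_left (mem_zpowers w))⟩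
      (Subtype.ext (mul_inv_eq_iff_eq_mul.2 u3))))
  let A : Subgroup G :=
    { carrier := {x | ι x ∈ T ∧ x ^ (P.q ^ 2 + P.q + 1) = 1}
      one_mem' := ⟨by rw [map_one]; exact one_mem T, one_zpow _⟩
      mul_mem' := fun {x y} hx hy => ⟨by rw [map_mul]; exact mul_mem hx.1 hy.1, by
        rw [Commute.mul_zpow (cm x y hx.1 hy.1), hx.2, hy.2, mul_one]⟩
      inv_mem' := fun {x} hx => ⟨by rw [map_inv]; exact inv_mem hx.1, by rw [inv_zpow, hx.2, inv_one]⟩ }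
  have nA : ∀ x ∈ normalizer (D : Set G), ∀ t ∈ A, x * t * x⁻¹ ∈ A := fun x hx t ht =>
    ⟨by rw [map_mul, map_mul, map_inv]; exact nT x hx _ ht.1, by rw [conj_zpow, ht.2, mul_one, mul_inv_cancel]⟩
  have kr := hKF G 3 M b D θ h A (fun x hx => cD x hx.1) (fun x hx y hy => cm _ _ hy.1 hx.1)
    (fun c hc => nA c (centralizer_le_normalizer _ hc)) (MulAut.conj s) s1 (nA s (In_le_norm s1)) (fun x hx e => by
      have h3 := lat _ hx.1 (by rw [← map_mul, ← map_mul, mul_inv_eq_iff_eq_mul.1 e])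
      rw [← map_pow, map_eq_one_iff _ S.inj, ← orderOf_dvd_iff_pow_eq_one] at h3
      obtain ⟨_ | i, -, h4⟩ := (Nat.dvd_prime_pow Nat.prime_five).1 h3
      · exact orderOf_eq_one_iff.1 h4
      · refine absurd (Dvd.dvd.trans ?_ (orderOf_dvd_iff_zpow_eq_one.2 hx.2)) (five P.q)
        rw [h4, pow_succ]
        exact ⟨(5 ^ i : ℕ), by push_cast; ring⟩) 5 Nat.prime_five
    ⟨a, fun x _ => by rw [← map_pow, s3, map_one, MulAut.one_apply]⟩ fun c hc => by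
      obtain ⟨k, hk⟩ := exists_reg (isOfFinOrder_of_finite c)
      exact ⟨3 ^ k, fun e => absurd (Nat.prime_five.dvd_of_dvd_pow e) (by norm_num),
        fun y hy => cm _ _ hy.1 (rg _ (pow_mem hc _) hk)⟩
  obtain ⟨k1, -, -, -, c, c1, c2, c3, -, c4⟩ := hLI Y Φ P G ι _ D S hab z z.2 z1 (hno z z.2 z1)
  refine c2 (h.mem_Ce_of_pow (k := 1) ⟨fun y => (mem_normalizer_iff.1 c1 y).symm, fun g => ?_⟩ c3.2)
  show θ (c * g * c⁻¹) = θ g
  by_cases hg : g ∈ Ce D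
  · rw [← h.kr_mul (kr ⟨t4 ⟨(c4 g hg).1, map_Ce (c4 g hg).2⟩, k1 _ (c4 g hg)⟩) g, inv_mul_cancel_right]
  · rw [h.zero g hg, h.zero _ fun h3 => hg ?_]
    have h4 := conj_mem_Ce (inv_mem c1) h3
    rwa [show c⁻¹ * (c * g * c⁻¹) * c⁻¹⁻¹ = g by group] at h4

end Cfsg.Agent.TO.T3
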