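import Cfsg.Agent.TO.T3.Pk
import Cfsg.Agent.TO.T3.None
import Cfsg.Agent.TO.T3.Neg
import Cfsg.Agent.TO.T3.KF
import Cfsg.Agent.TO.T3.ALL
import Cfsg.Agent.TO.T3.NA
import Cfsg.Agent.TO.T3.ND
import Cfsg.Agent.TO.T3.F0
import Cfsg.Agent.TO.T3.Four
import Cfsg.Agent.TO.Blk
import Cfsg.Agent.TO.X.Mult
import Cfsg.Agent.KZ.DatX.Weyl
import Cfsg.Agent.H129.TorusUntw

/-!
# S4817, `p = 3`, `E₇` and `E₈`: the assembly (helper1)
-/

set_option autoImplicit false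
set_option linter.unusedSectionVars false

namespace Cfsg.Agent.TO.T3

open CoxeterSystem Cfsg Cfsg.Lie Cfsg.Lie.ChevalleyDatum Subgroup
open Cfsg.Agent.ChevalleyStructure Cfsg.Agent.ChevalleyStructure.Elts Cfsg.Agent.ChevalleyStructure.CoxeterGeom
  Cfsg.Agent.ChevalleyStructure.CoxeterGeomTypes
open Cfsg.Agent.Nodes Cfsg.Agent.Nodes.RGDChev
open Cfsg.Agent.KFacts.RgdField Cfsg.Agent.KFacts.RgdChevCoord Cfsg.Agent.BpExc Cfsg.Agent.BpExc.Fr
open Cfsg.Agent.DS.Ex (YY)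
open Cfsg.Agent.H469.Exc Cfsg.Agent.DS.Nt Cfsg.Agent.KZ.DatX Cfsg.Agent.DL Cfsg.Agent.DL.Ex
open Cfsg.Agent.GpExc.Field Cfsg.Agent.ChevStructure.FieldMap

/-- the abstract theorem for `E₈` -/
theorem false_of_h8 (hNA : BoxNA) {Y : Type} [Group Y] {Φ : MulAut Y} {P : Pk Y Φ} {G : Type} [Group G] [Finite G]
    {ι : G →* Y} {M : Ideal AlgInt} {b : Set (IrrCharacter G)} {D : Subgroup G} (h : H8 P ι M b D) : False := by
  by_cases hab : D ≤ Ce D
  swap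
  · exact hNA Y Φ P G ι M b D h hab
  by_cases h1 : ∀ z ∈ D, z ≠ 1 → ¬ D ≤ P.H ι D z
  · exact boxNONE blk boxLS boxLI boxNEGI boxKF Y Φ P G ι M b D h ⟨hab, h1⟩
  push Not at h1
  obtain ⟨z, hz, z1, h1⟩ := h1
  refine boxALL Y Φ P G ι M b D h ⟨hab, fun z' hz' z1' d hd => ⟨hd, ?_⟩⟩
  obtain ⟨α, -, h2, rfl⟩ := h.sit.pure.abel hab z hz z' hz' z1 z1'
  obtain ⟨Ψ, h3, h4⟩ := h.full.aut α
  obtain ⟨d, rfl⟩ := α.surjective d
  intro s hs
  obtain ⟨s, rfl⟩ := Ψ.surjective s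
  rw [h3] at hs
  have h5 := (h1 ((h2 d).1 hd)).2 s ((h4 _ (h.sit.tyQ hz z1) s).1 hs)
  rw [h3, ← map_mul, ← map_mul, h5]

variable {D : ChevalleyDatum} {l : ℕ} {M : CoxeterMatrix (Fin l)} (hp : IsType D l M) (r : ℕ) [Fact r.Prime]

theorem fr_frob (e : ℕ) : Fr M.toCoxeterSystem hp.isCartan (TT D (KK r)) (XX D l (KK r))
    (frobA hp.inList r e) (AddEquiv.refl _) := by
  have h : frobA (k := KK r) hp.inList r e = H129.TorusUntw.phi D (KK r) r e :=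
    MulEquiv.ext fun g => (H129.TorusUntw.phi_eq hp g).symm
  rw [h]
  exact H129.TorusUntw.fr_phi hp _

theorem exists_emb (F : Type) [Field F] [Fintype F] [CharP F r] : Nonempty (F →+* KK r) := by
  let _ : Algebra (ZMod r) F := ZMod.algebra F r
  exact ⟨(IsAlgClosed.lift : F →ₐ[ZMod r] KK r).toRingHom⟩

variable {hp r} {F : Type} [Field F] [Fintype F] [CharP F r]

/-- the automorphisms, if there is no graph automorphism -/
theorem aut_form (f : F →+* KK r) (h : ∀ ρ : Equiv.Perm (Fin D.rank), D.IsDiagramSymmetry ρ → ρ = 1)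
    (α : MulAut ↥(D.group F)) : ∃ (g : YY D r) (j : ℕ), ∀ x,
      emb hp.inList f (α x) = g * frobA hp.inList r j (emb hp.inList f x) * g⁻¹ := by
  obtain ⟨a, δ, g, φ, hd, hg, hφ, h1⟩ := H79.Steinberg.exists_fac hp.inList α
  obtain ⟨j, hj⟩ := lift_field (hp := hp) (p := r) f hφ
  obtain ⟨c, hc⟩ := lift_diag (hp := hp) f hd
  obtain ⟨ρ, hρ, hg⟩ := H79.OutChev.isGraphAut_isGr hp.inList hg
  obtain rfl := h ρ hρ
  have h4 := lift_graph f hg (Gd.frob hp r (KK r) 0) fun i => ⟨rfl, graphExp_self _ i⟩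
  refine ⟨emb hp.inList f a * tau hp fun i => Units.map (f : F →* KK r) (c i), j, fun s => ?_⟩
  have h5 : ∀ y : YY D r, frobA hp.inList r 0 y = y := fun y => by
    apply Subtype.ext
    apply Units.ext
    rw [frobA_apply, coe_emb, coe_glMap]
    ext a b
    rw [Matrix.map_apply, iterateFrobenius_def, pow_zero, pow_one]
  rw [h1, map_mul, map_mul, map_inv, hc, h4, h5, hj]
  group

/-- **`E₇(q)`, `p = 3`.** -/
theorem re7 : X.RE7 3 := by
  intro F _ _ r e _ _ hF h3 G _ _ σ M b D H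
  obtain ⟨f⟩ := exists_emb r F
  have he := pos_of_card hF
  have O := over_E7 f hF hpE7
  let s := (xsS f (locFin r) he hF O (cop_sub (Fact.out : r.Prime).pos he 2) (fun _ => index_dvd_E7 f hF hpE7)
    List.mem_cons_self (grL_E7 r _ F)).mono fun _ => AdmL.admF
  obtain ⟨ψ, C⟩ := cx_E7 (r := r) hpE7 h3.symm
  have hn := (xfS hpE7 r (locFin r) he).exists_neg_E7
  obtain ⟨q, q3, q1, -, hq⟩ := Tor.frob _ hn h3.symm he rfl
  have hP := blk.pure G 3 M b D _ σ H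
  obtain ⟨cf, J⟩ := C.jd
  refine row_of_no2 (P := C.pk (fr_frob hpE7 r e) q q3 q1 (Tor.neg _ hn) hq) (ι := emb hpE7.inList f) blk
    (Fo.no2 J Fo.car_E7 _ rfl (fun _ h => h) (fun _ _ => rfl) (by norm_num)) H
    (((X.zd_E7 hF).dvd H).trans (Nat.gcd_dvd_left _ _)) ⟨O.inj, fun x => (O.mem x).2, fun g hg => ?_, hP,
      fun _ => F0.om7 s h3.symm hP⟩
  obtain ⟨c, hc⟩ := Nat.gcd_dvd_left 2 (r ^ e - 1)
  rw [hc, pow_mul]
  exact pow_mem (O.mem_range.1 (O.pow_mem ⟨g, trivial, hg⟩)) c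

theorem re8_of (hNA : BoxNA) : X.RE8 3 := by
  intro F _ _ r e _ _ hF h3 G _ _ σ M b D H
  obtain ⟨f⟩ := exists_emb r F
  have he := pos_of_card hF
  have O := over_E8 f hF hpE8
  have hσ := X.zd_E8.inj H
  let ε : G ≃* ↥(chevE8.group F) := MulEquiv.ofBijective σ hσ
  let s := ((xsS f (locFin r) he hF O (Nat.coprime_one_left _) (fun _ => idx_of_one O rfl)
    List.mem_cons_self (grL_E8 r _ F)).mono fun _ => AdmL.admF).congr ε
  obtain ⟨ψ, C⟩ := cx_E8 (r := r) hpE8 h3.symm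
  have hn := (xfS hpE8 r (locFin r) he).exists_neg_E8
  obtain ⟨q, q3, q1, -, hq⟩ := Tor.frob _ hn h3.symm he rfl
  have H' : Hyp 3 M b D (MonoidHom.id G) :=
    { toTwo := H.toTwo, perf := H.perf, surj := Function.surjective_id
      ker := by rw [← H.ker, (MonoidHom.ker_eq_bot_iff σ).2 hσ.1, MonoidHom.ker_id]
      zp := H.zp, cyc := H.cyc, faith := H.faith }
  have hP := blk.pure G 3 M b D _ _ H'
  rw [Subgroup.map_id] at hP
  have hf : ∀ g : YY chevE8 r, frobA hpE8.inList r e g = g → g ∈ s.ι.range := fun g hg => by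
    simpa using s.ov.mem_range.1 (s.ov.pow_mem ⟨g, trivial, hg⟩)
  obtain ⟨cf, J⟩ := C.jd
  refine false_of_h8 hNA (P := C.pk (fr_frob hpE8 r e) q q3 q1 (Tor.neg _ hn) hq) (ι := s.ι)
    ⟨⟨Fo.four J Fo.car_E8 _ rfl (fun _ h => h) (fun _ _ => rfl) C.ty le_rfl,
      ND.nd_JJ J ND.pos_E8 he (isFrob_frobA _ r e) (fr_frob hpE8 r e) _ (fun _ h => h) fun _ _ => rfl,
      Tor.tn (xfS hpE8 r (locFin r) he).D h3.symm, Tor.lat (xfS hpE8 r (locFin r) he).D h3.symm,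
      Tor.fin (xfS hpE8 r (locFin r) he).D, Tor.fin3 (xfS hpE8 r (locFin r) he).D h3.symm⟩, ⟨hf, fun α => ?_⟩, H',
      ⟨s.ov.inj, fun x => (s.ov.mem x).2, fun g hg => pow_mem (hf g hg) 2, hP,
        fun _ => F0.om8 s h3.symm hP⟩⟩
  obtain ⟨g, j, h⟩ := aut_form (hp := hpE8) f (fun ρ hρ => eq_one_of_imgs (List.mem_singleton.1 (H79.DiagSymm.imgs_E8 hρ)))
    (MulAut.congr ε α)
  refine ⟨MulAut.conj g * frobA hpE8.inList r j, fun x => ?_, fun z hz t => ?_⟩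
  · have h5 := h (ε x)
    rw [MulAut.congr_apply, MulEquiv.trans_apply, MulEquiv.trans_apply, MulEquiv.symm_apply_apply] at h5
    exact h5
  · have h5 := frob_mem_Om (isFrob_frobA _ r j) (fr_frob hpE8 r j) h3.symm hz
    refine Iff.trans ⟨fun h6 => ?_, fun h6 => Cx.Sc _ _ h6 g⟩ (C.map_iff (fr_frob hpE8 r j) hz h5 t)
    have h7 := Cx.Sc _ _ h6 g⁻¹
    simpa [MulAut.conj_apply, mul_assoc] using h7

/-- **`E₈(q)`, `p = 3`.** -/
theorem re8 : X.RE8 3 := re8_of boxNA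

end Cfsg.Agent.TO.T3
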