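import Cfsg.Agent.TO.Kr
import Cfsg.Agent.BHZ.Nil.DZ
import Cfsg.Agent.BHZ.Nil.LocBasic

/-!
# S4817, `p = 3`, types `F₄`, `E₇`, `E₈`: the abstract package (helper1)

`Y` is the algebraic group, `Φ` the Frobenius map, `T` a maximal torus, `Ty z` says that the centralizer of `z` is
`E S` with `S = S z ≅ SL₃` (long roots), `E = Ce S`.  Paper proof: `notes/TO/t3.md`.
-/

set_option autoImplicit false

namespace Cfsg.Agent.TO.T3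

open Cfsg Subgroup
open Cfsg.Agent.BHZ.Nil (KK)
open Cfsg.Agent.H665.NoPQ (HasDZ)

variable {Y : Type} [Group Y]

/-- `y` acts on `S` as a regular element; `S ⊓ Cu y` is a maximal torus of `S`, `m` a Coxeter element of `S` -/
structure Reg (S : Subgroup Y) (z y m : Y) : Prop where
  mem : m ∈ S
  mv : m * y * m⁻¹ = y * z ∨ m * y * m⁻¹ = y * z⁻¹
  dv : ∀ t ∈ S ⊓ Cu y, ∀ n : ℕ, n ≠ 0 → ∃ u ∈ S ⊓ Cu y, u ^ n = t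
  nrm : ∀ t ∈ S ⊓ Cu y, t * (m * t * m⁻¹) * (m * (m * t * m⁻¹) * m⁻¹) = 1
  act : ∀ x : Y, x * z = z * x → x * y = y * x → ∃ j : ℕ, ∀ t ∈ S ⊓ Cu y, x * t * x⁻¹ = m ^ j * t * (m ^ j)⁻¹
  self : ∀ s ∈ S, (∀ t ∈ S ⊓ Cu y, s * t = t * s) → s * y = y * s
  cor : ∃ b ∈ S ⊓ Cu y, b ^ 3 = 1 ∧ b ∉ zpowers z

/-- a pure plane -/
structure Pl (Ty : Y → Prop) (z y : Y) : Prop where
  comm : y * z = z * y
  t1 : Ty z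
  t2 : Ty y
  t3 : Ty (y * z)
  t4 : Ty (y * z⁻¹)

/-- **The package.** -/
structure Pk (Y : Type) [Group Y] (Φ : MulAut Y) where
  Ty : Y → Prop
  S : Y → Subgroup Y
  T : Subgroup Y
  /-- `± r ^ e` -/
  q : ℤ
  q3 : q % 3 = 1
  q1 : q ≠ 1
  tcomm : ∀ s ∈ T, ∀ t ∈ T, s * t = t * s
  neg : ∃ n : Y, ∀ t ∈ T, n * t * n⁻¹ = t⁻¹
  frob : ∃ n : Y, ∀ t ∈ T, Φ t = n * t ^ q * n⁻¹
  tp1 : ∀ z : Y, z ^ 3 = 1 → ∃ g : Y, g⁻¹ * z * g ∈ T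
  tp2 : ∀ z ∈ T, z ^ 3 = 1 → ∀ y : Y, y ^ 3 = 1 → y * z = z * y → ∃ h : Y, h * z = z * h ∧ h⁻¹ * y * h ∈ T
  ty3 : ∀ z, Ty z → z ^ 3 = 1
  ty1 : ¬ Ty 1
  tyc : ∀ z, Ty z → ∀ g, Ty (g * z * g⁻¹)
  Sc : ∀ z, Ty z → ∀ s ∈ S z, ∀ g, g * s * g⁻¹ ∈ S (g * z * g⁻¹)
  Si : ∀ z, Ty z → S z⁻¹ = S z
  SF : ∀ z, Ty z → Φ z = z → ∀ s, Φ s ∈ S z ↔ s ∈ S z
  mem : ∀ z, Ty z → z ∈ S z
  cen : ∀ z, Ty z → z ∈ Ce (S z)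
  dec : ∀ z, Ty z → ∀ x, x * z = z * x → ∃ a ∈ Ce (S z), ∃ b ∈ S z, x = a * b
  int : ∀ z, Ty z → ∀ x ∈ S z, x ∈ Ce (S z) → x ∈ zpowers z
  three : ∀ z, Ty z → ∀ b ∈ S z, Ty b → b ∈ zpowers z
  reg : ∀ z y, Pl Ty z y → y ∉ Ce (S z) → ∃ m, Reg (S z) z y m
  tor : ∀ z y, Pl Ty z y → y ∉ Ce (S z) → z ∈ T → y ∈ T → S z ⊓ Cu y ≤ T
  two : ∀ z y, Pl Ty z y → y ∈ Ce (S z) → S y ≤ Ce (S z)

variable {Φ : MulAut Y}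

/-- the preimage in `S z` of the fixed points of `Φ` on `S z / ⟨z⟩` -/
def Pk.PP (P : Pk Y Φ) {z : Y} (h : P.Ty z) (hz : Φ z = z) : Subgroup Y where
  carrier := {s | s ∈ P.S z ∧ Φ s * s⁻¹ ∈ zpowers z}
  one_mem' := ⟨one_mem _, by simp⟩
  mul_mem' := by
    rintro a b ⟨h1, h2⟩ ⟨h3, h4⟩
    refine ⟨mul_mem h1 h3, ?_⟩
    have h5 := mem_centralizer_iff.1 (zpowers_le.2 (P.cen z h) h4) _ ((P.SF z h hz a).2 h1)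
    rw [show Φ (a * b) * (a * b)⁻¹ = Φ a * (Φ b * b⁻¹) * a⁻¹ by rw [map_mul]; group, h5, mul_assoc]
    exact mul_mem h4 h2
  inv_mem' := by
    rintro a ⟨h1, h2⟩
    refine ⟨inv_mem h1, ?_⟩
    have h5 := mem_centralizer_iff.1 (zpowers_le.2 (P.cen z h) (inv_mem h2)) _ h1
    rw [show Φ a⁻¹ * a⁻¹⁻¹ = a⁻¹ * ((Φ a * a⁻¹)⁻¹ * a) by rw [map_inv]; group, ← h5, inv_mul_cancel_left]
    exact inv_mem h2

/-- no plane centralizes `S z` (`F₄`, `E₇`) -/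
def Pk.No2 (P : Pk Y Φ) : Prop := ∀ z y, Pl P.Ty z y → y ∉ Ce (P.S z)

/-- [four] the centralizer of `A₂⁴` -/
def Pk.Four (P : Pk Y Φ) : Prop := ∀ z y, Pl P.Ty z y → y ∈ Ce (P.S z) → ∀ x ∈ Ce (P.S z), x ∈ Ce (P.S y) →
  x ∈ Ce (P.S (y * z)) → x ∈ Ce (P.S (y * z⁻¹)) → ∃ i j : ℕ, x = z ^ i * y ^ j

/-- [nd] `PGL₃(q)` and `PGU₃(q)` have no character of `3`-defect zero -/
def Pk.ND (P : Pk Y Φ) : Prop := ∀ (z : Y) (h : P.Ty z) (hz : Φ z = z) (N : Type) [Group N] [Finite N]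
  (f : P.PP h hz →* N), Function.Surjective f → (∀ s, f s = 1 ↔ (s : Y) ∈ zpowers z) → ¬ HasDZ 3 N

/-- [tn] normalizers of regular subgroups of the torus -/
def Pk.TN (P : Pk Y Φ) : Prop := ∀ Z : Subgroup Y, Z ≤ P.T → (∀ u ∈ Ce Z, ¬ 3 ∣ orderOf u → u ∈ P.T) →
  ∀ x : Y, (∀ z ∈ Z, x⁻¹ * z * x ∈ Z) → ∀ t ∈ P.T, x * t * x⁻¹ ∈ P.T ∧ x⁻¹ * t * x ∈ P.T

/-- [lat] the normalizer of the torus acts through a lattice -/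
def Pk.Lat (P : Pk Y Φ) : Prop := ∀ s : Y, (∀ t ∈ P.T, s * t * s⁻¹ ∈ P.T) → ∀ n : ℕ, s ^ n ∈ Ce P.T →
  (∀ v ∈ P.T, v ^ 3 = 1 → s * v = v * s → v = 1) → ∀ t ∈ P.T, s * t = t * s → t ^ n = 1

/-- the additional properties of `E₈` -/
structure Pk.Eight (P : Pk Y Φ) : Prop where
  four : P.Four
  nd : P.ND
  tn : P.TN
  lat : P.Lat
  fin : ∀ y : Y, IsOfFinOrder y
  fin3 : {v : Y | v ∈ P.T ∧ v ^ 3 = 1}.Finite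

/-- **The situation in the finite group.** -/
structure Sit (P : Pk Y Φ) {X : Type} [Group X] (ι : X →* Y) (A : Subgroup (MulAut X)) (Q : Subgroup X) : Prop where
  inj : Function.Injective ι
  fix : ∀ x, Φ (ι x) = ι x
  sq : ∀ g, Φ g = g → g ^ 2 ∈ ι.range
  pure : Pure 3 X A Q
  ty : ∀ u ∈ KK 3 Q, u ^ 3 = 1 → u ≠ 1 → P.Ty (ι u)

variable {X : Type} [Group X]

/-- the part of `Q` which centralizes `S z` -/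
def Pk.H (P : Pk Y Φ) (ι : X →* Y) (Q : Subgroup X) (z : X) : Subgroup X := Q ⊓ (Ce (P.S (ι z))).comap ι

/-- the finite torus of `S z` -/
def Pk.AA (P : Pk Y Φ) (ι : X →* Y) (Q : Subgroup X) (z : X) : Subgroup X := (P.S (ι z)).comap ι ⊓ Ce Q

/-- all fixed points lie in `X`, all automorphisms of `X` extend (`E₈`) -/
structure Full (P : Pk Y Φ) (ι : X →* Y) : Prop where
  full : ∀ g, Φ g = g → g ∈ ι.range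
  aut : ∀ α : MulAut X, ∃ Ψ : MulAut Y, (∀ x, ι (α x) = Ψ (ι x)) ∧ ∀ z, P.Ty z → ∀ s, Ψ s ∈ P.S (Ψ z) ↔ s ∈ P.S z

/-! ### boxes -/

/-- [KF] a fixed point free local automorphism on an abelian normal subgroup of `C(D)` -/
def BoxKF : Prop := ∀ (G : Type) [Group G] [Finite G] (p : ℕ) [Fact p.Prime] (M : Ideal AlgInt)
  (b : Set (IrrCharacter G)) (D : Subgroup G) (θ : G → ℂ) (h : Can p M b D θ) (A : Subgroup G), A ≤ Ce D → A ≤ Ce A →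
  (∀ c ∈ Ce D, ∀ a ∈ A, c * a * c⁻¹ ∈ A) → ∀ α ∈ LA D θ, (∀ a ∈ A, α a ∈ A) → (∀ a ∈ A, α a = a → a = 1) →
  ∀ l : ℕ, l.Prime → (∃ j : ℕ, ∀ a ∈ A, (α ^ l ^ j) a = a) → (∀ c ∈ Ce D, ∃ m : ℕ, ¬ l ∣ m ∧ c ^ m ∈ Ce A) → A ≤ h.kr

/-- [LS] Lemma S -/
def BoxLS : Prop := ∀ (Y : Type) [Group Y] (Φ : MulAut Y) (P : Pk Y Φ) (X : Type) [Group X] [Finite X] (ι : X →* Y)
  (A : Subgroup (MulAut X)) (Q : Subgroup X), Sit P ι A Q → ∀ z ∈ Q, z ≠ 1 → ∀ a ∈ Q, a * z = z * a →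
    (∀ a₁ ∈ Ce (P.S (ι z)), ∀ a₂ ∈ P.S (ι z), ι a = a₁ * a₂ →
      Φ a₂ * a₂⁻¹ ∈ zpowers (ι z) ∧ (Φ a₂ = a₂ → a ∈ P.H ι Q z)) ∧
    ∀ a' ∈ Q, a' * z = z * a' → a ∈ P.H ι Q z ∨ ∃ j : ℕ, a' * a ^ j ∈ P.H ι Q z

/-- [LI] Lemma I in the simple group; `N = q² + q + 1` -/
def BoxLI : Prop := ∀ (Y : Type) [Group Y] (Φ : MulAut Y) (P : Pk Y Φ) (X : Type) [Group X] [Finite X] (ι : X →* Y)
  (A : Subgroup (MulAut X)) (Q : Subgroup X), Sit P ι A Q → Q ≤ Ce Q → ∀ z ∈ Q, z ≠ 1 → ¬ Q ≤ P.H ι Q z →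
    (∀ t ∈ P.AA ι Q z, t ^ (P.q ^ 2 + P.q + 1) = 1) ∧ P.AA ι Q z ≤ Ce (P.AA ι Q z) ∧
    (∀ x ∈ Ce Q, (∀ t ∈ P.AA ι Q z, x * t * x⁻¹ ∈ P.AA ι Q z) ∧ x ^ 3 ∈ Ce (P.AA ι Q z)) ∧
    (∀ n : X, (∀ d ∈ Q, n * d * n⁻¹ = d⁻¹) → ∀ t ∈ P.AA ι Q z, n ^ 3 * t * (n ^ 3)⁻¹ = t⁻¹) ∧
    ∃ c ∈ normalizer (Q : Set X), c ∉ Ce Q ∧ c ^ 3 ∈ P.AA ι Q z ∧ (∀ t ∈ P.AA ι Q z, c * t * c⁻¹ ∈ P.AA ι Q z) ∧
      ∀ x ∈ Ce Q, c * x * c⁻¹ * x⁻¹ ∈ P.AA ι Q z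

/-- [NEGI] Lemma I for a cover with a centre of order at most two -/
def BoxNEGI : Prop := ∀ (Y : Type) [Group Y] (Φ : MulAut Y) (P : Pk Y Φ) (X : Type) [Group X] (ι : X →* Y)
  (G : Type) [Group G] [Finite G] (σ : G →* X) (M : Ideal AlgInt) (b : Set (IrrCharacter G)) (D : Subgroup G)
  (θ : G → ℂ), Hyp 3 M b D σ → Nat.card (center G) ∣ 2 → Can 3 M b D θ → Sit P ι (Ind σ b) (D.map σ) →
    ∀ z ∈ D.map σ, z ≠ 1 → ¬ D.map σ ≤ P.H ι (D.map σ) z → ∀ t ∈ In D θ, (∀ d ∈ D, t * d * t⁻¹ = d⁻¹) → False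

/-- the hypotheses for `E₈` (the centre is trivial) -/
structure H8 (P : Pk Y Φ) {G : Type} [Group G] (ι : G →* Y) (M : Ideal AlgInt) (b : Set (IrrCharacter G))
    (D : Subgroup G) : Prop where
  eight : P.Eight
  full : Full P ι
  hyp : Hyp 3 M b D (MonoidHom.id G)
  sit : Sit P ι (Ind (MonoidHom.id G) b) D

/-- a statement about `E₈` -/
def Box8 (C : ∀ {Y : Type} [Group Y] {Φ : MulAut Y} (_ : Pk Y Φ) {G : Type} [Group G] (_ : G →* Y) (_ : Subgroup G), Prop) :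
    Prop := ∀ (Y : Type) [Group Y] (Φ : MulAut Y) (P : Pk Y Φ) (G : Type) [Group G] [Finite G] (ι : G →* Y)
  (M : Ideal AlgInt) (b : Set (IrrCharacter G)) (D : Subgroup G), H8 P ι M b D → C P ι D → False

/-- [NA] nonabelian defect group -/
def BoxNA : Prop := Box8 fun _ _ _ _ D => ¬ D ≤ Ce D

/-- [ALL] `D = Z(A₂⁴)` -/
def BoxALL : Prop := Box8 fun P _ _ ι D => D ≤ Ce D ∧ ∀ z ∈ D, z ≠ 1 → D ≤ P.H ι D z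

/-- [NONE] `D` is a plane with the centralizer `D₄ T₄ . 3`, or `3⁴` with the centralizer `T . 3` -/
def BoxNONE : Prop := Box8 fun P _ _ ι D => D ≤ Ce D ∧ ∀ z ∈ D, z ≠ 1 → ¬ D ≤ P.H ι D z

end Cfsg.Agent.TO.T3
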