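import Cfsg.Agent.TO.T3.LS

/-!
# S4817, `p = 3`: Lemma I (helper54)
-/

set_option autoImplicit false
set_option linter.unusedSectionVars false

namespace Cfsg.Agent.TO.T3

open Cfsg Subgroup

variable {Y : Type} [Group Y] {Φ : MulAut Y}

theorem zpow_q {u : Y} {q : ℤ} (hq : q % 3 = 1) (hu : u ^ 3 = 1) : u ^ q = u := by
  rw [← Int.mul_ediv_add_emod q 3, hq, zpow_add, zpow_mul, zpow_ofNat, hu, one_zpow, one_mul, zpow_one]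

theorem odd_N (q : ℤ) : Odd (q ^ 2 + q + 1) := by
  rw [show q ^ 2 + q + 1 = q * (q + 1) + 1 by ring]
  exact (Int.even_mul_succ_self q).add_one

/-- `x` normalises `T`, and `x ^ 3` centralizes `T` -/
structure Ac3 (T : Subgroup Y) (x : Y) : Prop where
  mem : ∀ t ∈ T, x * t * x⁻¹ ∈ T
  cube : ∀ t ∈ T, x ^ 3 * t = t * x ^ 3

theorem conj_three (x t : Y) : x ^ 3 * t * (x ^ 3)⁻¹ = x * (x * (x * t * x⁻¹) * x⁻¹) * x⁻¹ := by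
  simp only [pow_succ, pow_zero, one_mul, mul_inv_rev, mul_assoc]

theorem Ac3.three {T : Subgroup Y} {x : Y} (h : Ac3 T x) {t : Y} (ht : t ∈ T) :
    x * (x * (x * t * x⁻¹) * x⁻¹) * x⁻¹ = t := by
  rw [← conj_three, h.cube t ht, mul_inv_cancel_right]

theorem Ac3.pow_mem {T : Subgroup Y} {x : Y} (h : Ac3 T x) (n : ℕ) : ∀ t ∈ T, x ^ n * t * (x ^ n)⁻¹ ∈ T := by
  induction n with
  | zero => simp
  | succ n ih =>
    intro t ht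
    have h1 := h.mem _ (ih t ht)
    rwa [show x * (x ^ n * t * (x ^ n)⁻¹) * x⁻¹ = x ^ (n + 1) * t * (x ^ (n + 1))⁻¹ by group] at h1

theorem Ac3.mod {T : Subgroup Y} {x : Y} (h : Ac3 T x) (n : ℕ) {t : Y} (ht : t ∈ T) :
    x ^ n * t * (x ^ n)⁻¹ = x ^ (n % 3) * t * (x ^ (n % 3))⁻¹ := by
  conv_lhs => rw [← Nat.mod_add_div n 3, pow_add, pow_mul, mul_assoc (x ^ (n % 3)),
    (Commute.pow_left (h.cube t ht) (n / 3) :).eq]
  group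

theorem Ac3.of_act {T : Subgroup Y} {m x : Y} (h : Ac3 T m) {j : ℕ}
    (hx : ∀ t ∈ T, x * t * x⁻¹ = m ^ j * t * (m ^ j)⁻¹) : Ac3 T x := by
  refine ⟨fun t ht => hx t ht ▸ h.pow_mem j t ht, fun t ht => mul_inv_eq_iff_eq_mul.1 ?_⟩
  have h1 := h.pow_mem j t ht
  have h2 := h.mod (j + (j + j)) ht
  rw [show (j + (j + j)) % 3 = 0 by omega, pow_zero, inv_one, one_mul, mul_one] at h2
  rw [conj_three, hx t ht, hx _ h1, hx _ (h.pow_mem j _ h1)]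
  refine Eq.trans ?_ h2
  simp only [pow_add, mul_inv_rev, mul_assoc]

namespace Pk

variable (P : Pk Y Φ)

/-- a maximal torus through a plane -/
theorem exists_tor {z y : Y} (h : Pl P.Ty z y) (hy : y ∉ Ce (P.S z)) :
    ∃ g : Y, g⁻¹ * z * g ∈ P.T ∧ g⁻¹ * y * g ∈ P.T ∧ ∀ t ∈ P.S z ⊓ Cu y, g⁻¹ * t * g ∈ P.T := by
  have h3 : ∀ (g u : Y), u ^ 3 = 1 → (g⁻¹ * u * g) ^ 3 = 1 := fun g u hu => by
    have := conj_pow (a := g⁻¹) (b := u) (i := 3)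
    rw [inv_inv] at this
    rw [this, hu, mul_one, inv_mul_cancel]
  obtain ⟨g₁, h1⟩ := P.tp1 z (P.ty3 z h.t1)
  obtain ⟨g₂, h2, h4⟩ := P.tp2 _ h1 (h3 _ _ (P.ty3 z h.t1)) _ (h3 g₁ _ (P.ty3 y h.t2)) (by
    calc g₁⁻¹ * y * g₁ * (g₁⁻¹ * z * g₁) = g₁⁻¹ * (y * z) * g₁ := by group
      _ = _ := by rw [h.comm]; group)
  have h5 : (g₁ * g₂)⁻¹ * z * (g₁ * g₂) ∈ P.T := by
    rwa [show (g₁ * g₂)⁻¹ * z * (g₁ * g₂) = g₂⁻¹ * (g₁⁻¹ * z * g₁ * g₂) by group, ← h2, inv_mul_cancel_left]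
  have h6 : (g₁ * g₂)⁻¹ * y * (g₁ * g₂) ∈ P.T := by
    rwa [show (g₁ * g₂)⁻¹ * y * (g₁ * g₂) = g₂⁻¹ * (g₁⁻¹ * y * g₁) * g₂ by group]
  generalize g₁ * g₂ = g at h5 h6
  have h7 : ∀ u, P.Ty u → P.Ty (g⁻¹ * u * g) := fun u hu => by simpa using P.tyc u hu g⁻¹
  refine ⟨g, h5, h6, fun t ht => P.tor _ _ ⟨?_, h7 _ h.t1, h7 _ h.t2, ?_, ?_⟩ (fun h8 => hy ?_) h5 h6 ⟨?_, mem_cu.2 ?_⟩⟩
  · calc g⁻¹ * y * g * (g⁻¹ * z * g) = g⁻¹ * (y * z) * g := by group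
      _ = _ := by rw [h.comm]; group
  · rw [show g⁻¹ * y * g * (g⁻¹ * z * g) = g⁻¹ * (y * z) * g by group]
    exact h7 _ h.t3
  · rw [show g⁻¹ * y * g * (g⁻¹ * z * g)⁻¹ = g⁻¹ * (y * z⁻¹) * g by group]
    exact h7 _ h.t4
  · refine mem_centralizer_iff.2 fun u hu => ?_
    have h9 := ce_comm h8 (by simpa using P.Sc z h.t1 u hu g⁻¹ : g⁻¹ * u * g ∈ _)
    calc u * y = g * (g⁻¹ * u * g * (g⁻¹ * y * g)) * g⁻¹ := by group
      _ = _ := by rw [h9]; group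
  · simpa using P.Sc z h.t1 t ht.1 g⁻¹
  · calc g⁻¹ * t * g * (g⁻¹ * y * g) = g⁻¹ * (t * y) * g := by group
      _ = _ := by rw [mem_cu.1 ht.2]; group

theorem comm_conj {g a b : Y} (ha : g⁻¹ * a * g ∈ P.T) (hb : g⁻¹ * b * g ∈ P.T) : a * b = b * a :=
  calc a * b = g * (g⁻¹ * a * g * (g⁻¹ * b * g)) * g⁻¹ := by group
    _ = _ := by rw [P.tcomm _ ha _ hb]; group

theorem frob_conj (g : Y) : ∃ x : Y, ∀ t, g⁻¹ * t * g ∈ P.T → Φ t = x * t ^ P.q * x⁻¹ := by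
  obtain ⟨n, hn⟩ := P.frob
  refine ⟨Φ g * n * g⁻¹, fun t ht => ?_⟩
  have h1 := hn _ ht
  have h2 := conj_zpow (a := g⁻¹) (b := t) (i := P.q)
  rw [inv_inv] at h2
  rw [map_mul, map_mul, map_inv, h2] at h1
  calc Φ t = Φ g * ((Φ g)⁻¹ * Φ t * Φ g) * (Φ g)⁻¹ := by group
    _ = _ := by rw [h1]; group

theorem neg_conj (g : Y) : ∃ n : Y, ∀ t, g⁻¹ * t * g ∈ P.T → n⁻¹ * t * n = t⁻¹ := by
  obtain ⟨n, hn⟩ := P.neg
  refine ⟨g * n⁻¹ * g⁻¹, fun t ht => ?_⟩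
  calc (g * n⁻¹ * g⁻¹)⁻¹ * t * (g * n⁻¹ * g⁻¹) = g * (n * (g⁻¹ * t * g) * n⁻¹) * g⁻¹ := by group
    _ = _ := by rw [hn _ ht]; group

end Pk

/-- the move of `m` -/
theorem Reg.mv' {S : Subgroup Y} {z y m : Y} (R : Reg S z y m) :
    ∃ u, (u = z ∨ u = z⁻¹) ∧ m * y * m⁻¹ = y * u := R.mv.elim (fun h => ⟨_, .inl rfl, h⟩) fun h => ⟨_, .inr rfl, h⟩

theorem Reg.ac3 {S : Subgroup Y} {z y m : Y} (R : Reg S z y m) (hz : z ∈ Ce S) (h3 : z ^ 3 = 1)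
    (hab : ∀ a ∈ S ⊓ Cu y, ∀ b ∈ S ⊓ Cu y, a * b = b * a) : m ^ 3 ∈ S ⊓ Cu y ∧ Ac3 (S ⊓ Cu y) m := by
  obtain ⟨u, hu, e⟩ := R.mv'
  have h1 : u ∈ Ce S := by
    rcases hu with rfl | rfl
    exacts [hz, inv_mem hz]
  have h2 : u ^ 3 = 1 := by
    rcases hu with rfl | rfl
    exacts [h3, by rw [inv_pow, h3, inv_one]]
  have h4 := ce_comm h1 R.mem
  have h5 : m * y = y * u * m := mul_inv_eq_iff_eq_mul.1 e
  have h6 : m ^ 3 ∈ S ⊓ Cu y := ⟨pow_mem R.mem 3, mem_cu.2 (by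
    have h7 : ∀ n : ℕ, m ^ n * y = y * u ^ n * m ^ n := fun n => by
      induction n with
      | zero => simp
      | succ n ih =>
        rw [pow_succ', mul_assoc, ih, ← mul_assoc, ← mul_assoc, h5, mul_assoc _ m, (Commute.pow_right h4 n :).eq, pow_succ' u]
        simp only [mul_assoc]
    rw [h7, h2, mul_one])⟩
  refine ⟨h6, fun t ht => ⟨S.mul_mem (S.mul_mem R.mem ht.1) (inv_mem R.mem), mem_cu.2 ?_⟩, fun t ht => hab _ h6 t ht⟩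
  have h8 : t ∈ S := ht.1
  have h7 := ce_comm (inv_mem h1) (mul_mem (mul_mem R.mem h8) (inv_mem R.mem))
  calc m * t * m⁻¹ * y = m * t * m⁻¹ * (y * u) * u⁻¹ := by group
    _ = m * (t * y) * m⁻¹ * u⁻¹ := by rw [← e]; group
    _ = m * y * m⁻¹ * (m * t * m⁻¹ * u⁻¹) := by rw [mem_cu.1 ht.2]; group
    _ = _ := by rw [e, h7]; group

/-- the action of the Frobenius map on the torus of `S z` -/
structure Fr3 (Φ : MulAut Y) (q : ℤ) (T : Subgroup Y) (x : Y) : Prop extends Ac3 T x where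
  comm : ∀ a ∈ T, ∀ b ∈ T, a * b = b * a
  frob : ∀ t ∈ T, Φ t = x * t ^ q * x⁻¹
  nrm : ∀ t ∈ T, t * (x * t * x⁻¹) * (x * (x * t * x⁻¹) * x⁻¹) = 1

namespace Fr3

variable {q : ℤ} {T : Subgroup Y} {x : Y} (h : Fr3 Φ q T x)
include h

theorem map_mem {t : Y} (ht : t ∈ T) : Φ t ∈ T := h.frob t ht ▸ h.mem _ (zpow_mem ht q)

theorem three {t : Y} (ht : t ∈ T) : Φ (Φ (Φ t)) = t ^ q ^ 3 := by
  have h1 := h.map_mem ht
  rw [h.frob _ (h.map_mem h1), h.frob _ h1, h.frob _ ht, conj_zpow, conj_zpow, conj_zpow, ← zpow_mul, ← zpow_mul,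
    h.toAc3.three (zpow_mem ht _), pow_three]

theorem fixed {t : Y} (ht : t ∈ T) (hf : Φ t = t) : t ^ (q ^ 2 + q + 1) = 1 := by
  have h1 : ∀ u ∈ T, Φ u = u → x * (x * u * x⁻¹) * x⁻¹ = u ^ q := fun u hu e => by
    conv_lhs => rw [← e, h.frob u hu]
    exact h.toAc3.three (zpow_mem hu _)
  have h2 : x * t * x⁻¹ = t ^ q ^ 2 := by
    rw [pow_two, zpow_mul, ← h1 _ (zpow_mem ht q) (by rw [map_zpow, hf]), ← h1 t ht hf, h.toAc3.three ht]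
  have h3 := h.nrm t ht
  rw [h1 t ht hf, h2] at h3
  rw [← h3]
  group

/-- Lang's theorem for the torus -/
theorem lang (hq : q ≠ 1) (dv : ∀ t ∈ T, ∀ n : ℕ, n ≠ 0 → ∃ u ∈ T, u ^ n = t) {u : Y} (hu : u ∈ T) :
    ∃ t ∈ T, Φ t = u * t := by
  have h0 : q ^ 3 - 1 ≠ 0 := fun e => hq ((Odd.pow_inj (by decide : Odd 3)).1 (by rw [one_pow]; omega))
  obtain ⟨v, hv, e⟩ : ∃ v ∈ T, v ^ (q ^ 3 - 1) = u := by
    obtain ⟨v, hv, e⟩ := dv u hu (q ^ 3 - 1).natAbs (Int.natAbs_ne_zero.2 h0)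
    rw [← zpow_natCast] at e
    rcases Int.natAbs_eq (q ^ 3 - 1) with h1 | h1
    · exact ⟨v, hv, by rw [h1, e]⟩
    · exact ⟨v⁻¹, inv_mem hv, by rw [h1, inv_zpow', neg_neg, e]⟩
  have h1 := h.map_mem hv
  have h2 := h.map_mem h1
  refine ⟨v * (Φ v * Φ (Φ v)), mul_mem hv (mul_mem h1 h2), ?_⟩
  rw [map_mul, map_mul, h.three hv, ← mul_assoc, h.comm _ (mul_mem h1 h2) _ (zpow_mem hv _), ← e]
  group

end Fr3

variable {P : Pk Y Φ} {X : Type} [Group X] {ι : X →* Y} {A : Subgroup (MulAut X)} {Q : Subgroup X}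

namespace Sit

variable (s : Sit P ι A Q)
include s

theorem self_mem_H {z : X} (hz : z ∈ Q) (h1 : z ≠ 1) : z ∈ P.H ι Q z := ⟨hz, P.cen _ (s.tyQ hz h1)⟩

theorem pl {z y : X} (hz : z ∈ Q) (h1 : z ≠ 1) (hy : y ∈ Q) (hc : y * z = z * y) (h2 : y ∉ zpowers z) :
    Pl P.Ty (ι z) (ι y) := by
  refine ⟨by rw [← map_mul, ← map_mul, hc], s.tyQ hz h1, s.tyQ hy fun e => h2 (e ▸ one_mem _), ?_, ?_⟩
  · rw [← map_mul]
    exact s.tyQ (mul_mem hy hz) fun e => h2 (eq_inv_of_mul_eq_one_left e ▸ inv_mem (Subgroup.mem_zpowers z))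
  · rw [← map_inv, ← map_mul]
    exact s.tyQ (mul_mem hy (inv_mem hz)) fun e => h2 (mul_inv_eq_one.1 e ▸ Subgroup.mem_zpowers z)

theorem mem_AA (hab : Q ≤ Ce Q) {z y : X} (hz : z ∈ Q) (h1 : z ≠ 1) (hy : y ∈ Q) (h2 : y ∉ P.H ι Q z) {t : X} :
    t ∈ P.AA ι Q z ↔ ι t ∈ P.S (ι z) ⊓ Cu (ι y) := by
  refine ⟨fun h => ⟨h.1, mem_cu.2 (by rw [← map_mul, ← map_mul, ce_comm h.2 hy])⟩,
    fun h => ⟨h.1, mem_centralizer_iff.2 fun d hd => s.inj ?_⟩⟩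
  obtain ⟨j, hj⟩ := (s.mem_H_or hz h1 hy (ce_comm (hab hz) hy) hd (ce_comm (hab hz) hd)).resolve_left h2
  have h3 : ι t * ι (d * y ^ j) = ι (d * y ^ j) * ι t := ce_comm hj.2 h.1
  rw [map_mul, map_pow, mul_assoc, ← (Commute.pow_right (mem_cu.1 h.2) j :).eq, ← mul_assoc, ← mul_assoc] at h3
  rw [map_mul, map_mul, mul_right_cancel h3]

/-- the frame of Lemma I -/
theorem exists_fr (hab : Q ≤ Ce Q) {z y : X} (hz : z ∈ Q) (h1 : z ≠ 1) (hy : y ∈ Q) (h2 : y ∉ P.H ι Q z) :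
    ∃ m x n : Y, Reg (P.S (ι z)) (ι z) (ι y) m ∧ Fr3 Φ P.q (P.S (ι z) ⊓ Cu (ι y)) x ∧ n⁻¹ * ι z * n = (ι z)⁻¹ ∧
      n⁻¹ * ι y * n = (ι y)⁻¹ ∧ ∀ t ∈ P.S (ι z) ⊓ Cu (ι y), n⁻¹ * t * n = t⁻¹ := by
  have hT := s.tyQ hz h1
  have h3 : ι y ∉ Ce (P.S (ι z)) := fun h => h2 ⟨hy, h⟩
  have h4 := s.pl hz h1 hy (ce_comm (hab hz) hy) fun h => h2 (zpowers_le.2 (s.self_mem_H hz h1) h)
  obtain ⟨m, R⟩ := P.reg _ _ h4 h3
  obtain ⟨g, g1, g2, g3⟩ := P.exists_tor h4 h3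
  obtain ⟨x, hx⟩ := P.frob_conj g
  obtain ⟨n, hn⟩ := P.neg_conj g
  have h5 : ∀ a ∈ P.S (ι z) ⊓ Cu (ι y), ∀ b ∈ P.S (ι z) ⊓ Cu (ι y), a * b = b * a := fun a ha b hb =>
    P.comm_conj (g3 a ha) (g3 b hb)
  have h6 := (R.ac3 (P.cen _ hT) (P.ty3 _ hT) h5).2
  have h7 : ∀ u : X, g⁻¹ * ι u * g ∈ P.T → ι u ^ 3 = 1 → x * ι u = ι u * x := fun u a1 a2 => by
    have h8 := hx _ a1
    rw [s.fix, zpow_q P.q3 a2] at h8
    exact mul_inv_eq_iff_eq_mul.1 h8.symm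
  obtain ⟨j, hj⟩ := R.act x (h7 z g1 (P.ty3 _ hT)) (h7 y g2 (P.ty3 _ h4.t2))
  have h8 := h6.of_act hj
  refine ⟨m, x, n, R, ⟨h8, h5, fun t ht => hx t (g3 t ht), fun t ht => ?_⟩, hn _ g1, hn _ g2, fun t ht => hn t (g3 t ht)⟩
  have h9 : ∀ t ∈ P.S (ι z) ⊓ Cu (ι y), x * t * x⁻¹ = m ^ (j % 3) * t * (m ^ (j % 3))⁻¹ := fun t ht =>
    (hj t ht).trans (h6.mod j ht)
  have h10 : j % 3 = 0 ∨ j % 3 = 1 ∨ j % 3 = 2 := by omega
  rcases h10 with e | e | e <;> rw [e] at h9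
  · obtain ⟨b, b1, b2, b3⟩ := R.cor
    refine absurd (s.mem_zpowers hz h1 b1.1 ?_ (by rw [show 9 = 3 * 3 from rfl, pow_mul, b2, one_pow]) fun r hr => ?_) b3
    · rw [hx b (g3 b b1), zpow_q P.q3 b2, h9 b b1, pow_zero, inv_one, one_mul, mul_one]
    · obtain ⟨i, hi⟩ := R.act (ι r) (by rw [← map_mul, ← map_mul, ce_comm hr hz]) (by rw [← map_mul, ← map_mul, ce_comm hr hy])
      exact (h6.of_act hi).cube b b1
  · rw [h9 _ (h8.mem t ht), h9 t ht, pow_one]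
    exact R.nrm t ht
  · have h11 := h6.mem t ht
    rw [h9 _ (h8.mem t ht), h9 t ht, show m ^ 2 * (m ^ 2 * t * (m ^ 2)⁻¹) * (m ^ 2)⁻¹ =
      m * (m * (m * (m * t * m⁻¹) * m⁻¹) * m⁻¹) * m⁻¹ by simp only [pow_two, mul_inv_rev, mul_assoc],
      h6.three ht, mul_assoc t, h5 _ (h6.pow_mem 2 t ht) _ h11, ← R.nrm t ht]
    simp only [pow_two, mul_inv_rev, mul_assoc]

end Sit

theorem boxLI : BoxLI := by
  intro Y _ Φ P X _ _ ι A Q s hab z hz h1 hn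
  obtain ⟨y, hy, h2⟩ := SetLike.not_le_iff_exists.1 hn
  obtain ⟨m, x, n₀, R, F, n1, n2, n3⟩ := s.exists_fr hab hz h1 hy h2
  have hT := s.tyQ hz h1
  have hA : ∀ {t : X}, t ∈ P.AA ι Q z ↔ ι t ∈ P.S (ι z) ⊓ Cu (ι y) := s.mem_AA hab hz h1 hy h2
  obtain ⟨m3, hm⟩ := R.ac3 (P.cen _ hT) (P.ty3 _ hT) F.comm
  have act : ∀ u : Y, u * ι z = ι z * u → u * ι y = ι y * u → Ac3 (P.S (ι z) ⊓ Cu (ι y)) u := fun u a1 a2 =>
    (R.act u a1 a2).elim fun _ h => hm.of_act h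
  refine ⟨fun t ht => s.inj (by rw [map_zpow, map_one, F.fixed (hA.1 ht) (s.fix t)]),
    fun a ha => mem_centralizer_iff.2 fun b hb => s.inj (by rw [map_mul, map_mul, F.comm _ (hA.1 hb) _ (hA.1 ha)]),
    fun c hc => ?_, fun n hn t ht => s.inj ?_, ?_⟩
  · have h3 := act (ι c) (by rw [← map_mul, ← map_mul, ce_comm hc hz]) (by rw [← map_mul, ← map_mul, ce_comm hc hy])
    refine ⟨fun t ht => hA.2 ?_, mem_centralizer_iff.2 fun t ht => s.inj ?_⟩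
    · rw [map_mul, map_mul, map_inv]
      exact h3.mem _ (hA.1 ht)
    · rw [map_mul, map_mul, map_pow, h3.cube _ (hA.1 ht)]
  · have h3 : ∀ d ∈ Q, n₀⁻¹ * ι d * n₀ = (ι d)⁻¹ → ι n * n₀⁻¹ * ι d = ι d * (ι n * n₀⁻¹) := fun d hd e => by
      have h4 := congrArg ι (hn d⁻¹ (inv_mem hd))
      rw [inv_inv, map_mul, map_mul, map_inv, map_inv, ← e] at h4
      conv_rhs => rw [← h4]
      group
    have h4 := act _ (h3 z hz n1) (h3 y hy n2)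
    generalize hu : ι n * n₀⁻¹ = u at h4
    have h5 : ∀ t ∈ P.S (ι z) ⊓ Cu (ι y), ι n * t * (ι n)⁻¹ = u * t⁻¹ * u⁻¹ := fun t ht => by
      conv_lhs => rw [← inv_inv t, ← n3 _ (inv_mem ht)]
      rw [← hu]
      simp only [mul_inv_rev, inv_inv, mul_assoc]
    have h6 := hA.1 ht
    rw [map_mul, map_mul, map_inv, map_inv, map_pow]
    rw [conj_three, h5 _ h6, h5 _ (h4.mem _ (inv_mem h6)), h5 _ (h4.mem _ (inv_mem (h4.mem _ (inv_mem h6))))]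
    refine Eq.trans ?_ (h4.three (inv_mem h6))
    simp only [mul_inv_rev, inv_inv, mul_assoc]
  · obtain ⟨u, hu, e⟩ := R.mv'
    obtain ⟨u', hu', rfl, u1⟩ : ∃ u' ∈ Q, ι u' = u ∧ u' ≠ 1 := by
      rcases hu with rfl | rfl
      exacts [⟨z, hz, rfl, h1⟩, ⟨z⁻¹, inv_mem hz, map_inv ι z, inv_ne_one.2 h1⟩]
    have h3 : Φ m ∈ P.S (ι z) := (P.SF _ hT (s.fix z) m).2 R.mem
    have h4 : (Φ m)⁻¹ * m ∈ P.S (ι z) ⊓ Cu (ι y) := ⟨(P.S _).mul_mem (inv_mem h3) R.mem, mem_cu.2 (by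
      have h5 := congrArg Φ e
      rw [map_mul, map_mul, map_mul, map_inv, s.fix, s.fix, ← e] at h5
      calc (Φ m)⁻¹ * m * ι y = (Φ m)⁻¹ * (m * ι y * m⁻¹) * m := by group
        _ = _ := by rw [← h5]; group)⟩
    obtain ⟨t, ht, h5⟩ := F.lang P.q1 R.dv h4
    have h6 : Φ (m * t) = m * t := by rw [map_mul, h5]; group
    have h7 : (m * t) ^ 3 ∈ P.S (ι z) ⊓ Cu (ι y) := by
      rw [show (m * t) ^ 3 = m * t * m⁻¹ * (m ^ 2 * t * (m ^ 2)⁻¹) * (m ^ 3 * t) by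
        simp only [pow_succ, pow_zero, one_mul, mul_inv_rev, mul_assoc, inv_mul_cancel_left]]
      exact mul_mem (mul_mem (hm.mem t ht) (hm.pow_mem 2 t ht)) (mul_mem m3 ht)
    obtain ⟨c, hc⟩ := s.mem_range h6 (Odd.mul (by decide : Odd (3 : ℤ)) (odd_N P.q)) (by
      rw [zpow_mul, zpow_ofNat, F.fixed h7 (by rw [map_pow, h6])])
    have h8 : ι c ∈ P.S (ι z) := hc ▸ mul_mem R.mem ht.1
    have h9 : c * y * c⁻¹ = y * u' := s.inj (by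
      rw [map_mul, map_mul, map_mul, map_inv, hc, ← e, mul_assoc m, mem_cu.1 ht.2]
      group)
    have h10 : c ∈ normalizer (Q : Set X) := mem_normalizer_fintype fun d hd => by
      obtain ⟨j, hj⟩ := (s.mem_H_or hz h1 hy (ce_comm (hab hz) hy) hd (ce_comm (hab hz) hd)).resolve_left h2
      have h11 : c * (d * y ^ j) = d * y ^ j * c := s.inj (by rw [map_mul ι c, map_mul ι _ c]; exact ce_comm hj.2 h8)
      rw [show c * d * c⁻¹ = c * (d * y ^ j) * c⁻¹ * ((c * y * c⁻¹) ^ j)⁻¹ by rw [conj_pow]; group, h11, h9,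
        mul_inv_cancel_right]
      exact mul_mem hj.1 (inv_mem (pow_mem (mul_mem hy hu') j))
    refine ⟨c, h10, fun h => u1 ?_, hA.2 (by rw [map_pow, hc]; exact h7), fun a ha => ⟨?_, conj_mem_Ce h10 ha.2⟩,
      fun a ha => ⟨?_, (Ce Q).mul_mem (conj_mem_Ce h10 ha) (inv_mem ha)⟩⟩
    · rwa [← ce_comm h hy, mul_inv_cancel_right, left_eq_mul] at h9
    · show ι _ ∈ P.S (ι z)
      rw [map_mul, map_mul, map_inv]
      exact mul_mem (mul_mem h8 ha.1) (inv_mem h8)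
    · show ι _ ∈ P.S (ι z)
      rw [show c * a * c⁻¹ * a⁻¹ = c * (a * c⁻¹ * a⁻¹) by group, map_mul, map_mul, map_mul, map_inv, map_inv]
      exact mul_mem h8 (P.conj_mem hT (by rw [← map_mul, ← map_mul, ce_comm ha hz]) (inv_mem h8))

end Cfsg.Agent.TO.T3
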