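import Cfsg.Agent.TO.T3.Iface

/-!
# S4817, `p = 3`: Lemma S (helper54)
-/

set_option autoImplicit false
set_option linter.unusedSectionVars false

namespace Cfsg.Agent.TO.T3

open Cfsg Subgroup
open Cfsg.Agent.BHZ.Nil (KK mem_KK_iff self_le_KK)

variable {Y : Type} [Group Y] {Φ : MulAut Y}

theorem ce_comm {S : Subgroup Y} {a s : Y} (ha : a ∈ Ce S) (hs : s ∈ S) : s * a = a * s := mem_centralizer_iff.1 ha s hs

theorem mem_cu {x y : Y} : x ∈ Cu y ↔ x * y = y * x := mem_centralizer_singleton_iff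

/-- an automorphism which fixes `S` and the product of the two components -/
theorem split_mem {S : Subgroup Y} (α : MulAut Y) (h : ∀ s, α s ∈ S ↔ s ∈ S) {a₁ a₂ : Y} (h1 : a₁ ∈ Ce S) (h2 : a₂ ∈ S)
    (e : α (a₁ * a₂) = a₁ * a₂) : α a₂ * a₂⁻¹ ∈ S ∧ α a₂ * a₂⁻¹ ∈ Ce S := by
  refine ⟨mul_mem ((h _).2 h2) (inv_mem h2), ?_⟩
  have h3 : α a₁ ∈ Ce S := mem_centralizer_iff.2 fun s hs => by
    have h4 := congrArg α (ce_comm h1 ((h (α⁻¹ s)).1 (by simpa using hs)))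
    simpa using h4
  rw [show α a₂ * a₂⁻¹ = (α a₁)⁻¹ * a₁ by rw [map_mul] at e; rw [eq_inv_mul_iff_mul_eq, ← mul_assoc, e, mul_inv_cancel_right]]
  exact mul_mem (inv_mem h3) h1

theorem cube_of_mem {z u : Y} (hz : z ^ 3 = 1) (hu : u ∈ zpowers z) : u ^ 3 = 1 := by
  obtain ⟨i, rfl⟩ := hu
  rw [← zpow_natCast, ← zpow_mul, mul_comm, zpow_mul, zpow_natCast, hz, one_zpow]

/-- an element of order prime to three is a power of its cube -/
theorem comm_of_cube {r t : Y} (hr : ¬ 3 ∣ orderOf r) (h : r ^ 3 * t = t * r ^ 3) : r * t = t * r := by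
  obtain ⟨u, hu⟩ := exists_pow_eq_self_of_coprime (x := r) (n := 3) ((Nat.prime_three.coprime_iff_not_dvd).2 hr)
  rw [← hu]
  exact (Commute.pow_left h u :)

theorem cases_of_mem {z u : Y} (hz : z ^ 3 = 1) (hu : u ∈ zpowers z) : u = 1 ∨ u = z ∨ u = z ^ 2 := by
  obtain ⟨i, rfl⟩ := hu
  have h1 : z ^ i = z ^ (i % 3) := by
    conv_lhs => rw [← Int.mul_ediv_add_emod i 3, zpow_add, zpow_mul, zpow_ofNat, hz, one_zpow, one_mul]
  have h2 : i % 3 = 0 ∨ i % 3 = 1 ∨ i % 3 = 2 := by omega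
  show z ^ i = 1 ∨ z ^ i = z ∨ z ^ i = z ^ 2
  rw [h1]
  rcases h2 with h | h | h <;> rw [h]
  exacts [.inl (zpow_zero z), .inr (.inl (zpow_one z)), .inr (.inr (zpow_ofNat z 2))]

theorem exists_pow_mul {z u v : Y} (hz : z ^ 3 = 1) (hu : u ∈ zpowers z) (hv : v ∈ zpowers z) (h : u ≠ 1) :
    ∃ j : ℕ, v * u ^ j = 1 := by
  rcases cases_of_mem hz hu with e | e | e
  · exact absurd e h
  · rcases cases_of_mem hz hv with e' | e' | e' <;> rw [e, e']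
    exacts [⟨0, by simp⟩, ⟨2, by rw [← pow_succ', hz]⟩, ⟨1, by rw [← pow_add, hz]⟩]
  · rcases cases_of_mem hz hv with e' | e' | e' <;> rw [e, e']
    exacts [⟨0, by simp⟩, ⟨1, by rw [pow_one, ← pow_succ', hz]⟩,
      ⟨2, by rw [← pow_succ', ← pow_mul, mul_comm, pow_mul, hz, one_pow]⟩]

namespace Pk

variable (P : Pk Y Φ)

theorem conj_mem {z x s : Y} (h : P.Ty z) (hx : x * z = z * x) (hs : s ∈ P.S z) : x * s * x⁻¹ ∈ P.S z := by
  have h1 := P.Sc z h s hs x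
  rwa [hx, mul_inv_cancel_right] at h1

theorem conj_iff {z x : Y} (h : P.Ty z) (hx : x * z = z * x) (s : Y) : MulAut.conj x s ∈ P.S z ↔ s ∈ P.S z := by
  refine ⟨fun hs => ?_, P.conj_mem h hx⟩
  have h1 := P.conj_mem h (x := x⁻¹) (Commute.inv_left hx) hs
  simpa [mul_assoc] using h1

theorem zp_le {z : Y} (h : P.Ty z) : zpowers z ≤ Ce (P.S z) := zpowers_le.2 (P.cen z h)

end Pk

variable {P : Pk Y Φ} {X : Type} [Group X] {ι : X →* Y} {A : Subgroup (MulAut X)} {Q : Subgroup X}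

namespace Sit

variable (s : Sit P ι A Q)
include s

theorem cube {z : X} (hz : z ∈ Q) : z ^ 3 = 1 :=
  have := Fact.mk Nat.prime_three
  s.pure.expo z (self_le_KK Q hz) ((IsPGroup.iff_orderOf.1 s.pure.pg ⟨z, hz⟩).imp fun _ h => by rw [← h, orderOf_mk])

theorem tyQ {z : X} (hz : z ∈ Q) (h1 : z ≠ 1) : P.Ty (ι z) :=
  have := Fact.mk Nat.prime_three
  s.ty z (self_le_KK Q hz) (s.cube hz) h1

/-- fixed points of odd order lie in the finite group -/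
theorem mem_range {g : Y} (h : Φ g = g) {n : ℤ} (hn : Odd n) (h1 : g ^ n = 1) : g ∈ ι.range := by
  obtain ⟨k, rfl⟩ := hn
  have h2 := zpow_mem (s.sq g h) (-k)
  rwa [← zpow_natCast, ← zpow_mul, show ((2 : ℕ) : ℤ) * -k = 1 - (2 * k + 1) by push_cast; ring, zpow_sub, h1, inv_one,
    mul_one, zpow_one] at h2

/-- fixed `3`-elements of `S z` which commute with the `3`-regular elements of `C(Q)` -/
theorem mem_zpowers {z : X} (hz : z ∈ Q) (h1 : z ≠ 1) {b : Y} (hb : b ∈ P.S (ι z)) (hf : Φ b = b) (h9 : b ^ 9 = 1)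
    (hc : ∀ r ∈ Ce Q, ι r ^ 3 * b = b * ι r ^ 3) : b ∈ zpowers (ι z) := by
  have := Fact.mk Nat.prime_three
  obtain ⟨c, rfl⟩ := s.mem_range hf (n := 9) (by decide) (by exact_mod_cast h9)
  have h2 : c ∈ KK 3 Q := mem_KK_iff.2 fun r hr h3 => comm_of_cube h3 (s.inj (by
    rw [map_mul, map_mul, map_pow]
    exact hc r hr))
  have h3 : c ^ 3 ^ 2 = 1 := s.inj (by rw [map_pow, map_one]; exact h9)
  obtain ⟨k, -, hk⟩ := (Nat.dvd_prime_pow Nat.prime_three).1 (orderOf_dvd_of_pow_eq_one h3)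
  by_cases h4 : c = 1
  · rw [h4, map_one]
    exact one_mem _
  · exact P.three _ (s.tyQ hz h1) _ hb (s.ty c h2 (s.pure.expo c h2 ⟨k, hk⟩) h4)

theorem lam_mem {z : X} (hz : z ∈ Q) (h1 : z ≠ 1) {a : X} {a₁ a₂ : Y} (h2 : a₁ ∈ Ce (P.S (ι z))) (h3 : a₂ ∈ P.S (ι z))
    (e : ι a = a₁ * a₂) : Φ a₂ * a₂⁻¹ ∈ zpowers (ι z) :=
  have h4 := split_mem Φ (P.SF _ (s.tyQ hz h1) (s.fix z)) h2 h3 (e ▸ s.fix a)
  P.int _ (s.tyQ hz h1) _ h4.1 h4.2

theorem mem_H {z : X} (hz : z ∈ Q) (h1 : z ≠ 1) {a : X} (ha : a ∈ Q) {a₁ a₂ : Y} (h2 : a₁ ∈ Ce (P.S (ι z)))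
    (h3 : a₂ ∈ P.S (ι z)) (e : ι a = a₁ * a₂) (hf : Φ a₂ = a₂) : a ∈ P.H ι Q z := by
  have hT := s.tyQ hz h1
  have h4 : a₁ ^ 3 * a₂ ^ 3 = 1 := by
    rw [← Commute.mul_pow (ce_comm h2 h3).symm, ← e, ← map_pow, s.cube ha, map_one]
  have h5 : a₂ ^ 3 ∈ zpowers (ι z) := P.int _ hT _ (pow_mem h3 3) (by
    rw [eq_inv_of_mul_eq_one_right h4]
    exact inv_mem (pow_mem h2 3))
  have h6 := s.mem_zpowers hz h1 h3 hf (by rw [← cube_of_mem (P.ty3 _ hT) h5, ← pow_mul]) fun r hr => by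
    have h7 : ι r * ι z = ι z * ι r := by rw [← map_mul, ← map_mul, ce_comm hr hz]
    have h8 := split_mem (MulAut.conj (ι r)) (P.conj_iff hT h7) h2 h3 (by
      rw [← e, MulAut.conj_apply, ← map_mul, ← ce_comm hr ha, map_mul, mul_inv_cancel_right])
    have h9 := P.int _ hT _ h8.1 h8.2
    obtain ⟨u, hu, e1⟩ : ∃ u ∈ zpowers (ι z), ι r * a₂ = u * a₂ * ι r := ⟨_, h9, by simp [mul_assoc]⟩
    have e2 : ι r * u = u * ι r := by
      obtain ⟨i, rfl⟩ := hu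
      exact (Commute.zpow_right h7 i :)
    have e3 : ∀ n : ℕ, ι r ^ n * a₂ = u ^ n * a₂ * ι r ^ n := fun n => by
      induction n with
      | zero => simp
      | succ n ih =>
        rw [pow_succ', mul_assoc, ih, ← mul_assoc, ← mul_assoc, (Commute.pow_right e2 n :).eq, mul_assoc _ (ι r), e1,
          pow_succ u]
        simp only [mul_assoc]
    rw [e3, cube_of_mem (P.ty3 _ hT) hu, one_mul]
  refine ⟨ha, ?_⟩
  show ι a ∈ Ce _
  rw [e]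
  exact mul_mem h2 (P.zp_le hT h6)

theorem mem_H_or {z : X} (hz : z ∈ Q) (h1 : z ≠ 1) {a a' : X} (ha : a ∈ Q) (hc : a * z = z * a) (ha' : a' ∈ Q)
    (hc' : a' * z = z * a') : a ∈ P.H ι Q z ∨ ∃ j : ℕ, a' * a ^ j ∈ P.H ι Q z := by
  have hT := s.tyQ hz h1
  obtain ⟨a₁, h2, a₂, h3, e⟩ := P.dec _ hT (ι a) (by rw [← map_mul, ← map_mul, hc])
  obtain ⟨c₁, h4, c₂, h5, e'⟩ := P.dec _ hT (ι a') (by rw [← map_mul, ← map_mul, hc'])
  have h6 := s.lam_mem hz h1 h2 h3 e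
  have h7 := s.lam_mem hz h1 h4 h5 e'
  by_cases h8 : Φ a₂ * a₂⁻¹ = 1
  · exact .inl (s.mem_H hz h1 ha h2 h3 e (mul_inv_eq_one.1 h8))
  obtain ⟨j, hj⟩ := exists_pow_mul (P.ty3 _ hT) h6 h7 h8
  refine .inr ⟨j, s.mem_H hz h1 (mul_mem ha' (pow_mem ha j)) (mul_mem h4 (pow_mem h2 j)) (mul_mem h5 (pow_mem h3 j)) ?_ ?_⟩
  · rw [map_mul, map_pow, e, e', Commute.mul_pow (ce_comm h2 h3).symm, mul_assoc, mul_assoc, ← mul_assoc c₂,
      ce_comm (pow_mem h2 j) h5, mul_assoc]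
  · have h9 : Φ a₂ = Φ a₂ * a₂⁻¹ * a₂ := by group
    have h10 : Φ c₂ = Φ c₂ * c₂⁻¹ * c₂ := by group
    rw [map_mul, map_pow, h9, h10, Commute.mul_pow (ce_comm (P.zp_le hT h6) h3).symm, mul_assoc, ← mul_assoc c₂,
      ce_comm (pow_mem (P.zp_le hT h6) j) h5, ← mul_assoc, ← mul_assoc, hj, one_mul]

end Sit

theorem boxLS : BoxLS := fun _ _ _ _ _ _ _ _ _ _ s _ hz h1 _ ha hc =>
  ⟨fun _ h2 _ h3 e => ⟨s.lam_mem hz h1 h2 h3 e, s.mem_H hz h1 ha h2 h3 e⟩, fun _ ha' hc' => s.mem_H_or hz h1 ha hc ha' hc'⟩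

end Cfsg.Agent.TO.T3
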