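import Cfsg.Agent.TO.T3.Iface

/-!
# S4817, `p = 3`, `E₈`, box NONE: conjugates of the torus, counting lemmas (helper15)
-/

set_option autoImplicit false
set_option linter.unusedSectionVars false

namespace Cfsg.Agent.TO.T3.No

open Cfsg Subgroup

/-- fixed points of an automorphism of prime power order -/
theorem fix_mod {Y : Type*} [Group Y] (φ : MulAut Y) (R : Subgroup Y) [Finite R] (hR : ∀ x ∈ R, φ x ∈ R) {l a : ℕ}
    (hl : l.Prime) (h : ∀ x ∈ R, (φ ^ l ^ a) x = x) :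
    Nat.card R ≡ Nat.card ↥(R ⊓ φ.toMonoidHom.eqLocus (MonoidHom.id Y)) [MOD l] := by
  classical
  have := Fact.mk hl
  have := Fintype.ofFinite R
  let f : Function.End R := fun x => ⟨φ x, hR x x.2⟩
  have h1 : ∀ (n : ℕ) (x : R), ((f ^ n) x : Y) = (φ ^ n) x := fun n => by
    induction n with
    | zero => exact fun _ => rfl
    | succ n ih => exact fun x => by rw [pow_succ', pow_succ', MulAut.mul_apply, ← ih]; rfl
  have h2 := Equiv.Perm.card_fixedPoints_modEq (f := f) (p := l) (n := a) (funext fun x => Subtype.ext ((h1 _ x).trans (h x x.2)))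
  rw [← Nat.card_eq_fintype_card, ← Nat.card_eq_fintype_card] at h2
  rwa [Nat.card_congr (β := ↥(R ⊓ φ.toMonoidHom.eqLocus (MonoidHom.id Y))) (α := f.fixedPoints)
    ⟨fun x => ⟨x.1, x.1.2, congrArg Subtype.val x.2⟩, fun x => ⟨⟨x, x.2.1⟩, Subtype.ext x.2.2⟩, fun _ => rfl,
      fun _ => rfl⟩] at h2

theorem exists_reg {Y : Type*} [Group Y] {x : Y} (hx : IsOfFinOrder x) : ∃ k : ℕ, ¬ 3 ∣ orderOf (x ^ 3 ^ k) :=
  ⟨(orderOf x).factorization 3, by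
    rw [orderOf_pow_of_dvd (by positivity) (Nat.ordProj_dvd _ _)]
    exact Nat.not_dvd_ordCompl Nat.prime_three hx.orderOf_pos.ne'⟩

/-- an automorphism of order prime to `6` of a group of order `81` -/
theorem fpf {V : Type*} [Group V] [Finite V] (hV : Nat.card V = 81) (H : V → Subgroup V) (hH : ∀ z ≠ 1, (H z).index = 3)
    (hz : ∀ z ≠ 1, z ∈ H z) {φ : MulAut V} {l a : ℕ} (hl : l.Prime) (h5 : 5 ≤ l) (hφ : φ ^ l ^ a = 1) (h1 : φ ≠ 1)
    (hn : ∀ z ≠ 1, φ z = z → ∀ x ∈ H z, φ x ∈ H z) : l = 5 ∧ ∀ z, φ z = z → z = 1 := by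
  have key : ∀ R : Subgroup V, (∀ x ∈ R, φ x ∈ R) →
      Nat.card R ∣ 9 * Nat.card ↥(R ⊓ φ.toMonoidHom.eqLocus (MonoidHom.id V)) → ∀ x ∈ R, φ x = x := fun R hR hd => by
    have h2 := fix_mod φ R hR (a := a) hl fun x _ => by rw [hφ, MulAut.one_apply]
    obtain ⟨i, hi⟩ := card_dvd_of_le (inf_le_left : R ⊓ φ.toMonoidHom.eqLocus (MonoidHom.id V) ≤ R)
    have h3 : Nat.card ↥(R ⊓ φ.toMonoidHom.eqLocus (MonoidHom.id V)) ∣ 3 ^ 4 :=
      (card_subgroup_dvd_card _).trans (dvd_of_eq hV)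
    rw [hi, mul_comm 9, Nat.mul_dvd_mul_iff_left Nat.card_pos] at hd
    have h4 : i ≡ 1 [MOD l] := Nat.ModEq.cancel_left_of_coprime
      (((Nat.coprime_primes hl Nat.prime_three).2 (by omega)).pow_right 4 |>.coprime_dvd_right h3) (by rwa [← hi, mul_one])
    have h6 : i = 1 := by
      have h7 := Nat.le_of_dvd (by norm_num) hd
      by_contra h8
      have h9 : i = 3 ∨ i = 9 := by interval_cases i <;> simp_all
      have h10 : l ∣ 2 ^ 3 := by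
        rcases h9 with rfl | rfl
        · exact ((Nat.modEq_iff_dvd' (by norm_num)).1 h4.symm).trans (by norm_num)
        · exact (Nat.modEq_iff_dvd' (by norm_num)).1 h4.symm
      have := (Nat.prime_dvd_prime_iff_eq hl Nat.prime_two).1 (hl.dvd_of_dvd_pow h10)
      omega
    exact fun x hx => ((eq_of_le_of_card_ge (inf_le_left : R ⊓ φ.toMonoidHom.eqLocus (MonoidHom.id V) ≤ R)
      (by rw [hi, h6, mul_one])).ge hx).2
  have h2 : ∀ z, φ z = z → z = 1 := fun z h3 => by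
    by_contra h4
    have h6 : Nat.card (H z) = 27 := by
      have := (H z).card_mul_index
      rw [hH z h4, hV] at this
      omega
    have h7 := key (H z) (hn z h4 h3) (by
      obtain ⟨i, hi, h7⟩ := (Nat.dvd_prime_pow Nat.prime_three).1
        (show Nat.card ↥(H z ⊓ φ.toMonoidHom.eqLocus (MonoidHom.id V)) ∣ 3 ^ 4 from
          (card_subgroup_dvd_card _).trans (dvd_of_eq hV))
      rcases i with _ | i
      · rw [pow_zero, card_eq_one] at h7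
        exact absurd (mem_bot.1 (h7.le ⟨hz z h4, h3⟩)) h4
      · rw [h6, h7, pow_succ']
        exact ⟨3 ^ i, by ring⟩)
    refine h1 (MulEquiv.ext fun x => key ⊤ (fun _ _ => mem_top _) ?_ x (mem_top x))
    obtain ⟨c, hc⟩ := card_dvd_of_le (show H z ≤ ⊤ ⊓ φ.toMonoidHom.eqLocus (MonoidHom.id V) from fun x hx => ⟨mem_top _, h7 x hx⟩)
    rw [card_top, hV, hc, h6]
    exact ⟨3 * c, by ring⟩
  refine ⟨?_, h2⟩
  have h3 := fix_mod φ ⊤ (fun _ _ => mem_top _) (a := a) hl fun x _ => by rw [hφ, MulAut.one_apply]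
  rw [show ⊤ ⊓ φ.toMonoidHom.eqLocus (MonoidHom.id V) = ⊥ from eq_bot_iff.2 fun x hx => h2 x hx.2, card_top, hV, card_bot] at h3
  have h4 : l ∣ 2 ^ 4 * 5 := (Nat.modEq_iff_dvd' (by norm_num)).1 h3.symm
  rcases (Nat.Prime.dvd_mul hl).1 h4 with h6 | h6
  · have := (Nat.prime_dvd_prime_iff_eq hl Nat.prime_two).1 (hl.dvd_of_dvd_pow h6)
    omega
  · exact (Nat.prime_dvd_prime_iff_eq hl Nat.prime_five).1 h6

variable {Y : Type} [Group Y] {Φ : MulAut Y} {P : Pk Y Φ}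

theorem S_conj {z : Y} (hz : P.Ty z) (g s : Y) : g * s * g⁻¹ ∈ P.S (g * z * g⁻¹) ↔ s ∈ P.S z :=
  ⟨fun h => by simpa [mul_assoc] using P.Sc _ (P.tyc z hz g) _ h g⁻¹, fun h => P.Sc z hz s h g⟩

theorem Ce_conj {z : Y} (hz : P.Ty z) (g : Y) {y : Y} (h : y ∈ Ce (P.S z)) : g * y * g⁻¹ ∈ Ce (P.S (g * z * g⁻¹)) := by
  intro s hs
  obtain ⟨s, rfl⟩ : ∃ s', s = g * s' * g⁻¹ := ⟨g⁻¹ * s * g, by group⟩
  rw [conj_mul, conj_mul, h s ((S_conj hz g s).1 hs)]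

theorem not_Ce_conj {z : Y} (hz : P.Ty z) (g : Y) {y : Y} (h : y ∉ Ce (P.S z)) : g * y * g⁻¹ ∉ Ce (P.S (g * z * g⁻¹)) :=
  fun h1 => h (by simpa [mul_assoc] using Ce_conj (P.tyc z hz g) g⁻¹ h1)

theorem pl_conj {z y : Y} (h : Pl P.Ty z y) (g : Y) : Pl P.Ty (g * z * g⁻¹) (g * y * g⁻¹) :=
  ⟨by rw [conj_mul, conj_mul, h.comm], P.tyc _ h.t1 g, P.tyc _ h.t2 g, by
    rw [conj_mul]
    exact P.tyc _ h.t3 g, by
    rw [conj_inv, conj_mul]
    exact P.tyc _ h.t4 g⟩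

/-- the properties of the conjugates of the torus -/
structure Tor (P : Pk Y Φ) (T : Subgroup Y) : Prop where
  comm : ∀ s ∈ T, ∀ t ∈ T, s * t = t * s
  frob : ∃ n : Y, ∀ t ∈ T, Φ t = n * t ^ P.q * n⁻¹
  tp2 : ∀ z ∈ T, z ^ 3 = 1 → ∀ y : Y, y ^ 3 = 1 → y * z = z * y → ∃ h : Y, h * z = z * h ∧ h⁻¹ * y * h ∈ T
  tor : ∀ z y, Pl P.Ty z y → y ∉ Ce (P.S z) → z ∈ T → y ∈ T → P.S z ⊓ Cu y ≤ T
  tn : ∀ Z : Subgroup Y, Z ≤ T → (∀ u ∈ Ce Z, ¬ 3 ∣ orderOf u → u ∈ T) → ∀ x : Y, (∀ z ∈ Z, x⁻¹ * z * x ∈ Z) →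
    ∀ t ∈ T, x * t * x⁻¹ ∈ T
  lat : ∀ s : Y, (∀ t ∈ T, s * t * s⁻¹ ∈ T) → ∀ n : ℕ, s ^ n = 1 → (∀ v ∈ T, v ^ 3 = 1 → s * v = v * s → v = 1) →
    ∀ t ∈ T, s * t = t * s → t ^ n = 1
  fin3 : {v : Y | v ∈ T ∧ v ^ 3 = 1}.Finite

theorem tor_T (h : P.Eight) : Tor P P.T :=
  ⟨P.tcomm, P.frob, P.tp2, P.tor, fun Z h1 h2 x h3 t ht => (h.tn Z h1 h2 x h3 t ht).1,
    fun s h1 n h2 => h.lat s h1 n (h2 ▸ one_mem _), h.fin3⟩

theorem Tor.map {T : Subgroup Y} (h : Tor P T) (g : Y) : Tor P (T.comap (MulAut.conj g).toMonoidHom) where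
  comm s hs t ht := (MulAut.conj g).injective (by
    rw [map_mul, map_mul]
    exact h.comm _ hs _ ht)
  frob := by
    obtain ⟨n, hn⟩ := h.frob
    refine ⟨(Φ g)⁻¹ * n * g, fun t ht => ?_⟩
    have h1 := hn (g * t * g⁻¹) ht
    rw [map_mul, map_mul, map_inv, conj_zpow, mul_inv_eq_iff_eq_mul, ← eq_inv_mul_iff_mul_eq] at h1
    rw [h1]
    group
  tp2 z hz h3 y y3 hy := by
    obtain ⟨k, k1, k2⟩ := h.tp2 (g * z * g⁻¹) hz (by rw [conj_pow, h3, mul_one, mul_inv_cancel]) (g * y * g⁻¹)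
      (by rw [conj_pow, y3, mul_one, mul_inv_cancel]) (by rw [conj_mul, conj_mul, hy])
    refine ⟨g⁻¹ * k * g, ?_, ?_⟩
    · calc g⁻¹ * k * g * z = g⁻¹ * (k * (g * z * g⁻¹)) * g := by group
        _ = _ := by rw [k1]; group
    · change g * _ * g⁻¹ ∈ T
      convert k2 using 1
      group
  tor z y h1 h2 hz hy t ht := h.tor _ _ (pl_conj h1 g) (not_Ce_conj h1.t1 g h2) hz hy
    ⟨P.Sc z h1.t1 t ht.1 g, mem_centralizer_singleton_iff.2 (by
      change g * t * g⁻¹ * _ = _ * (g * t * g⁻¹)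
      rw [conj_mul, conj_mul, mem_centralizer_singleton_iff.1 ht.2])⟩
  tn Z h1 h2 x h3 t ht := by
    have h4 := h.tn (Z.map (MulAut.conj g).toMonoidHom) (map_le_iff_le_comap.2 h1) (fun u hu h5 => by
      obtain ⟨u, rfl⟩ := (MulAut.conj g).surjective u
      rw [MulEquiv.orderOf_eq] at h5
      exact h2 u (fun z hz => (MulAut.conj g).injective (by
        rw [map_mul, map_mul]
        exact hu _ ⟨z, hz, rfl⟩)) h5) (MulAut.conj g x) (by
      rintro _ ⟨z, hz, rfl⟩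
      exact ⟨_, h3 z hz, by simp only [map_mul, map_inv]; rfl⟩) _ ht
    change MulAut.conj g _ ∈ T
    rw [map_mul, map_mul, map_inv]
    exact h4
  lat s h1 n h2 h3 t ht h4 := (MulAut.conj g).injective (by
    rw [map_pow, map_one]
    refine h.lat (MulAut.conj g s) (fun t ht => ?_) n (by rw [← map_pow, h2, map_one]) (fun v hv v3 h5 => ?_) _ ht
      (by rw [← map_mul, h4, map_mul])
    · obtain ⟨t, rfl⟩ := (MulAut.conj g).surjective t
      rw [← map_inv, ← map_mul, ← map_mul]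
      exact h1 t ht
    · obtain ⟨v, rfl⟩ := (MulAut.conj g).surjective v
      rw [← map_mul, ← map_mul, (MulAut.conj g).injective.eq_iff] at h5
      rw [← map_pow, map_eq_one_iff _ (MulAut.conj g).injective] at v3
      rw [h3 v hv v3 h5, map_one])
  fin3 := (h.fin3.preimage (MulAut.conj g).injective.injOn).subset fun v hv =>
    ⟨hv.1, by rw [← map_pow, hv.2, map_one]⟩

/-- moving the torus of `S z` into the torus -/
theorem Tor.step {T : Subgroup Y} (h : Tor P T) {z y : Y} (h1 : Pl P.Ty z y) (h2 : y ∉ Ce (P.S z)) (hz : z ∈ T) :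
    ∃ T', Tor P T' ∧ P.S z ⊓ Cu y ≤ T' ∧ T ⊓ Ce (P.S z) ≤ T' := by
  obtain ⟨k, k1, k2⟩ := h.tp2 z hz (P.ty3 z h1.t1) y (P.ty3 y h1.t2) h1.comm
  obtain ⟨a, ha, c, hc, e⟩ := P.dec z h1.t1 k k1
  have k3 : k⁻¹ * z * k⁻¹⁻¹ = z := by rw [inv_inv, mul_assoc, ← k1, inv_mul_cancel_left]
  have h3 := pl_conj h1 k⁻¹
  have h4 := not_Ce_conj h1.t1 k⁻¹ h2
  rw [k3] at h3 h4
  refine ⟨_, h.map c⁻¹, fun t ht => ?_, fun t ht => ?_⟩
  · have h5 := h.tor _ _ h3 h4 hz (by rwa [inv_inv]) (x := k⁻¹ * t * k⁻¹⁻¹)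
      ⟨k3 ▸ P.Sc z h1.t1 t ht.1 k⁻¹, mem_centralizer_singleton_iff.2 (by
        rw [conj_mul, conj_mul, mem_centralizer_singleton_iff.1 ht.2])⟩
    change c⁻¹ * t * c⁻¹⁻¹ ∈ T
    convert h5 using 1
    rw [e, inv_inv, inv_inv, mul_inv_rev, mul_assoc _ t, mul_assoc _ t, ← mul_assoc t, ha t ht.1]
    group
  · change c⁻¹ * t * c⁻¹⁻¹ ∈ T
    rw [inv_inv, mul_assoc, ← ht.2 c hc, inv_mul_cancel_left]
    exact ht.1

/-- the elements of order three of the torus which commute with `s` -/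
theorem Tor.exists_fix {T : Subgroup Y} (h : Tor P T) (hf : ∀ y : Y, IsOfFinOrder y) {Z : Subgroup Y} (h1 : Z ≤ T)
    (h2 : ∀ u ∈ Ce Z, ¬ 3 ∣ orderOf u → u ∈ T) (h3 : ∀ z ∈ Z, Φ z = z ∧ z ^ 3 = 1) {s v : Y} (hs : Φ s = s) (hv : v ∈ T)
    (v3 : v ^ 3 = 1) (h4 : s * v = v * s) (v1 : v ≠ 1) :
    ∃ u ∈ T, u ^ 3 = 1 ∧ s * u = u * s ∧ u ≠ 1 ∧ Φ u = u := by
  obtain ⟨n, hn⟩ := h.frob
  have h5 : ∀ t ∈ T, t ^ 3 = 1 → Φ t = MulAut.conj n t := fun t ht t3 => by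
    rw [hn t ht, ← Int.mul_ediv_add_emod P.q 3, P.q3, zpow_add, zpow_mul, zpow_ofNat, t3, one_zpow, one_mul, zpow_one]
    rfl
  have h6 : n ∈ Ce Z := fun z hz => (mul_inv_eq_iff_eq_mul.1 ((h5 z (h1 hz) (h3 z hz).2).symm.trans (h3 z hz).1)).symm
  let R : Subgroup Y :=
    { carrier := {v | (v ∈ T ∧ v ^ 3 = 1) ∧ s * v = v * s}
      one_mem' := ⟨⟨one_mem _, one_pow _⟩, by rw [mul_one, one_mul]⟩
      mul_mem' := fun {a b} ha hb => ⟨⟨mul_mem ha.1.1 hb.1.1, by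
        rw [Commute.mul_pow (h.comm a ha.1.1 b hb.1.1), ha.1.2, hb.1.2, mul_one]⟩, Commute.mul_right ha.2 hb.2⟩
      inv_mem' := fun {a} ha => ⟨⟨inv_mem ha.1.1, by rw [inv_pow, ha.1.2, inv_one]⟩, Commute.inv_right ha.2⟩ }
  have : Finite R := h.fin3.subset fun v hv => hv.1
  obtain ⟨k, hk⟩ := exists_reg (hf n)
  have h7 := fix_mod (MulAut.conj n) R (fun x hx => ⟨⟨h.tn Z h1 h2 n (fun z hz => by
      rwa [mul_assoc, h6 z hz, inv_mul_cancel_left]) x hx.1.1, by rw [← map_pow, hx.1.2, map_one]⟩, by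
      rw [← h5 x hx.1.1 hx.1.2, ← hs, ← map_mul, ← map_mul, hx.2]⟩) (a := k) Nat.prime_three fun x hx => by
    rw [← map_pow, MulAut.conj_apply, h.comm _ (h2 _ (pow_mem h6 _) hk) x hx.1.1, mul_inv_cancel_right]
  by_contra h8
  push Not at h8
  rw [show R ⊓ (MulAut.conj n).toMonoidHom.eqLocus (MonoidHom.id Y) = ⊥ from eq_bot_iff.2 fun x hx => by_contra fun h9 =>
    h8 x hx.1.1.1 hx.1.1.2 hx.1.2 h9 ((h5 x hx.1.1.1 hx.1.1.2).trans hx.2), card_bot] at h7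
  have := Fact.mk Nat.prime_three
  have h9 : 3 ∣ Nat.card R := orderOf_eq_prime (x := (⟨v, ⟨hv, v3⟩, h4⟩ : R)) (Subtype.ext v3)
    (fun e => v1 (congrArg Subtype.val e)) ▸ orderOf_dvd_natCard _
  exact absurd ((h7.dvd_iff dvd_rfl).1 h9) (by norm_num)

end Cfsg.Agent.TO.T3.No
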