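import Cfsg.Agent.TO.T3.NoneA

/-!
# S4817, `p = 3`, `E₈`, box NONE: planes of type II (helper15)
-/

set_option autoImplicit false
set_option linter.unusedSectionVars false

namespace Cfsg.Agent.TO.T3.No

open Cfsg Subgroup

variable {Y : Type} [Group Y] {Φ : MulAut Y} {P : Pk Y Φ} {V : Type} [CommGroup V] [Finite V] {κ : V →* Y}

/-- an elementary abelian group of fixed points -/
structure Cfg (P : Pk Y Φ) (κ : V →* Y) : Prop where
  inj : Function.Injective κ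
  fix : ∀ v, Φ (κ v) = κ v
  p3 : ∀ v : V, v ^ 3 = 1
  ty : ∀ v ≠ 1, P.Ty (κ v)
  ls1 : ∀ z ≠ 1, ∀ a, ∀ a₁ ∈ Ce (P.S (κ z)), ∀ a₂ ∈ P.S (κ z), κ a = a₁ * a₂ →
    Φ a₂ * a₂⁻¹ ∈ zpowers (κ z) ∧ (Φ a₂ = a₂ → κ a ∈ Ce (P.S (κ z)))
  ls2 : ∀ z ≠ 1, ∀ a a', κ a ∈ Ce (P.S (κ z)) ∨ ∃ j : ℕ, κ (a' * a ^ j) ∈ Ce (P.S (κ z))
  non : ∀ z ≠ 1, ∃ a, κ a ∉ Ce (P.S (κ z))
  four : P.Four

/-- the part which centralizes `S z` -/
def HH (P : Pk Y Φ) (κ : V →* Y) (z : V) : Subgroup V := (Ce (P.S (κ z))).comap κ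

/-- the four points of a plane -/
def zz (z y : V) : Fin 4 → V := ![z, y, y * z, y * z⁻¹]

/-- the first coordinates -/
def aa : Fin 4 → ℕ := ![1, 0, 1, 2]

/-- the second coordinates -/
def bb : Fin 4 → ℕ := ![0, 1, 1, 1]

namespace Cfg

variable (C : Cfg P κ) {z y : V}
include C

theorem ord (hz : z ≠ 1) : orderOf z = 3 := by
  have := Fact.mk Nat.prime_three
  exact orderOf_eq_prime (C.p3 z) hz

theorem zp_le (hz : z ≠ 1) : zpowers z ≤ HH P κ z := zpowers_le.2 (P.cen _ (C.ty z hz))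

theorem pl (hz : z ≠ 1) (hy : y ∉ zpowers z) : Pl P.Ty (κ z) (κ y) :=
  ⟨by rw [← map_mul, ← map_mul, mul_comm], C.ty z hz, C.ty y fun e => hy (e ▸ one_mem _), by
    rw [← map_mul]
    exact C.ty _ fun e => hy (eq_inv_of_mul_eq_one_left e ▸ inv_mem (mem_zpowers z)), by
    rw [← map_inv, ← map_mul]
    exact C.ty _ fun e => hy (mul_inv_eq_one.1 e ▸ mem_zpowers z)⟩

theorem index (hz : z ≠ 1) : (HH P κ z).index = 3 := by
  have := Fact.mk Nat.prime_three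
  obtain ⟨a, ha⟩ := C.non z hz
  have h1 : zpowers (a : V ⧸ HH P κ z) = ⊤ := eq_top_iff.2 fun x _ => by
    obtain ⟨x, rfl⟩ := QuotientGroup.mk_surjective x
    obtain ⟨j, hj⟩ := (C.ls2 z hz a x).resolve_left ha
    have h2 := (QuotientGroup.eq_one_iff (N := HH P κ z) _).2 hj
    rw [QuotientGroup.mk_mul, QuotientGroup.mk_pow] at h2
    rw [eq_inv_of_mul_eq_one_left h2]
    exact inv_mem (pow_mem (mem_zpowers _) j)
  rw [index_eq_card, ← card_top, ← h1, Nat.card_zpowers]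
  exact orderOf_eq_prime (by rw [← QuotientGroup.mk_pow, C.p3, QuotientGroup.mk_one])
    fun e => ha ((QuotientGroup.eq_one_iff (N := HH P κ z) _).1 e)

theorem zz_eq (i : Fin 4) : zz z y i = z ^ aa i * y ^ bb i := by
  have h1 : z⁻¹ = z ^ 2 := inv_eq_of_mul_eq_one_right (by rw [← pow_succ', C.p3])
  fin_cases i <;> simp [zz, aa, bb, mul_comm, h1]

variable (hz : z ≠ 1) (hy : y ∉ zpowers z)
include hz hy

theorem indep {i j : ℕ} (h : z ^ i * y ^ j = 1) : 3 ∣ i ∧ 3 ∣ j := by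
  have h1 : 3 ∣ j := by
    by_contra h2
    obtain ⟨e, he⟩ := exists_pow_eq_self_of_coprime (x := y) (n := j)
      (((Nat.Prime.coprime_iff_not_dvd Nat.prime_three).2 h2).symm.coprime_dvd_right (orderOf_dvd_of_pow_eq_one (C.p3 y)))
    rw [← he, eq_inv_of_mul_eq_one_right h] at hy
    exact hy (pow_mem (inv_mem (pow_mem (mem_zpowers z) i)) e)
  obtain ⟨j, rfl⟩ := h1
  rw [pow_mul, C.p3, one_pow, mul_one, ← orderOf_dvd_iff_pow_eq_one, C.ord hz] at h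
  exact ⟨h, dvd_mul_right _ _⟩

theorem zz_ne (i : Fin 4) : zz z y i ≠ 1 := fun e => by
  have h := C.indep hz hy ((C.zz_eq i).symm.trans e)
  revert h
  fin_cases i <;> simp [aa, bb]

theorem zz_notMem {i j : Fin 4} (h : i ≠ j) : zz z y j ∉ zpowers (zz z y i) := fun e => by
  obtain ⟨k, hk⟩ := mem_powers_iff_mem_zpowers.2 e
  have h1 : zz z y j * zz z y i ^ (2 * k) = 1 := by
    rw [← hk, ← pow_add, show k + 2 * k = 3 * k by ring, pow_mul, C.p3, one_pow]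
  rw [C.zz_eq, C.zz_eq, mul_pow, ← pow_mul, ← pow_mul, mul_mul_mul_comm, ← pow_add, ← pow_add] at h1
  have h2 := C.indep hz hy h1
  revert h h2
  fin_cases i <;> fin_cases j <;> simp [aa, bb] <;> omega

variable (hH : y ∈ HH P κ z)
include hH

theorem base_mem (i : Fin 4) : z ∈ HH P κ (zz z y i) ∧ y ∈ HH P κ (zz z y i) := by
  by_cases h0 : i = 0
  · subst h0
    exact ⟨C.zp_le hz (mem_zpowers z), hH⟩
  have h1 : z ∈ HH P κ (zz z y i) := le_centralizer_iff.1 (P.two _ _ (C.pl hz (C.zz_notMem hz hy (Ne.symm h0))) (by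
    rw [C.zz_eq]
    exact mul_mem (pow_mem (C.zp_le hz (mem_zpowers z)) _) (pow_mem hH _) : zz z y i ∈ HH P κ z)) (P.mem _ (C.ty z hz))
  refine ⟨h1, ?_⟩
  have h2 := C.zp_le (C.zz_ne hz hy i) (mem_zpowers _)
  have h3 : bb i = 1 := by
    revert h0
    fin_cases i <;> simp [bb]
  conv at h2 => rhs; rw [C.zz_eq, h3, pow_one]
  exact (mul_mem_cancel_left (pow_mem h1 _)).1 h2

theorem zz_mem (i j : Fin 4) : zz z y j ∈ HH P κ (zz z y i) := by
  rw [C.zz_eq j]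
  exact mul_mem (pow_mem (C.base_mem hz hy hH i).1 _) (pow_mem (C.base_mem hz hy hH i).2 _)

theorem cm {i j : Fin 4} (h : i ≠ j) : P.S (κ (zz z y j)) ≤ Ce (P.S (κ (zz z y i))) :=
  P.two _ _ (C.pl (C.zz_ne hz hy i) (C.zz_notMem hz hy h)) (C.zz_mem hz hy hH i j)

theorem mem_B {x : Y} (h : ∀ i, x ∈ Ce (P.S (κ (zz z y i)))) : ∃ i j : ℕ, x = κ (z ^ i * y ^ j) := by
  obtain ⟨i, j, e⟩ := C.four _ _ (C.pl hz hy) hH x (h 0) (h 1) (by rw [← map_mul]; exact h 2)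
    (by rw [← map_inv, ← map_mul]; exact h 3)
  exact ⟨i, j, by rw [e, map_mul, map_pow, map_pow]⟩

/-- the components of an element of the centralizer of the plane -/
theorem dec4 {x : Y} (h1 : x * κ z = κ z * x) (h2 : x * κ y = κ y * x) : ∃ s : Fin 4 → Y,
    (∀ i, s i ∈ P.S (κ (zz z y i)) ∧ x * (s i)⁻¹ ∈ Ce (P.S (κ (zz z y i)))) ∧
      ∃ i j : ℕ, x = κ (z ^ i * y ^ j) * (s 0 * s 1 * s 2 * s 3) := by
  have h3 : ∀ i, ∃ s ∈ P.S (κ (zz z y i)), x * s⁻¹ ∈ Ce (P.S (κ (zz z y i))) := fun i => by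
    obtain ⟨a, ha, s, hs, e⟩ := P.dec _ (C.ty _ (C.zz_ne hz hy i)) x (by
      rw [C.zz_eq, map_mul, map_pow, map_pow]
      exact (Commute.pow_right h1 _).mul_right (Commute.pow_right h2 _))
    exact ⟨s, hs, by rwa [e, mul_inv_cancel_right]⟩
  choose s h4 h5 using h3
  have h6 : ∀ i j, i ≠ j → s j ∈ Ce (P.S (κ (zz z y i))) := fun i j h => C.cm hz hy hH h (h4 j)
  have h7 : ∀ (i : Fin 4) (e : Y), e ∈ Ce (P.S (κ (zz z y i))) → s 0 * s 1 * s 2 * s 3 = e * s i →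
      x * (s 0 * s 1 * s 2 * s 3)⁻¹ ∈ Ce (P.S (κ (zz z y i))) := fun i e he h => by
    rw [h, mul_inv_rev, ← mul_assoc]
    exact mul_mem (h5 i) (inv_mem he)
  obtain ⟨i, j, e⟩ := C.mem_B hz hy hH (x := x * (s 0 * s 1 * s 2 * s 3)⁻¹) fun i => by
    fin_cases i
    · have h8 := mul_mem (mul_mem (h6 0 1 (by decide)) (h6 0 2 (by decide))) (h6 0 3 (by decide))
      exact h7 0 _ h8 (by rw [← h8 _ (h4 0), mul_assoc, mul_assoc, mul_assoc])
    · have h8 := mul_mem (h6 1 2 (by decide)) (h6 1 3 (by decide))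
      exact h7 1 _ (mul_mem (h6 1 0 (by decide)) h8) (by rw [mul_assoc (s 0) _ (s 1), ← h8 _ (h4 1), mul_assoc, mul_assoc])
    · exact h7 2 _ (mul_mem (mul_mem (h6 2 0 (by decide)) (h6 2 1 (by decide))) (h6 2 3 (by decide)))
        (by rw [mul_assoc _ (s 3), ← h6 2 3 (by decide) _ (h4 2), mul_assoc _ (s 2)])
    · exact h7 3 _ (mul_mem (mul_mem (h6 3 0 (by decide)) (h6 3 1 (by decide))) (h6 3 2 (by decide))) rfl
  exact ⟨s, fun i => ⟨h4 i, h5 i⟩, i, j, mul_inv_eq_iff_eq_mul.1 e⟩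

/-- the tetracode -/
theorem wt (d : V) : ∃ k : Fin 4 → ℕ, (3 ∣ k 0 + k 2 + 2 * k 3 ∧ 3 ∣ k 1 + k 2 + k 3) ∧
    ∀ i, d ∈ HH P κ (zz z y i) ↔ 3 ∣ k i := by
  obtain ⟨s, h1, i, j, e⟩ := C.dec4 hz hy hH (x := κ d) (by rw [← map_mul, ← map_mul, mul_comm])
    (by rw [← map_mul, ← map_mul, mul_comm])
  have h2 := fun i => C.ls1 _ (C.zz_ne hz hy i) d _ (h1 i).2 _ (h1 i).1 (inv_mul_cancel_right _ _).symm
  have h3 : ∀ i, ∃ k : ℕ, Φ (s i) = κ (zz z y i ^ k) * s i := fun i => by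
    have h4 := (h2 i).1
    rw [← MonoidHom.map_zpowers] at h4
    obtain ⟨v, hv, h5⟩ := h4
    obtain ⟨k, rfl⟩ := mem_powers_iff_mem_zpowers.2 hv
    exact ⟨k, mul_inv_eq_iff_eq_mul.1 h5.symm⟩
  choose k hk using h3
  have h4 : ∀ i j, s i * κ (zz z y j ^ k j) = κ (zz z y j ^ k j) * s i := fun i j =>
    pow_mem (C.zz_mem hz hy hH i j) (k j) _ (h1 i).1
  refine ⟨k, C.indep hz hy (C.inj ?_), fun i => ⟨fun h => ?_, fun h => (h2 i).2 ?_⟩⟩
  · have h5 := C.fix d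
    rw [e, map_mul Φ, C.fix, mul_right_inj, map_mul Φ, map_mul Φ, map_mul Φ, hk, hk, hk, hk] at h5
    have h6 : z ^ (k 0 + k 2 + 2 * k 3) * y ^ (k 1 + k 2 + k 3) =
        zz z y 0 ^ k 0 * zz z y 1 ^ k 1 * zz z y 2 ^ k 2 * zz z y 3 ^ k 3 := by
      simp only [C.zz_eq, aa, bb, Matrix.cons_val, mul_pow, ← pow_mul, pow_add, pow_zero, pow_one, mul_one,
        one_mul]
      simp only [mul_assoc, mul_left_comm]
    rw [h6, map_mul, map_mul, map_mul, map_one]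
    refine mul_right_cancel (b := s 0 * s 1 * s 2 * s 3) ?_
    rw [one_mul]
    conv_rhs => rw [← h5]
    have h7 : ∀ i j x, s i * (κ (zz z y j ^ k j) * x) = κ (zz z y j ^ k j) * (s i * x) := fun i j x => by
      rw [← mul_assoc, h4, mul_assoc]
    simp only [mul_assoc, h7]
  · have h5 : s i ∈ Ce (P.S (κ (zz z y i))) := by
      have h6 := mul_mem (inv_mem (h1 i).2) h
      rwa [mul_inv_rev, inv_inv, inv_mul_cancel_right] at h6
    obtain ⟨n, hn⟩ := P.int _ (C.ty _ (C.zz_ne hz hy i)) _ (h1 i).1 h5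
    have h6 := hk i
    rw [← hn, map_zpow, C.fix, right_eq_mul, map_eq_one_iff _ C.inj, ← orderOf_dvd_iff_pow_eq_one,
      C.ord (C.zz_ne hz hy i)] at h6
    exact h6
  · obtain ⟨n, hn⟩ := h
    rw [hk, hn, pow_mul, C.p3, one_pow, map_one, one_mul]

theorem card : Nat.card V = 81 := by
  let K := HH P κ (zz z y 0) ⊓ HH P κ (zz z y 1)
  have h1 : ∀ i, K ≤ HH P κ (zz z y i) := fun i d hd => by
    obtain ⟨k, k1, k2⟩ := C.wt hz hy hH d
    have h2 := (k2 0).1 hd.1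
    have h3 := (k2 1).1 hd.2
    rw [k2]
    fin_cases i
    exacts [h2, h3, show 3 ∣ k 2 by omega, show 3 ∣ k 3 by omega]
  have hzK : z ∈ K := ⟨(C.base_mem hz hy hH 0).1, (C.base_mem hz hy hH 1).1⟩
  have hyK : y ∈ K := ⟨(C.base_mem hz hy hH 0).2, (C.base_mem hz hy hH 1).2⟩
  have h2 : Nat.card K ≤ 9 := by
    refine (Nat.card_le_card_of_surjective (α := Fin 3 × Fin 3) (fun x => ⟨z ^ x.1.1 * y ^ x.2.1,
      mul_mem (pow_mem hzK _) (pow_mem hyK _)⟩) fun d => ?_).trans (by simp)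
    obtain ⟨i, j, e⟩ := C.mem_B hz hy hH (x := κ d) fun i => h1 i d.2
    refine ⟨(⟨i % 3, Nat.mod_lt _ three_pos⟩, ⟨j % 3, Nat.mod_lt _ three_pos⟩), Subtype.ext ?_⟩
    rw [C.inj e, pow_eq_pow_mod i (C.p3 z), pow_eq_pow_mod j (C.p3 y)]
  have h3 : 3 < Nat.card K := not_le.1 fun e => hy
    ((eq_of_le_of_card_ge (zpowers_le.2 hzK) (by rwa [Nat.card_zpowers, C.ord hz])).ge hyK)
  have := Fact.mk Nat.prime_three
  obtain ⟨n, hn⟩ := IsPGroup.iff_card.1 (show IsPGroup 3 V from fun v => ⟨1, C.p3 v⟩)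
  obtain ⟨a, -, ha⟩ := (Nat.dvd_prime_pow Nat.prime_three).1 (hn ▸ card_subgroup_dvd_card K)
  obtain ⟨c, -, hc⟩ := (Nat.dvd_prime_pow Nat.prime_three).1 (hn ▸ K.index_dvd_card)
  have h4 : a = 2 := by
    rw [ha] at h2 h3
    have h5 := (Nat.pow_lt_pow_iff_right (a := 3) (n := 1) (by norm_num)).1 h3
    have h6 := (Nat.pow_le_pow_iff_right (a := 3) (m := 2) (by norm_num)).1 h2
    omega
  have h5 : K.index ≤ 3 ^ 2 := by
    have h6 := index_inf_le (H := HH P κ (zz z y 0)) (K := HH P κ (zz z y 1))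
    rwa [C.index (C.zz_ne hz hy 0), C.index (C.zz_ne hz hy 1)] at h6
  have h6 : ¬ K.index ≤ 3 ^ 1 := fun h7 => by
    have h8 : ∀ i, HH P κ (zz z y i) ≤ HH P κ (zz z y 0) := fun i => by
      have h9 := relIndex_mul_index (h1 i)
      rw [C.index (C.zz_ne hz hy i)] at h9
      have h10 : K.index ≠ 0 := index_ne_zero_of_finite
      have h11 : K.relIndex (HH P κ (zz z y i)) = 1 := by
        rw [← h9] at h7 h10
        omega
      exact (relIndex_eq_one.1 h11).trans inf_le_left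
    obtain ⟨d, hd⟩ := C.non _ (C.zz_ne hz hy 0)
    obtain ⟨k, k1, k2⟩ := C.wt hz hy hH d
    have h9 : ∀ i, k i % 3 = 1 ∨ k i % 3 = 2 := fun i => by
      have : ¬ 3 ∣ k i := fun h => hd (h8 i ((k2 i).2 h))
      omega
    rcases h9 0 with _ | _ <;> rcases h9 1 with _ | _ <;> rcases h9 2 with _ | _ <;> rcases h9 3 with _ | _ <;> omega
  rw [hc, Nat.pow_le_pow_iff_right (by norm_num)] at h5 h6
  rw [← K.card_mul_index, ha, hc, h4, show c = 2 by omega]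
  norm_num

/-- **the torus** -/
theorem exists_tor (h0 : Tor P P.T) : ∃ T, Tor P T ∧ κ.range ≤ T ∧ (∀ u ∈ Ce κ.range, ¬ 3 ∣ orderOf u → u ∈ T) ∧
    P.S (κ z) ⊓ Ce κ.range ≤ T := by
  classical
  choose w hw using fun i => C.non _ (C.zz_ne hz hy i)
  have hp : ∀ i, Pl P.Ty (κ (zz z y i)) (κ (w i)) := fun i =>
    C.pl (C.zz_ne hz hy i) fun e => hw i (C.zp_le (C.zz_ne hz hy i) e)
  have h1 : ∀ J : Finset (Fin 4), ∃ T, Tor P T ∧ (κ z ∈ T ∧ κ y ∈ T) ∧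
      ∀ i ∈ J, P.S (κ (zz z y i)) ⊓ Cu (κ (w i)) ≤ T := fun J => by
    induction J using Finset.induction_on with
    | empty =>
      obtain ⟨g, hg⟩ := P.tp1 (κ z) (P.ty3 _ (C.ty z hz))
      obtain ⟨k, k1, k2⟩ := (h0.map g⁻¹).tp2 (κ z) (by change g⁻¹ * κ z * g⁻¹⁻¹ ∈ P.T; rwa [inv_inv]) (P.ty3 _ (C.ty z hz)) (κ y)
        (by rw [← map_pow, C.p3, map_one]) (C.pl hz hy).comm
      refine ⟨_, (h0.map g⁻¹).map k⁻¹, ⟨?_, ?_⟩, fun i hi => absurd hi (Finset.notMem_empty i)⟩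
      · change g⁻¹ * (k⁻¹ * κ z * k⁻¹⁻¹) * g⁻¹⁻¹ ∈ P.T
        rwa [inv_inv, inv_inv, mul_assoc k⁻¹, ← k1, inv_mul_cancel_left]
      · rw [← inv_inv k] at k2
        conv at k2 => rhs; lhs; lhs; rw [inv_inv]
        exact k2
    | insert i J hi ih =>
      obtain ⟨T, t1, t2, t3⟩ := ih
      obtain ⟨T', t4, t5, t6⟩ := t1.step (hp i) (hw i) (by
        rw [C.zz_eq, map_mul, map_pow, map_pow]
        exact mul_mem (pow_mem t2.1 _) (pow_mem t2.2 _))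
      refine ⟨T', t4, ⟨t6 ⟨t2.1, (C.base_mem hz hy hH i).1⟩, t6 ⟨t2.2, (C.base_mem hz hy hH i).2⟩⟩, fun j hj => ?_⟩
      rcases Finset.mem_insert.1 hj with rfl | hj
      · exact t5
      · exact fun t ht => t6 ⟨t3 j hj ht, C.cm hz hy hH (fun e : i = j => hi (e ▸ hj)) ht.1⟩
  obtain ⟨T, t1, t2, t3⟩ := h1 Finset.univ
  have key : ∀ x : Y, x * κ z = κ z * x → x * κ y = κ y * x → (∀ i, ∀ s ∈ P.S (κ (zz z y i)),
      x * s⁻¹ ∈ Ce (P.S (κ (zz z y i))) → s * κ (w i) = κ (w i) * s) → x ∈ T := fun x x1 x2 x3 => by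
    obtain ⟨s, s1, i, j, e⟩ := C.dec4 hz hy hH x1 x2
    have s2 : ∀ i, s i ∈ T := fun i =>
      t3 i (Finset.mem_univ i) ⟨(s1 i).1, mem_centralizer_singleton_iff.2 (x3 i _ (s1 i).1 (s1 i).2)⟩
    rw [e, map_mul, map_pow, map_pow]
    exact mul_mem (mul_mem (pow_mem t2.1 _) (pow_mem t2.2 _)) (mul_mem (mul_mem (mul_mem (s2 0) (s2 1)) (s2 2)) (s2 3))
  refine ⟨T, t1, ?_, fun u hu h3 => ?_, fun t ht => t3 0 (Finset.mem_univ _)
    ⟨ht.1, mem_centralizer_singleton_iff.2 (ht.2 _ ⟨_, rfl⟩).symm⟩⟩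
  · rintro _ ⟨d, rfl⟩
    refine key _ (by rw [← map_mul, ← map_mul, mul_comm]) (by rw [← map_mul, ← map_mul, mul_comm]) fun i s s1 s2 => ?_
    rcases C.ls2 _ (C.zz_ne hz hy i) d (w i) with h | ⟨j, h⟩
    · have h5 := mul_mem (inv_mem s2) h
      rw [mul_inv_rev, inv_inv, inv_mul_cancel_right] at h5
      obtain ⟨n, rfl⟩ := P.int _ (hp i).t1 _ s1 h5
      exact Commute.zpow_left (hp i).comm.symm n
    · have h5 : Commute s (κ d) := by
        rw [← inv_mul_cancel_right (κ d) s]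
        exact Commute.mul_right (s2 s s1) (Commute.refl s)
      rw [← mul_inv_cancel_right (w i) (d ^ j), map_mul, map_inv, map_pow]
      exact Commute.mul_right (h s s1) (h5.pow_right j).inv_right
  · refine key u (hu _ ⟨z, rfl⟩).symm (hu _ ⟨y, rfl⟩).symm fun i s s1 s2 => ?_
    obtain ⟨m, R⟩ := P.reg _ _ (hp i) (hw i)
    have u1 := (hu _ ⟨zz z y i, rfl⟩).symm
    have u2 := (hu _ ⟨w i, rfl⟩).symm
    obtain ⟨j, hj⟩ := R.act u u1 u2
    have u3 : ∀ t ∈ P.S (κ (zz z y i)) ⊓ Cu (κ (w i)), u * t * u⁻¹ ∈ P.S (κ (zz z y i)) ⊓ Cu (κ (w i)) := fun t ht =>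
      mem_inf.2 ⟨by simpa only [u1, mul_inv_cancel_right] using P.Sc _ (hp i).t1 t ht.1 u, mul_mem (mul_mem
        (mem_centralizer_singleton_iff.2 u2) (mem_inf.1 ht).2) (inv_mem (mem_centralizer_singleton_iff.2 u2))⟩
    have u4 : m ^ 3 ∈ T := by
      refine t3 i (Finset.mem_univ i) ⟨pow_mem R.mem 3, mem_centralizer_singleton_iff.2 (mul_inv_eq_iff_eq_mul.1 ?_)⟩
      have k1 : ∀ e : Y, m * e = e * m → e ^ 3 = 1 → m * κ (w i) * m⁻¹ = κ (w i) * e →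
          m ^ 3 * κ (w i) * (m ^ 3)⁻¹ = κ (w i) := fun e e1 e2 e3 => by
        have e4 : ∀ n : ℕ, m ^ n * κ (w i) * (m ^ n)⁻¹ = κ (w i) * e ^ n := fun n => by
          induction n with
          | zero => simp
          | succ n ih =>
            calc m ^ (n + 1) * κ (w i) * (m ^ (n + 1))⁻¹ = m ^ n * (m * κ (w i) * m⁻¹) * (m ^ n)⁻¹ := by group
              _ = m ^ n * κ (w i) * (m ^ n)⁻¹ * (m ^ n * e * (m ^ n)⁻¹) := by rw [e3]; group
              _ = _ := by rw [ih, (Commute.pow_left e1 n).eq, mul_inv_cancel_right, pow_succ, mul_assoc]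
        rw [e4, e2, mul_one]
      have k2 : Commute m (κ (zz z y i)) := P.cen _ (hp i).t1 m R.mem
      rcases R.mv with h | h
      · exact k1 _ k2 (P.ty3 _ (hp i).t1) h
      · exact k1 _ k2.inv_right (by rw [inv_pow, P.ty3 _ (hp i).t1, inv_one]) h
    obtain ⟨e, he⟩ := exists_pow_eq_self_of_coprime ((Nat.Prime.coprime_iff_not_dvd Nat.prime_three).2 h3)
    refine R.self s s1 fun t ht => ?_
    have u5 : Commute (u ^ 3) t := by
      have k1 : u ^ 3 * t * (u ^ 3)⁻¹ = u * (u * (u * t * u⁻¹) * u⁻¹) * u⁻¹ := by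
        simp only [pow_three, mul_inv_rev, mul_assoc]
      rw [hj _ (u3 _ (u3 t ht)), hj _ (u3 t ht), hj t ht] at k1
      have k2 : Commute ((m ^ 3) ^ j) t := Commute.pow_left (t1.comm _ u4 _ (t3 i (Finset.mem_univ i) ht)) j
      refine mul_inv_eq_iff_eq_mul.1 (k1.trans (Eq.trans ?_ (mul_inv_eq_iff_eq_mul.2 k2.eq)))
      simp only [← pow_mul, mul_comm 3 j]
      simp only [pow_mul, pow_three, mul_inv_rev, mul_assoc]
    have u6 := u5.pow_left e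
    rw [he] at u6
    rw [show s = (u * s⁻¹)⁻¹ * u by group]
    exact (Commute.inv_left (s2 t ht.1).symm).mul_left u6

end Cfg

end Cfsg.Agent.TO.T3.No
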