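import Cfsg.Agent.TO.T3.Iface
import Cfsg.Agent.TO.X.Conn
import Cfsg.Agent.TO.E6.Tool
import Cfsg.Agent.TO.X11.Fr
import Cfsg.Agent.TO.X11.Lin

/-!
# S4817, `p = 3`: the torus fields of the package, for any datum of the whole group (helper4)
-/

set_option autoImplicit false
set_option linter.unusedSectionVars false

namespace Cfsg.Agent.TO.T3.Tor

open Cfsg Subgroup Matrix Cfsg.Agent.DL Cfsg.Agent.TO.X11 Cfsg.Agent.Nodes.Reps Cfsg.Agent.Nodes.BNOf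

variable {r : ℕ} [Fact r.Prime] {k : Type} [Field k] [CharP k r] {Y : Type} [Group Y] {N : Type} [Fintype N]
  [DecidableEq N] {ρ : Y →* GL N k} {F : MulAut Y} [IsAlgClosed k] (D : Datum r ρ F ⊤)

theorem tcomm : ∀ s ∈ D.T, ∀ t ∈ D.T, s * t = t * s := fun _ hs _ ht => D.T_comm hs ht

theorem neg (h : ∃ w, D.Wm w = -1) : ∃ n : Y, ∀ t ∈ D.T, n * t * n⁻¹ = t⁻¹ := by
  obtain ⟨w, hw⟩ := h
  obtain ⟨n, hn⟩ := Nodes.Reps.exists_rp D.cs D.nsys w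
  refine ⟨n, fun t ht => ?_⟩
  obtain ⟨c, rfl⟩ := (D.mem_T t).1 ht
  rw [D.conj_τ hn, hw, mon_neg, mon_one, map_inv]

/-- the fields `q3`, `q1`, `frob` -/
theorem frob (h : ∃ w, D.Wm w = -1) (h3 : r ≠ 3) {e : ℕ} (he : 0 < e) (hM : D.Mx = (r : ℤ) ^ e • 1) :
    ∃ q : ℤ, q % 3 = 1 ∧ q ≠ 1 ∧ (q = (r : ℤ) ^ e ∨ q = -(r : ℤ) ^ e) ∧ ∃ n : Y, ∀ t ∈ D.T, F t = n * t ^ q * n⁻¹ := by
  have h1 : ∀ t ∈ D.T, F t = t ^ (r : ℤ) ^ e := fun t ht => by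
    obtain ⟨c, rfl⟩ := (D.mem_T t).1 ht
    rw [D.F_τ, hM, mon_zsmul, mon_one, map_zpow]
  have h2 : 1 < (r : ℤ) ^ e := one_lt_pow₀ (by exact_mod_cast (Fact.out : r.Prime).one_lt) he.ne'
  have h4 : ¬ (3 : ℤ) ∣ (r : ℤ) ^ e := fun h => h3 ((Nat.prime_dvd_prime_iff_eq Nat.prime_three Fact.out).1
    (by exact_mod_cast Int.prime_three.dvd_of_dvd_pow h)).symm
  by_cases h5 : (r : ℤ) ^ e % 3 = 1
  · exact ⟨_, h5, h2.ne', Or.inl rfl, 1, fun t ht => by rw [h1 t ht, one_mul, inv_one, mul_one]⟩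
  · obtain ⟨n, hn⟩ := neg D h
    exact ⟨-(r : ℤ) ^ e, by omega, by omega, Or.inr rfl, n, fun t ht => by
      rw [hn _ (zpow_mem ht _), h1 t ht, _root_.zpow_neg, inv_inv]⟩

/-- semisimple elements are toral -/
theorem toral {z : Y} (h : ¬ r ∣ orderOf z) : ∃ g : Y, g⁻¹ * z * g ∈ D.T := by
  obtain ⟨m, hm, h1⟩ := D.amb.exists_pow_fix fun _ : Unit => z
  obtain ⟨g, _, _, h2⟩ := E6.exists_frame (D.pow hm) (mem_GF.2 ⟨trivial, h1 ()⟩) h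
  exact ⟨g, mem_cj.1 h2⟩

/-- semisimple elements of a connected centraliser are toral in it -/
theorem toral_cen {Z : Set Y} (hZ : Z ⊆ D.T) (hf : Z.Finite) {y : Y} (hy : y ∈ D.cen Z) (h : ¬ r ∣ orderOf y) :
    ∃ g ∈ D.cen Z, g⁻¹ * y * g ∈ D.T := by
  have := hf.to_subtype
  obtain ⟨m, hm, h1⟩ := D.amb.exists_pow_fix fun o : Option Z => o.elim y Subtype.val
  obtain ⟨g, h2, -, h3⟩ := E6.exists_frame_cen (D.pow hm) (Z := Z) hZ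
    (fun z hz => by rw [show (F ^ m) z = z from h1 (some ⟨z, hz⟩)]; exact hz) hy (h1 none) h
  exact ⟨g, h2, h3⟩

theorem not_dvd_ord {p : ℕ} (hp : p.Prime) (h : r ≠ p) {z : Y} (hz : z ^ p = 1) : ¬ r ∣ orderOf z := fun e =>
  h ((Nat.prime_dvd_prime_iff_eq Fact.out hp).1 (e.trans (orderOf_dvd_of_pow_eq_one hz)))

theorem tp1 (h3 : r ≠ 3) : ∀ z : Y, z ^ 3 = 1 → ∃ g : Y, g⁻¹ * z * g ∈ D.T := fun _ h =>
  toral D (not_dvd_ord Nat.prime_three h3 h)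

theorem tp2 (h3 : r ≠ 3) {f : ℕ} (h : X.Cn.Pi1 D f) (hf : Nat.Coprime 3 f) :
    ∀ z ∈ D.T, z ^ 3 = 1 → ∀ y : Y, y ^ 3 = 1 → y * z = z * y → ∃ g : Y, g * z = z * g ∧ g⁻¹ * y * g ∈ D.T := by
  intro z hz h1 y h2 h4
  obtain ⟨g, h5, h6⟩ := toral_cen D (Set.singleton_subset_iff.2 hz) (Set.finite_singleton z)
    (X.Cn.mem_cen h hz h1 hf trivial h4) (not_dvd_ord Nat.prime_three h3 h2)
  exact ⟨g, (D.cen_le_centralizer (Set.singleton_subset_iff.2 hz) h5 z rfl).symm, h6⟩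

theorem x_pow {a : D.I → ℤ} (ha : D.Rt a) (u : k) (n : ℕ) : D.x a u ^ n = D.x a (n * u) := by
  induction n with
  | zero => rw [pow_zero, Nat.cast_zero, zero_mul, D.x_zero ha]
  | succ n ih => rw [pow_succ, ih, ← D.x_add a ha, Nat.cast_succ, add_mul, one_mul]

theorem x_not_mem {a : D.I → ℤ} (ha : D.Rt a) : D.x a 1 ∉ D.T := fun h => by
  obtain ⟨c, hc⟩ := (D.mem_T _).1 h
  have h1 : c ^ r = 1 := D.τ_inj (by rw [map_pow, hc, x_pow D ha, CharP.cast_eq_zero, zero_mul, D.x_zero ha, map_one])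
  have h2 : c = 1 := funext fun i => Units.ext (sub_eq_zero.1 (pow_eq_zero_iff (Fact.out : r.Prime).ne_zero |>.1 (by
    rw [sub_pow_char, ← Units.val_pow_eq_pow_val, show c i ^ r = 1 from congrFun h1 i]
    simp)))
  rw [h2, map_one] at hc
  exact one_ne_zero ((D.x_eq_one_iff ha).1 hc.symm)

/-- no root is trivial on `Z` -/
theorem Sz_empty {p : ℕ} (hp : p.Prime) (h : r ≠ p) {Z : Set Y} (hZ : Z ⊆ D.T)
    (h1 : ∀ u ∈ centralizer Z, ¬ p ∣ orderOf u → u ∈ D.T) : D.Sz Z = ∅ :=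
  Set.eq_empty_of_forall_notMem fun a ha => x_not_mem D ha.1 (h1 _
    (Datum.X_le_centralizer hZ ha ((D.mem_X a ha.1 _).2 ⟨1, rfl⟩)) fun e => h
      ((Nat.prime_dvd_prime_iff_eq hp Fact.out).1 (e.trans (orderOf_dvd_of_pow_eq_one (by
        rw [x_pow D ha.1, CharP.cast_eq_zero, zero_mul, D.x_zero ha.1])))).symm)

theorem tn (h3 : r ≠ 3) : ∀ Z : Subgroup Y, Z ≤ D.T → (∀ u ∈ Ce Z, ¬ 3 ∣ orderOf u → u ∈ D.T) →
    ∀ x : Y, (∀ z ∈ Z, x⁻¹ * z * x ∈ Z) → ∀ t ∈ D.T, x * t * x⁻¹ ∈ D.T ∧ x⁻¹ * t * x ∈ D.T := by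
  intro Z hZ h1 x h2 t ht
  have h4 := E6.mem_NN_of_empty D hZ (Sz_empty D Nat.prime_three h3 hZ h1) trivial fun z hz => hZ (h2 z hz)
  exact ⟨D.conj_mem_T h4 ht, by simpa using D.conj_mem_T (inv_mem h4) ht⟩

theorem exists_zeta {p : ℕ} (hp : p.Prime) (h : r ≠ p) : ∃ ζ : kˣ, IsPrimitiveRoot ζ p := by
  have : NeZero (p : k) := ⟨fun e => h ((Nat.prime_dvd_prime_iff_eq Fact.out hp).1 ((CharP.cast_eq_zero_iff k r p).1 e))⟩
  obtain ⟨ζ, hζ⟩ := HasEnoughRootsOfUnity.exists_primitiveRoot k p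
  exact ⟨_, hζ.isUnit_unit hp.ne_zero⟩

theorem lat' {p : ℕ} (hp : p.Prime) (h : r ≠ p) (s : Y) (h1 : ∀ t ∈ D.T, s * t * s⁻¹ ∈ D.T) (n : ℕ)
    (h2 : s ^ n ∈ Ce D.T) (h3 : ∀ v ∈ D.T, v ^ p = 1 → s * v = v * s → v = 1) :
    ∀ t ∈ D.T, s * t = t * s → t ^ n = 1 := by
  have := Fact.mk hp
  obtain ⟨ζ, hζ⟩ := exists_zeta (k := k) hp h
  obtain ⟨w, hw⟩ := D.mem_NN_of_conj trivial h1
  have h4 : D.WmHom w ^ n = 1 := mon_inj (k := k) fun c => D.τ_inj (by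
    rw [← map_pow, mon_one]
    exact (D.conj_τ (X.Cn.rp_pow D hw n) c).symm.trans (by rw [← h2 _ (D.τ_mem c), mul_inv_cancel_right]))
  have h5 : ∑ i ∈ Finset.range n, D.WmHom w ^ i = 0 := by
    refine int_cancel (p := p) (A := D.WmHom w - 1) (fun v hv => ?_) (by rw [mul_geom_sum, h4, sub_self])
    rw [Matrix.map_sub _ (map_sub _), Matrix.map_one _ (map_zero _) (map_one _), sub_mulVec, one_mulVec,
      sub_eq_zero] at hv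
    refine ev_inj hζ (D.τ_inj ((h3 _ (D.τ_mem _) (by rw [← map_pow, ev_pow hζ, map_one]) ?_).trans (by
      rw [ev_zero hζ, map_one])))
    rw [← mul_inv_eq_iff_eq_mul, D.conj_τ hw, ← ev_mv hζ]
    exact congrArg (fun x => D.τ (ev ζ x)) hv
  intro t ht h6
  obtain ⟨c, rfl⟩ := (D.mem_T t).1 ht
  have h7 : mon (D.WmHom w) c = c := D.τ_inj ((D.conj_τ hw c).symm.trans (by rw [h6, mul_inv_cancel_right]))
  have h8 : ∀ m : ℕ, mon (∑ i ∈ Finset.range m, D.WmHom w ^ i) c = c ^ m := fun m => by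
    induction m with
    | zero => rw [Finset.range_zero, Finset.sum_empty, ← zero_smul ℤ (1 : Matrix D.R D.R ℤ), mon_zsmul, zpow_zero, pow_zero]
    | succ m ih => rw [Finset.sum_range_succ, mon_add, ih, mon_pow, Function.iterate_fixed h7, pow_succ]
  rw [← map_pow, ← h8, h5, ← zero_smul ℤ (1 : Matrix D.R D.R ℤ), mon_zsmul, zpow_zero, map_one]

theorem lat (h3 : r ≠ 3) : ∀ s : Y, (∀ t ∈ D.T, s * t * s⁻¹ ∈ D.T) → ∀ n : ℕ, s ^ n ∈ Ce D.T →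
    (∀ v ∈ D.T, v ^ 3 = 1 → s * v = v * s → v = 1) → ∀ t ∈ D.T, s * t = t * s → t ^ n = 1 :=
  lat' D Nat.prime_three h3

include D in
theorem fin : ∀ y : Y, IsOfFinOrder y := D.amb.isOfFinOrder

theorem fin3 (h3 : r ≠ 3) : {v : Y | v ∈ D.T ∧ v ^ 3 = 1}.Finite := by
  have := Fact.mk Nat.prime_three
  obtain ⟨ζ, hζ⟩ := exists_zeta (k := k) Nat.prime_three h3
  refine (Set.finite_range fun v : D.R → ZMod 3 => D.τ (ev ζ v)).subset fun t ⟨h1, h2⟩ => ?_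
  obtain ⟨c, rfl⟩ := (D.mem_T t).1 h1
  obtain ⟨v, rfl⟩ := exists_ev hζ (c := c) (D.τ_inj (by rw [map_pow, h2, map_one]))
  exact ⟨v, rfl⟩

end Cfsg.Agent.TO.T3.Tor
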