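import Cfsg.Agent.TO.T3.Qf
import Cfsg.Agent.TO.T3.Tor

/-!
# S4817, `p = 3`, `E₇` and `E₈`: the package (helper1)
-/

set_option autoImplicit false
set_option linter.unusedSectionVars false

namespace Cfsg.Agent.TO.T3

open CoxeterSystem Cfsg Cfsg.Lie Cfsg.Lie.ChevalleyDatum Subgroup
open Cfsg.Agent.ChevalleyStructure Cfsg.Agent.ChevalleyStructure.Elts Cfsg.Agent.ChevalleyStructure.CoxeterGeom
  Cfsg.Agent.ChevalleyStructure.CoxeterGeomTypes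
open Cfsg.Agent.Tits.Roots Cfsg.Agent.Nodes Cfsg.Agent.Nodes.RGDChev
open Cfsg.Agent.KFacts.RgdField Cfsg.Agent.KFacts.RgdChevCoord Cfsg.Agent.BpExc Cfsg.Agent.BpExc.Fr
  Cfsg.Agent.BpExc.LangFr
open Cfsg.Agent.H469.Exc Cfsg.Agent.H129.TorusChar Cfsg.Agent.DS.Ex Cfsg.Agent.DS.Nt Cfsg.Agent.H931.KC
open Cfsg.Agent.H605.MX Cfsg.Agent.H81.TorOrth
open Matrix.SpecialLinearGroup (transvection)

variable {D : ChevalleyDatum} {l : ℕ} {M : CoxeterMatrix (Fin l)} (hp : IsType D l M) (r : ℕ) [Fact r.Prime]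

/-- the data -/
structure Cx (i : Fin l) (ρ : Fin 3 → Fin 3 → ℕ) (ψ : Matrix.SpecialLinearGroup (Fin 3) (KK r) →* YY D r) : Prop where
  typ : D = chevE7 ∨ D = chevE8
  jd : ∃ cf, JD hp r 3 i ρ cf ψ
  tb : ∃ j B d ε, Tb D l i j ρ B d ε

variable {hp r}

theorem exists_cx (h3 : r ≠ 3) (typ : D = chevE7 ∨ D = chevE8) {i j : Fin l} {ρ : Fin 3 → Fin 3 → ℕ}
    {cf : List (ℕ × ℤ)} {B : Fin l → Fin l → ℤ} {d ε : ℤ} (T : Tab D 3 i ρ cf) (T' : Tb D l i j ρ B d ε)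
    (hb : TitsThree.KExcRT.RTb D ρ fun _ _ => 1) (hc : TitsThree.KExcRT.RTc D ρ)
    (h : ∀ j < D.rank, 0 ≤ RootVec.rt D (ρ 0 1) j ∧ 0 ≤ RootVec.rt D (ρ 1 2) j) (h4 : ρ 0 1 ≠ ρ 1 2) :
    ∃ ψ, Cx hp r i ρ ψ := by
  obtain ⟨ψ, hψ⟩ := exists_psi3 hp (KK r) (fun _ _ hab => T.lt hab) hb hc fun _ _ hab => T.neg hab
  exact ⟨ψ, typ, ⟨cf, Nat.prime_three, h3.symm, by norm_num, T, hψ, 0, 2, by decide, 2, by norm_num,
    pos_three hp T (fun j => (h j (lt_rank hp j)).1) (fun j => (h j (lt_rank hp j)).2) (funext T'.sum) h4⟩,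
    j, B, d, ε, T'⟩

theorem cx_E7 {M : CoxeterMatrix (Fin 7)} (hp : IsType chevE7 7 M) (h3 : r ≠ 3) :
    ∃ ψ, Cx hp r 2 (rho3 chevE7 93 124) ψ :=
  exists_cx h3 (Or.inl rfl) tab_E7_3 tb_E7 (by decide +kernel) (by decide +kernel) (by decide +kernel)
    (by decide +kernel)

theorem cx_E8 {M : CoxeterMatrix (Fin 8)} (hp : IsType chevE8 8 M) (h3 : r ≠ 3) :
    ∃ ψ, Cx hp r 6 (rho3 chevE8 120 238) ψ :=
  exists_cx h3 (Or.inr rfl) tab_E8_3 tb_E8 (by decide +kernel) (by decide +kernel) (by decide +kernel)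
    (by decide +kernel)

theorem cen_TT (hp : IsType D l M) {s : YY D r} (h : ∀ t ∈ TT D (KK r), t * s = s * t) : s ∈ TT D (KK r) :=
  (DL.Ex.chev (p := r) hp (locFin r) one_pos).centralizer_T.le ⟨trivial, h⟩

theorem conn3 {P : Fin 3 → Fin 3 → Prop} (h1 : ∀ x y, x ≠ y → P x y → P y x)
    (h2 : ∀ x y w, x ≠ y → y ≠ w → x ≠ w → P x y → P y w) {x y : Fin 3} (hxy : x ≠ y) (h : P x y) :
    ∀ a b, a ≠ b → P a b := by
  have a1 := h2 0 1 2 (by decide) (by decide) (by decide)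
  have a2 := h2 1 2 0 (by decide) (by decide) (by decide)
  have a3 := h2 2 0 1 (by decide) (by decide) (by decide)
  have e : ∀ a b : Fin 3, a ≠ b → (a = 0 ∧ b = 1) ∨ (a = 1 ∧ b = 2) ∨ (a = 2 ∧ b = 0) ∨ (a = 1 ∧ b = 0) ∨
      (a = 2 ∧ b = 1) ∨ (a = 0 ∧ b = 2) := by decide
  have a4 : P 0 1 := by
    rcases e x y hxy with ⟨rfl, rfl⟩ | ⟨rfl, rfl⟩ | ⟨rfl, rfl⟩ | ⟨rfl, rfl⟩ | ⟨rfl, rfl⟩ | ⟨rfl, rfl⟩
    exacts [h, a3 (a2 h), a3 h, h1 _ _ hxy h, a3 (a2 (h1 _ _ hxy h)), a3 (h1 _ _ hxy h)]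
  intro a b hab
  rcases e a b hab with ⟨rfl, rfl⟩ | ⟨rfl, rfl⟩ | ⟨rfl, rfl⟩ | ⟨rfl, rfl⟩ | ⟨rfl, rfl⟩ | ⟨rfl, rfl⟩
  exacts [a4, a1 a4, a2 (a1 a4), h1 _ _ hab.symm a4, h1 _ _ hab.symm (a1 a4), h1 _ _ hab.symm (a2 (a1 a4))]

/-- the Frobenius maps preserve the class -/
theorem frob_mem_Om {σ : MulAut (YY D r)} {e : ℕ} (hσ : IsFrob r e σ)
    (F : Fr M.toCoxeterSystem hp.isCartan (TT D (KK r)) (XX D l (KK r)) σ (AddEquiv.refl _)) (h3 : r ≠ 3) {i : Fin l}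
    {z : YY D r} (hz : z ∈ Om hp r 3 i) : σ z ∈ Om hp r 3 i := by
  obtain ⟨g, ζ, hζ, hs⟩ := hz
  have e1 : σ g * σ z * (σ g)⁻¹ = σ (g * z * g⁻¹) := by rw [map_mul, map_mul, map_inv]
  refine ⟨σ g, ζ ^ r ^ e, hζ.pow_of_coprime _ (Nat.Coprime.pow_left _
    ((Nat.coprime_primes Fact.out Nat.prime_three).2 h3)), ?_, fun x => ?_⟩
  · rw [e1]
    exact (F.tor _).2 hs.1
  · have h1 := cX_sigma hp M.toCoxeterSystem hσ F hs.1 x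
    rw [e1, ← zpow_natCast, ← zpow_mul, mul_comm, zpow_mul, zpow_natCast, ← hs.2]
    exact h1

namespace Cx

variable {i : Fin l} {ρ : Fin 3 → Fin 3 → ℕ} {ψ : Matrix.SpecialLinearGroup (Fin 3) (KK r) →* YY D r}
  (C : Cx hp r i ρ ψ)

include C

theorem ne : r ≠ 3 := let ⟨_, J⟩ := C.jd; J.ne.symm

theorem ty : Typ D := C.typ.elim (fun h => Or.inr (Or.inr (Or.inl h))) fun h => Or.inr (Or.inr (Or.inr h))

theorem js : JS hp r 3 i (JJ hp r i ψ) := let ⟨_, J⟩ := C.jd; J.js fun _ h => absurd h (by norm_num)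

theorem tp {z y : YY D r} (hz : z ^ 3 = 1) (hy : y ^ 3 = 1) (h : y * z = z * y) : Tp r z y := by
  obtain ⟨K, h1, -, h2 | ⟨h2, -⟩ | ⟨-, h2, -⟩⟩ := exists_DD hp C.ty Nat.prime_three C.ne.symm hz
  · exact (h1 y h ⟨1, hy⟩).2 (h2 y h)
  · have a := typ_l hp
    rcases C.typ with h3 | h3
    · have := a.2.1 h2; have := a.2.2.1 h3; omega
    · have := a.2.1 h2; have := a.2.2.2 h3; omega
  · omega

theorem pair {z y : YY D r} (hz : z ∈ Om hp r 3 i) (hy : y ^ 3 = 1) (h : y * z = z * y) :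
    ∃ (g : YY D r) (ζ : KK r), IsPrimitiveRoot ζ 3 ∧ Std hp r ζ i (g * z * g⁻¹) ∧ g * y * g⁻¹ ∈ TT D (KK r) :=
  exists_std_pair hz (C.tp (Qf.pow_of_Om hz) hy h)

/-- the roots of the block as differences -/
theorem exists_e : ∃ e : Fin 3 → Fin l → ℤ, ∀ a b, a ≠ b → vec D l (ρ a b) = e a - e b := by
  obtain ⟨cf, J⟩ := C.jd
  obtain ⟨j, B, d, ε, T⟩ := C.tb
  have h3 : vec D l (ρ 0 2) = vec D l (ρ 0 1) + vec D l (ρ 1 2) := funext T.sum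
  have n : ∀ a b, a ≠ b → vec D l (ρ b a) = -vec D l (ρ a b) := fun a b h => by
    rw [J.tab.neg h, vec_neg hp (J.tab.lt h)]
  refine ⟨![vec D l (ρ 0 1) + vec D l (ρ 1 2), vec D l (ρ 1 2), 0], conn_aux n h3⟩
where
  conn_aux {f : Fin 3 → Fin 3 → Fin l → ℤ} (n : ∀ a b, a ≠ b → f b a = -f a b) (h3 : f 0 2 = f 0 1 + f 1 2) :
      ∀ a b, a ≠ b → f a b = ![f 0 1 + f 1 2, f 1 2, 0] a - ![f 0 1 + f 1 2, f 1 2, 0] b := by
    have n1 := n 0 1 (by decide)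
    have n2 := n 1 2 (by decide)
    have n3 := n 0 2 (by decide)
    intro a b hab
    fin_cases a <;> fin_cases b <;> first | exact absurd rfl hab | simp [n1, n2, n3, h3]

/-- the torus acts by diagonal matrices -/
theorem T_inn {t : YY D r} (ht : t ∈ TT D (KK r)) : ∃ d v, SL.Dg d v ∧ JL.Inn ψ t d ∧
    ∀ a b, a ≠ b → v a = cX hp t (vec D l (ρ a b)) * v b := by
  obtain ⟨cf, J⟩ := C.jd
  obtain ⟨e, he⟩ := C.exists_e
  have hm := isMC_cX hp ht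
  have h0 : cX hp t (e 0) * cX hp t (e 1) * cX hp t (e 2) ≠ 0 :=
    mul_ne_zero (mul_ne_zero (hm.ne_zero _) (hm.ne_zero _)) (hm.ne_zero _)
  obtain ⟨μ, hμ⟩ := IsAlgClosed.exists_pow_nat_eq (cX hp t (e 0) * cX hp t (e 1) * cX hp t (e 2))⁻¹ (n := 3) (by norm_num)
  obtain ⟨d, hd⟩ := SL.exists_dg (fun a => μ * cX hp t (e a)) (by
    have h1 := inv_mul_cancel₀ h0
    rw [← hμ] at h1
    linear_combination h1)
  have h1 : ∀ a b, a ≠ b → μ * cX hp t (e a) = cX hp t (vec D l (ρ a b)) * (μ * cX hp t (e b)) := fun a b hab => by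
    rw [he a b hab, hm.sub]
    field_simp [hm.ne_zero (e b)]
  refine ⟨d, _, hd, fun g => ?_, h1⟩
  have := J.nontriv
  refine LieClassical.SLGen.transvection_induction (fun g => t * ψ g * t⁻¹ = ψ (d * g * d⁻¹)) (fun a b hab c => ?_)
    (fun a b ha hb => ?_) g
  · show t * ψ (transvection hab c) * t⁻¹ = ψ (d * transvection hab c * d⁻¹)
    have h2 : d * transvection hab c = transvection hab (cX hp t (vec D l (ρ a b)) * c) * d := by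
      apply Subtype.ext
      show (d : Matrix _ _ _) * (1 + Matrix.single a b c) = (1 + Matrix.single a b (_ * c)) * (d : Matrix _ _ _)
      rw [hd, Matrix.mul_add, Matrix.add_mul, Matrix.mul_one, Matrix.one_mul]
      congr 1
      ext x y
      rw [Matrix.diagonal_mul, Matrix.mul_diagonal, Matrix.single_apply, Matrix.single_apply]
      split_ifs with h
      · obtain ⟨rfl, rfl⟩ := h
        rw [h1 a b hab]
        ring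
      · rw [mul_zero, zero_mul]
    rw [h2, mul_inv_cancel_right, J.tv, J.tv, xs_eq_xc hp (J.tab.lt hab), xs_eq_xc hp (J.tab.lt hab),
      cX_vec hp ht (J.tab.lt hab)]
    exact (act hp (J.tab.lt hab) ht).2 c
  · show t * ψ (a * b) * t⁻¹ = ψ (d * (a * b) * d⁻¹)
    calc t * ψ (a * b) * t⁻¹ = t * ψ a * t⁻¹ * (t * ψ b * t⁻¹) := by rw [map_mul]; group
      _ = ψ (d * a * d⁻¹ * (d * b * d⁻¹)) := by rw [ha, hb, ← map_mul]
      _ = _ := by congr 1; group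

theorem reg_std {ζ : KK r} (hζ : IsPrimitiveRoot ζ 3) {z y : YY D r} (hz : Std hp r ζ i z) (hy : y ∈ TT D (KK r))
    (h1 : y ∈ Om hp r 3 i) (h2 : y * z ∈ Om hp r 3 i) (h3 : y ∉ Ce ψ.range) :
    ∃ d v ω, IsPrimitiveRoot ω 3 ∧ SL.Dg d v ∧ v 0 = ω * v 1 ∧ v 1 = ω * v 2 ∧ JL.Inn ψ y d := by
  obtain ⟨cf, J⟩ := C.jd
  obtain ⟨j, B, d, ε, T⟩ := C.tb
  obtain ⟨d, v, a1, a2, a3⟩ := C.T_inn hy
  have a4 := a3 0 1 (by decide)
  have a5 := a3 1 2 (by decide)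
  rw [← Qf.dich T hζ hz hy h1 h2] at a5
  refine ⟨d, v, _, JL.prim_of Nat.prime_three (by rw [← cX_pow hp hy, Qf.pow_of_Om h1, cX_one]) fun h => h3 ?_,
    a1, a4, a5, a2⟩
  rw [h, one_mul] at a4 a5
  refine (a2.cen_iff (J.inj hζ hz)).2 (SL.Dg.cen (c := v 0) ?_)
  have e : (fun _ => v 0) = v := by
    funext x
    fin_cases x
    exacts [rfl, a4, a4.trans a5]
  rw [e]
  exact a1

omit C in
theorem conj_Om {z y : YY D r} (h : y * z ∈ Om hp r 3 i) (g : YY D r) :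
    g * y * g⁻¹ * (g * z * g⁻¹) ∈ Om hp r 3 i := by
  rw [show g * y * g⁻¹ * (g * z * g⁻¹) = g * (y * z) * g⁻¹ by group]
  exact conj_mem_Om h g

theorem reg {z y : YY D r} (h : Pl (· ∈ Om hp r 3 i) z y) (hn : y ∉ Ce (JJ hp r i ψ z)) :
    ∃ m, Reg (JJ hp r i ψ z) z y m := by
  obtain ⟨cf, J⟩ := C.jd
  obtain ⟨g, ζ, hζ, hs, hy⟩ := C.pair h.t1 (Qf.pow_of_Om h.t2) h.comm
  obtain ⟨d, v, ω, a1, a2, a3, a4, a5⟩ := C.reg_std hζ hs hy (conj_mem_Om h.t2 g) (conj_Om h.t3 g)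
    fun h1 => hn ((J.cen_JJ hζ hs).2 h1)
  rw [J.JJ_eq hζ hs]
  refine ⟨_, SL.reg a1 a2 a3 a4 (J.sd_conj hζ hs) (fun h1 => one_not_mem_Om Nat.prime_three (h1 ▸ h.t1)) fun x => ?_⟩
  show y * (g⁻¹ * ψ x * g⁻¹⁻¹) * y⁻¹ = g⁻¹ * ψ (d * x * d⁻¹) * g⁻¹⁻¹
  rw [← a5]
  group

theorem tor {z y : YY D r} (h : Pl (· ∈ Om hp r 3 i) z y) (hn : y ∉ Ce (JJ hp r i ψ z)) (hz : z ∈ TT D (KK r))
    (hy : y ∈ TT D (KK r)) : JJ hp r i ψ z ⊓ Cu y ≤ TT D (KK r) := by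
  obtain ⟨cf, J⟩ := C.jd
  obtain ⟨w, g, ζ, hg, hζ, hs⟩ := Qf.exists_std hz h.t1
  obtain ⟨d, v, ω, a1, a2, a3, a4, a5⟩ := C.reg_std hζ hs (hg.conj_mem hy) (conj_mem_Om h.t2 g) (conj_Om h.t3 g)
    fun h1 => hn ((J.cen_JJ hζ hs).2 h1)
  rintro s ⟨b1, b2⟩
  obtain ⟨x, u, hx, e⟩ := (SL.mem_iff a1 a2 a3 a4 (J.inj hζ hs) a5 (t := g * s * g⁻¹)).1
    ⟨(J.mem_JJ hζ hs).1 b1, mem_centralizer_singleton_iff.2 (conj_comm (mem_centralizer_singleton_iff.1 b2))⟩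
  rw [← hg.conj_iff, ← e]
  refine cen_TT hp fun t ht => ?_
  obtain ⟨d', v', c1, c2, -⟩ := C.T_inn ht
  exact (c2.comm (c1.comm hx)).symm

theorem three {z b : YY D r} (hz : z ∈ Om hp r 3 i) (hb : b ∈ JJ hp r i ψ z) (h : b ∈ Om hp r 3 i) :
    b ∈ zpowers z := by
  obtain ⟨cf, J⟩ := C.jd
  obtain ⟨j, B, d, ε, T⟩ := C.tb
  obtain ⟨g, ζ, hζ, hs, hy⟩ := C.pair hz (Qf.pow_of_Om h) (C.js.cen z hz b hb)
  obtain ⟨n, hn⟩ := Qf.mem_zpowers T hζ hs hy (conj_mem_Om h g) fun m h1 h2 => by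
    have a1 := isRoot_sr M.toCoxeterSystem hp.isCartan m
    refine cX_eq_one_of_comm hy a1 one_ne_zero (mem_centralizer_iff.1 (J.comm_out a1 ?_ ?_ (xc_mem a1 1)) _
      ((J.mem_JJ hζ hs).1 hb))
    · rw [sr_ne h1.symm]
      exact dvd_zero _
    · rintro ⟨x, y, hxy, e⟩
      exact T.blk x y hxy (by rw [← e, sr_ne h2.symm])
  refine ⟨n, ?_⟩
  have h1 : (g * z * g⁻¹) ^ n = g * b * g⁻¹ := hn
  rw [conj_zpow] at h1
  exact mul_left_cancel (mul_right_cancel h1)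

theorem two {z y : YY D r} (h : Pl (· ∈ Om hp r 3 i) z y) (hc : y ∈ Ce (JJ hp r i ψ z)) :
    JJ hp r i ψ y ≤ Ce (JJ hp r i ψ z) := by
  obtain ⟨cf, J⟩ := C.jd
  obtain ⟨e, he⟩ := C.exists_e
  obtain ⟨g, ζ, hζ, hs, hz⟩ := C.pair h.t2 (Qf.pow_of_Om h.t1) h.comm.symm
  obtain ⟨w, k, ζ', hk, hζ', hs'⟩ := Qf.exists_std hz (conj_mem_Om h.t1 g)
  have e1 : ∀ x : YY D r, k * g * x * (k * g)⁻¹ = k * (g * x * g⁻¹) * k⁻¹ := fun x => by group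
  have hs'' : Std hp r ζ' i (k * g * z * (k * g)⁻¹) := by rw [e1]; exact hs'
  have a1 := (J.cen_JJ hζ' hs'').1 hc
  rw [e1, J.T_cen_iff (hk.conj_mem hs.1)] at a1
  have a2 : ∀ a ∈ SR D l ρ, IsRoot M.toCoxeterSystem hp.isCartan (rep M.toCoxeterSystem hp.isCartan w⁻¹ a) :=
    fun a ha => (hk.inv.fr.root a).2 (J.tab.root hp ha)
  have a3 : ∀ a ∈ SR D l ρ, ((3 : ℕ) : ℤ) ∣ rep M.toCoxeterSystem hp.isCartan w⁻¹ a i := fun a ha => by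
    have h1 := hk.inv.cX (hk.conj_mem hs.1) a
    rw [a1 a ha, show k⁻¹ * (k * (g * y * g⁻¹) * k⁻¹) * k⁻¹⁻¹ = g * y * g⁻¹ by group, hs.2] at h1
    exact (hζ.zpow_eq_one_iff_dvd _).1 h1
  have a4 : ∀ K : Subgroup (YY D r), (∀ a ∈ SR D l ρ, XX D l (KK r) (rep M.toCoxeterSystem hp.isCartan w⁻¹ a) ≤ K) →
      ∀ x ∈ ψ.range, k⁻¹ * x * k ∈ K := fun K hK x hx => by
    have h1 : ψ.range ≤ K.comap (MulAut.conj k⁻¹).toMonoidHom := J.range_le fun a b hab c => by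
      refine hK _ ⟨a, b, hab, rfl⟩ ((hk.inv.fr.map _ (J.tab.root hp ⟨a, b, hab, rfl⟩) _).2 ?_)
      rw [J.tv]
      exact xs_mem hp (J.tab.lt hab) c
    have h2 : k⁻¹ * x * k⁻¹⁻¹ ∈ K := h1 hx
    rwa [inv_inv] at h2
  by_cases h1 : ∀ a ∈ SR D l ρ, rep M.toCoxeterSystem hp.isCartan w⁻¹ a ∉ SR D l ρ
  · intro s hs1
    rw [J.cen_JJ hζ' hs'', e1]
    intro x hx
    have h2 := a4 _ (fun a ha => J.comm_out (a2 a ha) (a3 a ha) (h1 a ha)) x hx _ ((J.mem_JJ hζ hs).1 hs1)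
    calc x * (k * (g * s * g⁻¹) * k⁻¹) = k * (k⁻¹ * x * k * (g * s * g⁻¹)) * k⁻¹ := by group
      _ = _ := by rw [← h2]; group
  exfalso
  push Not at h1
  obtain ⟨_, ⟨x₀, y₀, hxy, rfl⟩, h1⟩ := h1
  have h2 := conn3 (P := fun a b => rep M.toCoxeterSystem hp.isCartan w⁻¹ (vec D l (ρ a b)) ∈ SR D l ρ)
    (fun a b hab ⟨u, v, huv, h2⟩ => ⟨v, u, huv.symm, by
      rw [he b a hab.symm, he v u huv.symm, ← neg_sub (e a), map_neg, ← he a b hab, h2, he u v huv, neg_sub]⟩)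
    (fun a b c hab hbc hac h2 => J.tab.nb hp h2 (a2 _ ⟨b, c, hbc, rfl⟩) (a3 _ ⟨b, c, hbc, rfl⟩) (by
      rw [← map_add, he a b hab, he b c hbc, sub_add_sub_cancel, ← he a c hac]
      exact a2 _ ⟨a, c, hac, rfl⟩)) hxy h1
  have h3 := a4 _ (fun a ⟨u, v, huv, ha⟩ => J.X_le (by rw [ha]; exact h2 u v huv)) _ (J.std_mem hζ' hs')
  rw [show k⁻¹ * (k * (g * z * g⁻¹) * k⁻¹) * k = g * z * g⁻¹ by group, ← J.mem_JJ hζ hs] at h3
  obtain ⟨n, hn⟩ := C.three h.t2 h3 h.t1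
  have h4 : y ^ n = z := hn
  have h5 : y ^ (3 : ℤ) = 1 := by exact_mod_cast Qf.pow_of_Om h.t2
  have n1 : ∀ x : YY D r, x = 1 → x ∉ Om hp r 3 i := fun x hx => hx ▸ one_not_mem_Om Nat.prime_three
  rw [← Int.mul_ediv_add_emod n 3, zpow_add, zpow_mul, h5, one_zpow, one_mul] at h4
  have h6 : n % 3 = 0 ∨ n % 3 = 1 ∨ n % 3 = 2 := by omega
  rcases h6 with h6 | h6 | h6 <;> rw [h6] at h4
  · exact n1 _ (by rw [← h4, zpow_zero]) h.t1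
  · exact n1 _ (by rw [← h4, zpow_one, mul_inv_cancel]) h.t4
  · exact n1 _ (by rw [← h4, ← h5]; group) h.t3

theorem Si {z : YY D r} (hz : z ∈ Om hp r 3 i) : JJ hp r i ψ z⁻¹ = JJ hp r i ψ z := by
  obtain ⟨cf, J⟩ := C.jd
  obtain ⟨g, ζ, hζ, hs⟩ := hz
  have e : g * z⁻¹ * g⁻¹ = (g * z * g⁻¹)⁻¹ := by group
  have h1 : Std hp r ζ⁻¹ i (g * z⁻¹ * g⁻¹) := by
    rw [e]
    refine ⟨inv_mem hs.1, fun x => ?_⟩
    have h2 := cX_mul hp (inv_mem hs.1) hs.1 x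
    rw [inv_mul_cancel, cX_one, hs.2] at h2
    rw [inv_zpow, eq_inv_of_mul_eq_one_left h2.symm]
  rw [J.JJ_eq hζ.inv h1, J.JJ_eq hζ hs]

/-- frame automorphisms -/
theorem map {β : MulAut (YY D r)} {g : (Fin l → ℤ) ≃+ (Fin l → ℤ)}
    (F : Fr M.toCoxeterSystem hp.isCartan (TT D (KK r)) (XX D l (KK r)) β g) {z : YY D r} (hz : z ∈ Om hp r 3 i)
    {s : YY D r} (hs : s ∈ JJ hp r i ψ z) : β s ∈ JJ hp r i ψ (β z) := by
  obtain ⟨cf, J⟩ := C.jd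
  obtain ⟨g₁, ζ, hζ, hz⟩ := hz
  intro g₂ ζ' hζ' hz'
  have e : ∀ u : YY D r, g₂ * (β g₁)⁻¹ * β (g₁ * u * g₁⁻¹) * (g₂ * (β g₁)⁻¹)⁻¹ = g₂ * β u * g₂⁻¹ := by
    intro u
    rw [map_mul, map_mul, map_inv]
    group
  have h1 := J.key (y := g₂ * (β g₁)⁻¹) F hζ hζ' hz (by rw [e]; exact hz') (hs g₁ ζ hζ hz)
  rwa [e] at h1

theorem map_iff {β : MulAut (YY D r)} {g : (Fin l → ℤ) ≃+ (Fin l → ℤ)}
    (F : Fr M.toCoxeterSystem hp.isCartan (TT D (KK r)) (XX D l (KK r)) β g) {z : YY D r} (hz : z ∈ Om hp r 3 i)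
    (hz' : β z ∈ Om hp r 3 i) (s : YY D r) : β s ∈ JJ hp r i ψ (β z) ↔ s ∈ JJ hp r i ψ z :=
  ⟨fun h => by simpa using C.map F.inv hz' h, C.map F hz⟩

omit C in
theorem Sc (z s : YY D r) (hs : s ∈ JJ hp r i ψ z) (g : YY D r) : g * s * g⁻¹ ∈ JJ hp r i ψ (g * z * g⁻¹) := by
  intro c ζ hζ h
  have e : ∀ u : YY D r, c * (g * u * g⁻¹) * c⁻¹ = c * g * u * (c * g)⁻¹ := fun u => by group
  rw [e] at h ⊢
  exact hs _ ζ hζ h

/-- **The package.** -/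
noncomputable def pk {Φ : MulAut (YY D r)} {g : (Fin l → ℤ) ≃+ (Fin l → ℤ)}
    (F : Fr M.toCoxeterSystem hp.isCartan (TT D (KK r)) (XX D l (KK r)) Φ g) (q : ℤ) (q3 : q % 3 = 1) (q1 : q ≠ 1)
    (neg : ∃ n : YY D r, ∀ t ∈ TT D (KK r), n * t * n⁻¹ = t⁻¹)
    (frob : ∃ n : YY D r, ∀ t ∈ TT D (KK r), Φ t = n * t ^ q * n⁻¹) : Pk (YY D r) Φ where
  Ty z := z ∈ Om hp r 3 i
  S := JJ hp r i ψ
  T := TT D (KK r)
  q := q
  q3 := q3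
  q1 := q1
  tcomm := Tor.tcomm (DL.Ex.chev (p := r) hp (locFin r) one_pos)
  neg := neg
  frob := frob
  tp1 z hz := by
    obtain ⟨c, hc⟩ := exists_conj_T hp Nat.prime_three C.ne.symm (n := 1) hz
    exact ⟨c⁻¹, by rwa [inv_inv]⟩
  tp2 z hz h3 y hy h := by
    obtain ⟨c, h1, h2⟩ := exists_pair hp (g := 1) (by rwa [one_mul, inv_one, mul_one]) (C.tp h3 hy h)
    rw [one_mul, inv_one, mul_one] at h1
    exact ⟨c⁻¹, by rw [inv_mul_eq_iff_eq_mul, ← mul_assoc, h1], by rwa [inv_inv]⟩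
  ty3 _ := Qf.pow_of_Om
  ty1 := one_not_mem_Om Nat.prime_three
  tyc _ h c := conj_mem_Om h c
  Sc z _ s hs c := Sc z s hs c
  Si _ := C.Si
  SF z h hz s := by
    have h1 := C.map_iff F h (by rwa [hz]) s
    rwa [hz] at h1
  mem := C.js.mem
  cen z h := mem_centralizer_iff.2 (C.js.cen z h)
  dec z h x hx := by
    obtain ⟨cf, J⟩ := C.jd
    obtain ⟨c, ζ, hζ, hs⟩ := h
    rw [J.JJ_eq hζ hs]
    exact SL.dec_of (J.sd_conj hζ hs) hx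
  int z h x hx hc := by
    obtain ⟨cf, J⟩ := C.jd
    obtain ⟨c, ζ, hζ, hs⟩ := id h
    rw [J.JJ_eq hζ hs] at hx hc
    exact SL.int_of (J.sd_conj hζ hs) (fun h1 => one_not_mem_Om Nat.prime_three (h1 ▸ h)) hx hc
  three _ h _ hb h' := C.three h hb h'
  reg _ _ := C.reg
  tor _ _ := C.tor
  two _ _ := C.two

end Cx

end Cfsg.Agent.TO.T3
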