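import Cfsg.Agent.TO.T3.SL
import Cfsg.Agent.DS.Nt.JThree
import Cfsg.Agent.DS.Nt.Inv

/-!
# S4817, `p = 3`, `E₇` and `E₈`: the quadratic form modulo `3` (helper1)
-/

set_option autoImplicit false
set_option linter.unusedSectionVars false

namespace Cfsg.Agent.TO.T3

open CoxeterSystem Cfsg Cfsg.Lie Cfsg.Lie.ChevalleyDatum
open Cfsg.Agent.ChevalleyStructure Cfsg.Agent.ChevalleyStructure.Elts Cfsg.Agent.ChevalleyStructure.CoxeterGeom
  Cfsg.Agent.ChevalleyStructure.CoxeterGeomTypes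
open Cfsg.Agent.Tits.Roots Cfsg.Agent.Nodes Cfsg.Agent.Nodes.RGDChev
open Cfsg.Agent.KFacts.RgdField Cfsg.Agent.KFacts.RgdChevCoord
open Cfsg.Agent.H469.Exc Cfsg.Agent.H129.TorusChar Cfsg.Agent.DS.Ex Cfsg.Agent.DS.Nt Cfsg.Agent.H931.KC

/-- the tables: `B` is `d` times the inverse of the Cartan matrix, `j` is the simple root of the block -/
structure Tb (D : ChevalleyDatum) (l : ℕ) (i j : Fin l) (ρ : Fin 3 → Fin 3 → ℕ) (B : Fin l → Fin l → ℤ) (d ε : ℤ) :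
    Prop where
  h1 : ∀ a m, ∑ x, cartanOf D l a x * B m x = if m = a then d else 0
  sym : ∀ m x, B m x = B x m
  ii : 3 ∣ B i i
  ij : 3 ∣ B i j
  jj : ¬ 3 ∣ B j j
  eps : ¬ 3 ∣ ε
  dif : ∀ m, 3 ∣ B i m - ε * (vec D l (ρ 0 1) m - vec D l (ρ 1 2) m)
  sum : ∀ m, vec D l (ρ 0 2) m = vec D l (ρ 0 1) m + vec D l (ρ 1 2) m
  blk : ∀ a b, a ≠ b → vec D l (ρ a b) j ≠ 0

namespace Qf

variable {l : ℕ}

/-- the form -/
def Bf (B : Fin l → Fin l → ℤ) (β γ : (Fin l → ℤ) →+ ZMod 3) : ZMod 3 := ∑ m, β (sr m) * γ (B m)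

theorem app (β : (Fin l → ℤ) →+ ZMod 3) (x : Fin l → ℤ) : β x = ∑ m, (x m : ZMod 3) * β (sr m) := by
  conv_lhs => rw [IsMC.eq_sum_sr x, map_sum]
  exact Finset.sum_congr rfl fun m _ => by rw [map_zsmul, zsmul_eq_mul]

theorem app_congr (β : (Fin l → ℤ) →+ ZMod 3) {x y : Fin l → ℤ} (h : ∀ m, (3 : ℤ) ∣ x m - y m) : β x = β y := by
  rw [app β x, app β y]
  refine Finset.sum_congr rfl fun m _ => ?_
  rw [(ZMod.intCast_eq_intCast_iff_dvd_sub (y m) (x m) 3).2 (h m)]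

variable {B : Fin l → Fin l → ℤ}

theorem Bf_comm (h : ∀ m x, B m x = B x m) (β γ : (Fin l → ℤ) →+ ZMod 3) : Bf B β γ = Bf B γ β := by
  unfold Bf
  simp only [fun m => app γ (B m), fun m => app β (B m), Finset.mul_sum]
  rw [Finset.sum_comm]
  exact Finset.sum_congr rfl fun m _ => Finset.sum_congr rfl fun x _ => by rw [h x m]; ring

theorem Bf_add (h : ∀ m x, B m x = B x m) (β γ : (Fin l → ℤ) →+ ZMod 3) :
    Bf B (β + γ) (β + γ) = Bf B β β + 2 * Bf B γ β + Bf B γ γ := by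
  rw [two_mul]
  nth_rw 1 [Bf_comm h γ β]
  simp only [Bf, AddMonoidHom.add_apply, add_mul, mul_add, Finset.sum_add_distrib]
  ring

/-- reduction modulo `3` -/
def cst (b : (Fin l → ℤ) →+ ℤ) : (Fin l → ℤ) →+ ZMod 3 := (Int.castAddHom (ZMod 3)).comp b

theorem cst_apply (b : (Fin l → ℤ) →+ ℤ) (x : Fin l → ℤ) : cst b x = (b x : ZMod 3) := rfl

/-- the coordinate `i` -/
def pr (i : Fin l) : (Fin l → ℤ) →+ ℤ := Pi.evalAddMonoidHom (fun _ => ℤ) i

theorem Bf_pr (i : Fin l) (γ : (Fin l → ℤ) →+ ZMod 3) : Bf B (cst (pr i)) γ = γ (B i) := by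
  unfold Bf
  rw [Finset.sum_eq_single i (fun m _ hm => ?_) (fun h => (h (Finset.mem_univ _)).elim)]
  · rw [cst_apply, show pr i (sr i) = 1 from sr_self i, Int.cast_one, one_mul]
  · rw [cst_apply, show pr i (sr m) = 0 from sr_ne hm.symm, Int.cast_zero, zero_mul]

variable {D : ChevalleyDatum} {M : CoxeterMatrix (Fin l)} {hp : IsType D l M} {i j : Fin l} {ρ : Fin 3 → Fin 3 → ℕ}
  {d ε : ℤ}

theorem Bf_rep (T : Tb D l i j ρ B d ε) (w : M.Group) : ∀ β γ : (Fin l → ℤ) →+ ZMod 3,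
    (∀ x, γ x = β (rep M.toCoxeterSystem hp.isCartan w x)) → Bf B γ γ = Bf B β β := by
  refine M.toCoxeterSystem.simple_induction_left (p := fun w => ∀ β γ : (Fin l → ℤ) →+ ZMod 3,
    (∀ x, γ x = β (rep M.toCoxeterSystem hp.isCartan w x)) → Bf B γ γ = Bf B β β) w (fun β γ h => ?_)
    fun w a ih β γ h => ?_
  · rw [show γ = β from AddMonoidHom.ext fun x => by rw [h, map_one, Module.End.one_apply]]
  · rw [ih (β.comp (rep M.toCoxeterSystem hp.isCartan (M.toCoxeterSystem.simple a)).toAddMonoidHom) γ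
      fun x => by rw [h, rep_mul_apply]; rfl]
    have h1 : ∀ x, (β.comp (rep M.toCoxeterSystem hp.isCartan (M.toCoxeterSystem.simple a)).toAddMonoidHom) x =
        β x - (pairing (cartanOf D l) a x : ZMod 3) * β (sr a) := fun x => by
      show β (rep M.toCoxeterSystem hp.isCartan (M.toCoxeterSystem.simple a) x) = _
      rw [rep_simple_eq, map_sub, map_zsmul, zsmul_eq_mul]
    have h2 : ∀ m, (pairing (cartanOf D l) a (B m) : ZMod 3) = if m = a then (d : ZMod 3) else 0 := fun m => by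
      rw [pairing, T.h1]
      split_ifs <;> simp
    have h3 : ∑ m, (cartanOf D l a m : ZMod 3) * β (B m) = d * β (sr a) := by
      simp only [fun m => app β (B m), Finset.mul_sum]
      rw [Finset.sum_comm]
      have h4 : ∀ x, ∑ m, (cartanOf D l a m : ZMod 3) * ((B m x : ZMod 3) * β (sr x)) =
          (if x = a then (d : ZMod 3) else 0) * β (sr x) := fun x => by
        rw [← h2 x, pairing, Int.cast_sum, Finset.sum_mul]
        exact Finset.sum_congr rfl fun m _ => by rw [T.sym m x, Int.cast_mul, mul_assoc]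
      simp [h4]
    have h5 : (cartanOf D l a a : ZMod 3) = 2 := by rw [hp.isCartan.diag]; rfl
    unfold Bf
    simp only [h1, h2, ZFam.pairing_sr', sub_mul, mul_sub, Finset.sum_sub_distrib, mul_ite, ite_mul, mul_zero, zero_mul,
      Finset.sum_ite_eq', Finset.mem_univ, if_true]
    have h6 : ∑ m, (cartanOf D l a m : ZMod 3) * β (sr a) * β (B m) = β (sr a) * (d * β (sr a)) := by
      rw [← h3, Finset.mul_sum]
      exact Finset.sum_congr rfl fun m _ => by ring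
    rw [h6, h5]
    ring

variable {r : ℕ} [Fact r.Prime]

/-- an element of the class which lies in the torus is conjugate to the standard element under the Weyl group -/
theorem exists_std {n : ℕ} {t : YY D r} (ht : t ∈ TT D (KK r)) (h : t ∈ Om hp r n i) :
    ∃ w k ζ, RP hp r w k ∧ IsPrimitiveRoot ζ n ∧ Std hp r ζ i (k * t * k⁻¹) := by
  obtain ⟨g, ζ, hζ, hs⟩ := h
  obtain ⟨-, -, w, k, hk, h1, -⟩ := form₂ hp (ι := Unit) (s := fun _ => t) (t := fun _ => g * t * g⁻¹) (fun _ => ht)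
    (fun _ => hs.1) (c := g) fun _ => by group
  exact ⟨w, k, ζ, hk, hζ, by rw [h1 (), mul_inv_cancel_right]; exact hs⟩

/-- **the elements of the class are singular** -/
theorem sing (T : Tb D l i j ρ B d ε) {t : YY D r} (ht : t ∈ TT D (KK r)) (h : t ∈ Om hp r 3 i) {ζ : KK r}
    (hζ : IsPrimitiveRoot ζ 3) {b : (Fin l → ℤ) →+ ℤ} (hb : ∀ x, cX hp t x = ζ ^ b x) : Bf B (cst b) (cst b) = 0 := by
  obtain ⟨w, k, ζ', hk, hζ', hs⟩ := exists_std ht h
  obtain ⟨n, -, rfl⟩ := hζ.eq_pow_of_pow_eq_one hζ'.pow_eq_one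
  have h0 := hζ.ne_zero (by norm_num)
  rw [Bf_rep (hp := hp) T w (n • cst (pr i)) (cst b) fun x => ?_]
  · have h1 : Bf B (n • cst (pr i)) (n • cst (pr i)) = n * n * Bf B (cst (pr i)) (cst (pr i)) := by
      simp only [Bf, AddMonoidHom.nsmul_apply, nsmul_eq_mul, Finset.mul_sum]
      exact Finset.sum_congr rfl fun m _ => by ring
    rw [h1, Bf_pr, cst_apply, show pr i (B i) = B i i from rfl, (ZMod.intCast_zmod_eq_zero_iff_dvd _ 3).2 T.ii, mul_zero]
  · have h1 := hk.cX ht x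
    rw [hs.2, hb, ← zpow_natCast, ← zpow_mul, ← div_eq_one_iff_eq (zpow_ne_zero _ h0), ← zpow_sub₀ h0,
      hζ.zpow_eq_one_iff_dvd] at h1
    rw [cst_apply, (ZMod.intCast_eq_intCast_iff_dvd_sub _ _ 3).2 h1, AddMonoidHom.nsmul_apply, nsmul_eq_mul, Int.cast_mul,
      Int.cast_natCast]
    rfl

theorem pow_of_Om {n : ℕ} {t : YY D r} (h : t ∈ Om hp r n i) : t ^ n = 1 := by
  obtain ⟨g, ζ, hζ, hs⟩ := h
  have h1 := hs.pow_eq hζ
  rwa [conj_pow, mul_inv_eq_iff_eq_mul, one_mul, mul_eq_left] at h1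

/-- **the dichotomy** -/
theorem dich (T : Tb D l i j ρ B d ε) {ζ : KK r} (hζ : IsPrimitiveRoot ζ 3) {z y : YY D r} (hz : Std hp r ζ i z)
    (hy : y ∈ TT D (KK r)) (h1 : y ∈ Om hp r 3 i) (h2 : y * z ∈ Om hp r 3 i) :
    cX hp y (vec D l (ρ 0 1)) = cX hp y (vec D l (ρ 1 2)) := by
  obtain ⟨b, hb⟩ := exists_exp hp (by norm_num) hζ hy (pow_of_Om h1)
  have h3 := sing T hy h1 hζ hb
  have h4 := sing T (mul_mem hy hz.1) h2 hζ (b := b + pr i) fun x => by
    rw [cX_mul hp hy hz.1, hb, hz.2, AddMonoidHom.add_apply, zpow_add₀ (hζ.ne_zero (by norm_num))]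
    rfl
  have e : cst (b + pr i) = cst b + cst (pr i) := AddMonoidHom.ext fun x => Int.cast_add _ _
  rw [e, Bf_add T.sym, h3, Bf_pr, Bf_pr, cst_apply (pr i), show pr i (B i) = B i i from rfl,
    (ZMod.intCast_zmod_eq_zero_iff_dvd _ 3).2 T.ii, zero_add, add_zero,
    app_congr (cst b) (y := ε • (vec D l (ρ 0 1) - vec D l (ρ 1 2))) T.dif, map_zsmul, zsmul_eq_mul] at h4
  have h5 : (ε : ZMod 3) ≠ 0 := fun h => T.eps ((ZMod.intCast_zmod_eq_zero_iff_dvd _ 3).1 h)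
  have h6 := (mul_eq_zero.1 ((mul_eq_zero.1 h4).resolve_left (by decide))).resolve_left h5
  rw [cst_apply, ZMod.intCast_zmod_eq_zero_iff_dvd, map_sub] at h6
  rw [hb, hb]
  exact zpow_congr hζ (by norm_num) h6

/-- the elements of the class on which all simple roots other than `i`, `j` are trivial -/
theorem mem_zpowers (T : Tb D l i j ρ B d ε) {ζ : KK r} (hζ : IsPrimitiveRoot ζ 3) {z y : YY D r} (hz : Std hp r ζ i z)
    (hy : y ∈ TT D (KK r)) (h1 : y ∈ Om hp r 3 i) (h2 : ∀ m, m ≠ i → m ≠ j → cX hp y (sr m) = 1) :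
    y ∈ Subgroup.zpowers z := by
  obtain ⟨b, hb⟩ := exists_exp hp (by norm_num) hζ hy (pow_of_Om h1)
  have h3 := sing T hy h1 hζ hb
  have hij : i ≠ j := fun h => T.jj (h ▸ T.ii)
  have h4 : ∀ m, m ≠ i → m ≠ j → cst b (sr m) = 0 := fun m a c => by
    rw [cst_apply, ZMod.intCast_zmod_eq_zero_iff_dvd, ← hζ.zpow_eq_one_iff_dvd, ← hb, h2 m a c]
  have h5 : ∀ f : Fin l → ZMod 3, ∑ m, f m * cst b (sr m) = f i * cst b (sr i) + f j * cst b (sr j) := fun f =>
    Finset.sum_eq_add_of_mem i j (Finset.mem_univ _) (Finset.mem_univ _) hij fun m _ h => by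
      rw [h4 m h.1 h.2, mul_zero]
  have a1 := (ZMod.intCast_zmod_eq_zero_iff_dvd _ 3).2 T.ii
  have a2 := (ZMod.intCast_zmod_eq_zero_iff_dvd _ 3).2 T.ij
  have a3 : (B j j : ZMod 3) ≠ 0 := fun h => T.jj ((ZMod.intCast_zmod_eq_zero_iff_dvd _ 3).1 h)
  rw [Bf, Finset.sum_congr rfl fun m _ => mul_comm _ _, h5, app _ (B i), app _ (B j), h5, h5, T.sym j i, a1, a2] at h3
  simp only [zero_mul, zero_add, add_zero, mul_eq_zero, a3, false_or, or_self] at h3
  obtain ⟨n, -, hn⟩ := hζ.eq_pow_of_pow_eq_one (ξ := cX hp y (sr i)) (by rw [← cX_pow hp hy, pow_of_Om h1, cX_one])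
  refine ⟨n, ?_⟩
  show z ^ (n : ℤ) = y
  rw [zpow_natCast]
  refine cX_inj hp (pow_mem hz.1 n) hy fun m => ?_
  rw [cX_pow hp hz.1, hz.2]
  by_cases a : m = i
  · rw [a, sr_self, zpow_one, hn]
  · rw [sr_ne (Ne.symm a), zpow_zero, one_pow]
    by_cases c : m = j
    · rw [c, hb, eq_comm, hζ.zpow_eq_one_iff_dvd]
      exact (ZMod.intCast_zmod_eq_zero_iff_dvd _ 3).1 h3
    · exact (h2 m a c).symm

end Qf

theorem tb_E7 : Tb chevE7 7 2 0 (rho3 chevE7 93 124) ![![4, 4, 6, 8, 6, 4, 2], ![4, 7, 8, 12, 9, 6, 3],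
    ![6, 8, 12, 16, 12, 8, 4], ![8, 12, 16, 24, 18, 12, 6], ![6, 9, 12, 18, 15, 10, 5], ![4, 6, 8, 12, 10, 8, 4],
    ![2, 3, 4, 6, 5, 4, 3]] 2 2 :=
  ⟨by decide +kernel, by decide +kernel, by decide +kernel, by decide +kernel, by decide +kernel, by decide +kernel,
    by decide +kernel, by decide +kernel, by decide +kernel⟩

theorem tb_E8 : Tb chevE8 8 6 7 (rho3 chevE8 120 238) ![![4, 5, 7, 10, 8, 6, 4, 2], ![5, 8, 10, 15, 12, 9, 6, 3],
    ![7, 10, 14, 20, 16, 12, 8, 4], ![10, 15, 20, 30, 24, 18, 12, 6], ![8, 12, 16, 24, 20, 15, 10, 5],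
    ![6, 9, 12, 18, 15, 12, 8, 4], ![4, 6, 8, 12, 10, 8, 6, 3], ![2, 3, 4, 6, 5, 4, 3, 2]] 1 1 :=
  ⟨by decide +kernel, by decide +kernel, by decide +kernel, by decide +kernel, by decide +kernel, by decide +kernel,
    by decide +kernel, by decide +kernel, by decide +kernel⟩

end Cfsg.Agent.TO.T3
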