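import Cfsg.Agent.TO.T3.Iface
import Cfsg.Agent.DS.Nt.JAbs

/-!
# S4817, `p = 3`: regular elements acting on `SL₃` (helper1)
-/

set_option autoImplicit false

namespace Cfsg.Agent.TO.T3.SL

open Matrix Subgroup Cfsg.Agent.DS.Nt Cfsg.Agent.DS.Nt.JL
open scoped commutatorElement

variable {k : Type} [Field k]

/-- `g` is the diagonal matrix `v` -/
def Dg (g : SpecialLinearGroup (Fin 3) k) (v : Fin 3 → k) : Prop := (g : Matrix (Fin 3) (Fin 3) k) = diagonal v

theorem exists_dg (v : Fin 3 → k) (h : v 0 * v 1 * v 2 = 1) : ∃ g, Dg g v :=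
  ⟨⟨diagonal v, by rw [det_diagonal, Fin.prod_univ_three, h]⟩, rfl⟩

variable {g g' d : SpecialLinearGroup (Fin 3) k} {u v : Fin 3 → k}

theorem Dg.det (h : Dg g v) : v 0 * v 1 * v 2 = 1 := by
  have h1 := g.2
  rwa [h, det_diagonal, Fin.prod_univ_three] at h1

theorem Dg.ne (h : Dg g v) (i : Fin 3) : v i ≠ 0 := by
  intro h0
  have h1 := h.det
  fin_cases i <;> simp_all

theorem Dg.eq (h : Dg g v) (h' : Dg g' v) : g = g' := Subtype.ext (h.trans h'.symm)

theorem Dg.mul (h : Dg g u) (h' : Dg g' v) : Dg (g * g') (fun i => u i * v i) := by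
  unfold Dg at *
  rw [Matrix.SpecialLinearGroup.coe_mul, h, h', diagonal_mul_diagonal]

theorem dg_one : Dg (1 : SpecialLinearGroup (Fin 3) k) fun _ => 1 := by
  unfold Dg
  rw [Matrix.SpecialLinearGroup.coe_one, diagonal_one]

theorem Dg.pow (h : Dg g u) (n : ℕ) : Dg (g ^ n) (fun i => u i ^ n) := by
  induction n with
  | zero => simpa using dg_one
  | succ n ih => simpa only [pow_succ] using ih.mul h

theorem Dg.comm (h : Dg g u) (h' : Dg g' v) : g * g' = g' * g :=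
  (h.mul h').eq (by simpa only [mul_comm] using h'.mul h)

theorem dg_of_comm (hd : Dg d v) (hv : Function.Injective v) (h : g * d = d * g) : ∃ u, Dg g u := by
  refine ⟨fun i => (g : Matrix (Fin 3) (Fin 3) k) i i, ?_⟩
  have h1 := congrArg Subtype.val h
  rw [Matrix.SpecialLinearGroup.coe_mul, Matrix.SpecialLinearGroup.coe_mul, hd] at h1
  ext i j
  rw [diagonal_apply]
  split_ifs with hij
  · rw [hij]
  · have h2 := congrFun (congrFun h1 i) j
    rw [mul_diagonal, diagonal_mul] at h2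
    have h3 : (g : Matrix (Fin 3) (Fin 3) k) i j * (v j - v i) = 0 := by linear_combination h2
    exact (mul_eq_zero.1 h3).resolve_right fun h4 => hij (hv (sub_eq_zero.1 h4).symm)

/-- the cyclic permutation matrix -/
def cyc : SpecialLinearGroup (Fin 3) k := ⟨!![0, 0, 1; 1, 0, 0; 0, 1, 0], by simp [det_fin_three]⟩

theorem Dg.cyc (h : Dg g v) : Dg (cyc * g * cyc⁻¹) ![v 2, v 0, v 1] := by
  obtain ⟨g', hg⟩ := exists_dg ![v 2, v 0, v 1] (by show v 2 * v 0 * v 1 = 1; linear_combination h.det)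
  have h1 : SL.cyc * g = g' * SL.cyc := by
    apply Subtype.ext
    rw [Matrix.SpecialLinearGroup.coe_mul, Matrix.SpecialLinearGroup.coe_mul, h, hg]
    ext i j
    rw [mul_diagonal, diagonal_mul]
    fin_cases i <;> fin_cases j <;> simp [SL.cyc]
  rw [h1, mul_inv_cancel_right]
  exact hg

theorem Dg.cen {c : k} (h : Dg g fun _ => c) : g ∈ center (SpecialLinearGroup (Fin 3) k) :=
  mem_center_of_scalar (c := c) (by rw [h, smul_one_eq_diagonal])

variable {Y : Type} [Group Y] {ψ : SpecialLinearGroup (Fin 3) k →* Y} {z y : Y}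

theorem exists_z (h : SD ψ z) (hz : z ≠ 1) : ∃ c ∈ center (SpecialLinearGroup (Fin 3) k), c ≠ 1 ∧ ψ c = z := by
  obtain ⟨c, hc⟩ := h.mem
  refine ⟨c, ((JL.Inn.self c).cen_iff h.inj).1 (by rw [hc]; exact h.cen), ?_, hc⟩
  rintro rfl
  exact hz (hc.symm.trans (map_one ψ))

theorem int_of (h : SD ψ z) (hz : z ≠ 1) {x : Y} (hx : x ∈ ψ.range) (hc : x ∈ Ce ψ.range) : x ∈ zpowers z := by
  obtain ⟨c, h1, h2, rfl⟩ := exists_z h hz
  obtain ⟨g, rfl⟩ := hx
  obtain ⟨a, rfl⟩ := cen_cyc Nat.prime_three h1 h2 (((JL.Inn.self g).cen_iff h.inj).1 hc)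
  rw [map_pow]
  exact npow_mem_zpowers _ _

theorem dec_of (h : SD ψ z) {x : Y} (hx : x * z = z * x) : ∃ a ∈ Ce ψ.range, ∃ b ∈ ψ.range, x = a * b := by
  obtain ⟨j, hj⟩ := h.fac x hx
  refine ⟨x * (ψ j)⁻¹, ((hj.mul (JL.Inn.self j).inv).cen_iff h.inj).2 ?_, ψ j, ⟨j, rfl⟩, by group⟩
  rw [mul_inv_cancel]
  exact one_mem _

section Reg

variable {ω : k} (hω : IsPrimitiveRoot ω 3) (hd : Dg d v) (h01 : v 0 = ω * v 1) (h12 : v 1 = ω * v 2)

include hω hd h01 h12

theorem inj_v : Function.Injective v := by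
  have h0 := hd.ne 2
  have h1 : ω ≠ 1 := hω.ne_one (by norm_num)
  have h2 : ω * ω ≠ 1 := fun h => hω.pow_ne_one_of_pos_of_lt (l := 2) (by norm_num) (by norm_num) (by rw [sq, h])
  have h3 : ω ≠ 0 := hω.ne_zero (by norm_num)
  have a : v 1 ≠ v 2 := fun h => h1 (mul_right_cancel₀ h0 (by rw [← h12, h, one_mul]))
  have b : v 0 ≠ v 2 := fun h => h2 (mul_right_cancel₀ h0 (by rw [mul_assoc, ← h12, ← h01, h, one_mul]))
  have c : v 0 ≠ v 1 := fun h => h1 (mul_right_cancel₀ (hd.ne 1) (by rw [← h01, h, one_mul]))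
  intro i j hij
  fin_cases i <;> fin_cases j <;>
    first | rfl | exact absurd hij a | exact absurd hij b | exact absurd hij c | exact absurd hij a.symm |
      exact absurd hij b.symm | exact absurd hij c.symm

theorem mem_iff (hi : Function.Injective ψ) (hy : JL.Inn ψ y d) {t : Y} :
    t ∈ ψ.range ⊓ Cu y ↔ ∃ g u, Dg g u ∧ ψ g = t := by
  constructor
  · rintro ⟨⟨g, rfl⟩, h2⟩
    have h3 : y * ψ g = ψ g * y := mem_centralizer_iff.1 h2 y rfl
    have h4 : d * g * d⁻¹ = g := hi (by rw [← hy, h3, mul_inv_cancel_right])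
    obtain ⟨u, hu⟩ := dg_of_comm hd (inj_v hω hd h01 h12) (g := g) (by rw [← mul_inv_eq_iff_eq_mul.1 h4])
    exact ⟨g, u, hu, rfl⟩
  · rintro ⟨g, u, hu, rfl⟩
    exact ⟨⟨g, rfl⟩, mem_centralizer_singleton_iff.2 (hy.comm (hd.comm hu))⟩

theorem exists_c : ∃ c ∈ center (SpecialLinearGroup (Fin 3) k), c ≠ 1 ∧ cyc * d * cyc⁻¹ = c * d := by
  have h3 : ω * ω * ω = 1 := by rw [← hω.pow_eq_one]; ring
  obtain ⟨c, hc⟩ := exists_dg (fun _ => ω) h3
  refine ⟨c, hc.cen, fun h => hω.ne_one (by norm_num) ?_, hd.cyc.eq ?_⟩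
  · have h1 := congrFun (congrFun hc 0) 0
    rw [h] at h1
    simpa using h1.symm
  · have e : ![v 2, v 0, v 1] = fun i => ω * v i := by
      funext i
      fin_cases i
      · show v 2 = ω * v 0
        rw [h01, h12, ← mul_assoc, ← mul_assoc, h3, one_mul]
      · exact h01
      · exact h12
    rw [e]
    exact hc.mul hd

/-- **Regular elements.** -/
theorem reg [IsAlgClosed k] (h : SD ψ z) (hz : z ≠ 1) (hy : JL.Inn ψ y d) : Reg ψ.range z y (ψ cyc) := by
  have hm := @mem_iff k _ d v Y _ ψ y ω hω hd h01 h12 h.inj hy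
  obtain ⟨c, hc, hc1, e⟩ := exists_c hω hd h01 h12
  refine ⟨⟨_, rfl⟩, ?_, fun t ht n hn => ?_, fun t ht => ?_, fun x hxz hxy => ?_, fun s hs hst => ?_, ?_⟩
  · obtain ⟨c', h1, h2, rfl⟩ := exists_z h hz
    have h3 : ψ cyc * y * (ψ cyc)⁻¹ = y * ψ c := by
      have h4 := hy.inv cyc
      rw [inv_inv, inv_inv] at h4
      calc ψ cyc * y * (ψ cyc)⁻¹ = y * ((y⁻¹ * ψ cyc * y) * (ψ cyc)⁻¹) := by group
        _ = y * ψ (d⁻¹ * (cyc * d * cyc⁻¹)) := by rw [h4, ← map_inv, ← map_mul]; simp only [mul_assoc]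
        _ = _ := by rw [e, ← mem_center_iff.1 hc d, inv_mul_cancel_left]
    obtain ⟨a, rfl⟩ := cen_cyc Nat.prime_three h1 h2 hc
    have h5 := cen_pow h1
    have h7 : c' ^ a = c' ^ (a % 3) := by
      conv_lhs => rw [← Nat.div_add_mod a 3, pow_add, pow_mul, h5, one_pow, one_mul]
    rw [h3]
    rw [h7] at hc1 ⊢
    have h6 : a % 3 = 0 ∨ a % 3 = 1 ∨ a % 3 = 2 := by omega
    rcases h6 with h6 | h6 | h6 <;> rw [h6] at hc1 ⊢
    · exact (hc1 (pow_zero _)).elim
    · exact Or.inl (by rw [pow_one])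
    · refine Or.inr ?_
      rw [← map_inv, eq_inv_of_mul_eq_one_left (a := c' ^ 2) (by rw [← pow_succ, h5])]
  · obtain ⟨g, u, hu, rfl⟩ := hm.1 ht
    obtain ⟨a, ha⟩ := IsAlgClosed.exists_pow_nat_eq (u 0) (Nat.pos_of_ne_zero hn)
    obtain ⟨b, hb⟩ := IsAlgClosed.exists_pow_nat_eq (u 1) (Nat.pos_of_ne_zero hn)
    have ha0 : a ≠ 0 := fun h0 => hu.ne 0 (by rw [← ha, h0, zero_pow hn])
    have hb0 : b ≠ 0 := fun h0 => hu.ne 1 (by rw [← hb, h0, zero_pow hn])
    obtain ⟨g', hg⟩ := exists_dg ![a, b, (a * b)⁻¹] (mul_inv_cancel₀ (mul_ne_zero ha0 hb0))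
    refine ⟨ψ g', hm.2 ⟨g', _, hg, rfl⟩, ?_⟩
    rw [← map_pow]
    refine congrArg ψ ((hg.pow n).eq ?_)
    have e' : (fun i => ![a, b, (a * b)⁻¹] i ^ n) = u := by
      funext i
      fin_cases i
      · exact ha
      · exact hb
      · show (a * b)⁻¹ ^ n = u 2
        rw [inv_pow, mul_pow, ha, hb]
        exact (eq_inv_of_mul_eq_one_right hu.det).symm
    rw [e']
    exact hu
  · obtain ⟨g, u, hu, rfl⟩ := hm.1 ht
    have h1 := ((hu.mul hu.cyc).mul hu.cyc.cyc).eq (g' := 1) (by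
      have e' : (fun i => u i * ![u 2, u 0, u 1] i * ![![u 2, u 0, u 1] 2, ![u 2, u 0, u 1] 0, ![u 2, u 0, u 1] 1] i) =
          fun _ => 1 := by
        funext i
        have h2 := hu.det
        fin_cases i
        · show u 0 * u 2 * u 1 = 1
          linear_combination h2
        · show u 1 * u 0 * u 2 = 1
          linear_combination h2
        · show u 2 * u 1 * u 0 = 1
          linear_combination h2
      rw [e']
      exact dg_one)
    simp only [← map_inv, ← map_mul]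
    rw [h1, map_one]
  · obtain ⟨j, hj⟩ := h.fac x hxz
    obtain ⟨a, ha⟩ := cen_cyc Nat.prime_three hc hc1 (hj.cmt_cen h.inj hy hxy)
    have h1 : ∀ n : ℕ, cyc ^ n * d * (cyc ^ n)⁻¹ = c ^ n * d := by
      intro n
      induction n with
      | zero => simp
      | succ n ih =>
        calc cyc ^ (n + 1) * d * (cyc ^ (n + 1))⁻¹ = cyc ^ n * (cyc * d * cyc⁻¹) * (cyc ^ n)⁻¹ := by
              rw [pow_succ]; group
          _ = c * (cyc ^ n * d * (cyc ^ n)⁻¹) := by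
              rw [e, ← mul_assoc, mem_center_iff.1 hc (cyc ^ n)]; group
          _ = _ := by rw [ih, pow_succ']; group
    have h2 : j * d * j⁻¹ = cyc ^ a * d * (cyc ^ a)⁻¹ := by
      rw [h1, ← ha, commutatorElement_def]; group
    obtain ⟨w, hw⟩ := dg_of_comm hd (inj_v hω hd h01 h12) (g := (cyc ^ a)⁻¹ * j) (by
      calc (cyc ^ a)⁻¹ * j * d = (cyc ^ a)⁻¹ * (j * d * j⁻¹) * j := by group
        _ = _ := by rw [h2]; group)
    refine ⟨a, fun t ht => ?_⟩
    obtain ⟨g, u, hu, rfl⟩ := hm.1 ht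
    rw [hj, ← map_pow, ← map_inv, ← map_mul, ← map_mul]
    congr 1
    calc j * g * j⁻¹ = cyc ^ a * ((cyc ^ a)⁻¹ * j * g) * j⁻¹ := by group
      _ = _ := by rw [hw.comm hu]; group
  · obtain ⟨g, rfl⟩ := hs
    have h1 := hst (ψ d) (hm.2 ⟨d, v, hd, rfl⟩)
    rw [← map_mul, ← map_mul] at h1
    exact hy.comm (h.inj h1).symm
  · have h3 : ω ^ 3 = 1 := hω.pow_eq_one
    obtain ⟨b, hb⟩ := exists_dg ![1, ω, ω ^ 2] (by show 1 * ω * ω ^ 2 = 1; linear_combination h3)
    refine ⟨ψ b, hm.2 ⟨b, _, hb, rfl⟩, ?_, fun hz' => ?_⟩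
    · rw [← map_pow, (hb.pow 3).eq (g' := 1), map_one]
      have e' : (fun i => ![1, ω, ω ^ 2] i ^ 3) = fun _ => (1 : k) := by
        funext i
        fin_cases i
        · exact one_pow 3
        · exact h3
        · show (ω ^ 2) ^ 3 = 1
          rw [← pow_mul, mul_comm, pow_mul, h3, one_pow]
      rw [e']
      exact dg_one
    · obtain ⟨c', -, h4⟩ := scalar_of_mem_center (((JL.Inn.self b).cen_iff h.inj).1 (zpowers_le.2 h.cen hz'))
      rw [hb] at h4
      have h5 := congrFun (congrFun h4 0) 0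
      have h6 := congrFun (congrFun h4 1) 1
      simp at h5 h6
      exact hω.ne_one (by norm_num) (h6.trans h5.symm)

end Reg

end Cfsg.Agent.TO.T3.SL
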